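import Cfsg.Agent.H86.HalfDeg.Ambient
import Cfsg.Agent.S4503
import Cfsg.Agent.CharBasic.Equivalence

/-!
# The reduction to the normal closure of `x`
-/

set_option autoImplicit false
set_option linter.unusedSectionVars false
set_option linter.style.haveILetI false

namespace Cfsg.Agent.H86.HalfDeg

open CharBasic Matrix

variable {G : Type*} [Group G] [Finite G] {p : ℕ} [hp : Fact p.Prime] {n : ℕ}

/-- The normal closure of `x` is generated by the conjugates of `x` inside itself. -/
theorem normalClosure_gen (hsq : ¬ p ^ 2 ∣ Nat.card G) {x : G} (hx : orderOf x = p)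
    (K : Subgroup (Subgroup.normalClosure ({x} : Set G))) (hK : K.Normal)
    (hxK : (⟨x, Subgroup.subset_normalClosure (Set.mem_singleton x)⟩ :
      Subgroup.normalClosure ({x} : Set G)) ∈ K) : K = ⊤ := by
  let N := Subgroup.normalClosure ({x} : Set G)
  let x' : N := ⟨x, Subgroup.subset_normalClosure (Set.mem_singleton x)⟩
  have hsqN : ¬ p ^ 2 ∣ Nat.card N := fun h => hsq (h.trans (Subgroup.card_subgroup_dvd_card N))
  have hx' : orderOf x' = p := by rw [Subgroup.orderOf_mk, hx]
  have hle : N ≤ K.map N.subtype := by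
    show Subgroup.closure _ ≤ _
    refine (Subgroup.closure_le _).2 fun y hy => ?_
    obtain ⟨a, ha, hy'⟩ := Group.mem_conjugatesOfSet_iff.1 hy
    rw [Set.mem_singleton_iff] at ha
    subst ha
    obtain ⟨g, hg⟩ := isConj_iff.1 hy'
    have hyN : y ∈ N := hg ▸ Subgroup.normalClosure_normal.conj_mem a x'.2 g
    have hoy : orderOf (⟨y, hyN⟩ : N) = p := by
      rw [Subgroup.orderOf_mk, ← hg]
      exact ((MulAut.conj g).orderOf_eq a).trans hx
    obtain ⟨k, hk⟩ := exists_conj_pow hsqN hx' hoy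
    refine ⟨⟨y, hyN⟩, ?_, rfl⟩
    have h1 := hK.conj_mem _ (Subgroup.zpowers_le.2 hxK hk) k⁻¹
    simpa [mul_assoc] using h1
  rw [eq_top_iff]
  intro y _
  obtain ⟨z, hz, hzy⟩ := hle y.2
  rwa [← Subtype.ext hzy]

/-- The setting on the normal closure. -/
theorem exists_hyp (ρ : Representation ℂ G (Fin n → ℂ))
    (hfaith : ∀ g : G, ρ.character g = ρ.character 1 → g = 1)
    (hsq : ¬ p ^ 2 ∣ Nat.card G) (hnn : ∀ H : Subgroup G, H.Normal → Nat.card H ≠ p)
    (hpn : 2 * n + 1 = p) {x : G} (hx : orderOf x = p) :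
    ∃ σ : Representation ℂ (Subgroup.normalClosure ({x} : Set G)) (Fin n → ℂ),
      Hyp σ p (⟨x, Subgroup.subset_normalClosure (Set.mem_singleton x)⟩ :
        Subgroup.normalClosure ({x} : Set G)) ∧
      Representation.IsIrreducible (ρ.comp (Subgroup.normalClosure ({x} : Set G)).subtype :
        Representation ℂ (Subgroup.normalClosure ({x} : Set G)) (Fin n → ℂ)) := by
  classical
  set K := Subgroup.normalClosure ({x} : Set G) with hKdef
  set x' : K := ⟨x, Subgroup.subset_normalClosure (Set.mem_singleton x)⟩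
  have hsqK : ¬ p ^ 2 ∣ Nat.card K := fun h => hsq (h.trans (Subgroup.card_subgroup_dvd_card K))
  have hx' : orderOf x' = p := by rw [Subgroup.orderOf_mk, hx]
  have hgen := normalClosure_gen hsq hx
  have hchK : Cfsg.IsCharacter K (fun k => ρ.character k) := ⟨n, ρ.comp K.subtype, rfl⟩
  obtain ⟨s, hs⟩ := IsChar.eq_multiset_sum hchK
  have hsum : ∀ k : K, ρ.character k =
      (s.map fun φ : Cfsg.IrrCharacter K => (φ : K → ℂ) k).sum := fun k => by
    rw [show ρ.character k = (fun k : K => ρ.character k) k from rfl, hs]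
    simp [Multiset.map_map, Pi.multiset_sum_apply]
  obtain ⟨φ, hφs, hφ1⟩ : ∃ φ ∈ s, (φ : K → ℂ) 1 ≠ 1 := by
    by_contra hall
    push Not at hall
    have hab : ∀ a b : K, a * b = b * a := fun a b => by
      have h1 : a * b * a⁻¹ * b⁻¹ = 1 := by
        refine Subtype.ext (hfaith _ ?_)
        rw [hsum, show ρ.character 1 = ρ.character ((1 : K) : G) from rfl, hsum]
        exact congrArg Multiset.sum (Multiset.map_congr rfl fun φ hφ =>
          Cfsg.Agent.S4503.commutator_apply _ φ.2 (hall φ hφ) a b)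
      rwa [mul_inv_eq_one, mul_inv_eq_iff_eq_mul] at h1
    refine hnn (Subgroup.zpowers x) ⟨fun z hz g => ?_⟩ (by rw [Nat.card_zpowers, hx])
    obtain ⟨i, rfl⟩ := Subgroup.mem_zpowers_iff.1 hz
    rw [← conj_zpow]
    refine (Subgroup.zpowers x).zpow_mem ?_ i
    have hyK : g * x * g⁻¹ ∈ K := Subgroup.normalClosure_normal.conj_mem x x'.2 g
    obtain ⟨k, hk⟩ := exists_conj_pow hsqK hx' (y := ⟨_, hyK⟩) (by
      rw [Subgroup.orderOf_mk]; exact ((MulAut.conj g).orderOf_eq x).trans hx)
    rw [hab k, mul_inv_cancel_right] at hk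
    obtain ⟨j, hj⟩ := Subgroup.mem_zpowers_iff.1 hk
    exact ⟨j, by simpa [x'] using congrArg Subtype.val hj⟩
  obtain ⟨m, σ, hσ, hσφ⟩ := φ.2
  have hm : (φ : K → ℂ) 1 = m := by rw [← hσφ]; simp
  have hm1 : m ≠ 1 := by rintro rfl; exact hφ1 (by rw [hm, Nat.cast_one])
  have hm0 : m ≠ 0 := by
    obtain ⟨m', hm', h⟩ := IsIrr.exists_degree φ.2
    rw [hm, Nat.cast_inj] at h
    omega
  obtain ⟨r, hr⟩ := Multiset.exists_cons_of_mem hφs
  have hdeg : ∀ t : Multiset (Cfsg.IrrCharacter K), ∃ d : ℕ,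
      (t.map fun φ : Cfsg.IrrCharacter K => (φ : K → ℂ) 1).sum = d ∧ (d = 0 → t = 0) := by
    intro t
    induction t using Multiset.induction_on with
    | empty => exact ⟨0, by simp, fun _ => rfl⟩
    | cons a t ih =>
      obtain ⟨d, hd, -⟩ := ih
      obtain ⟨d', hd'0, hd'⟩ := IsIrr.exists_degree a.2
      exact ⟨d' + d, by rw [Multiset.map_cons, Multiset.sum_cons, hd, hd']; push_cast; rfl,
        fun h => by omega⟩
  obtain ⟨d, hd, hd0⟩ := hdeg r
  have h1 := hsum 1
  rw [hr, Multiset.map_cons, Multiset.sum_cons, hm, hd] at h1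
  simp only [OneMemClass.coe_one, Representation.char_one, Module.finrank_fin_fun] at h1
  norm_cast at h1
  have hmn : m = n := by
    by_contra hne
    obtain ⟨O, t, e, D⟩ := H81.exists_primeSylowData p hsqK x' hx'
    haveI := hσ
    exact H81.small_degree_false σ (by omega) (by omega) D hgen
  subst hmn
  have hr0 : r = 0 := hd0 (by omega)
  have hchar : ∀ k : K, ρ.character k = σ.character k := fun k => by
    rw [hsum, hr, hr0, hσφ]
    simp
  refine ⟨σ, ⟨hσ, fun a b hab => ?_, by omega, hpn, hsqK, hx', hgen⟩, ?_⟩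
  · have h2 : σ (a⁻¹ * b) = σ 1 := by
      rw [map_mul, ← hab, ← map_mul, inv_mul_cancel]
    have h3 : ρ.character ((a⁻¹ * b : K) : G) = ρ.character 1 := by
      rw [show ρ.character 1 = ρ.character ((1 : K) : G) from rfl, hchar, hchar]
      exact congrArg (LinearMap.trace ℂ _) h2
    exact inv_mul_eq_one.1 (Subtype.ext (hfaith _ h3))
  · obtain ⟨e⟩ := nonempty_equiv_of_character_eq σ (ρ.comp K.subtype)
      (funext fun k => (hchar k).symm)
    haveI := hσ
    exact isIrreducible_of_equiv e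

/-- The multipliers of the normalizer in `G` all occur in the normal closure. -/
theorem exists_same_multiplier (ρ : Representation ℂ G (Fin n → ℂ))
    (hinj : Function.Injective ρ) {x : G} (hx : orderOf x = p) (hxZ : x ∉ Subgroup.center G)
    {A : Finset (ZMod p)} (hA : n ≤ A.card)
    (hreal : ∀ a ∈ A, ∃ (k : G) (i : ℕ), k * x * k⁻¹ = x ^ i ∧ (i : ZMod p) = a) {g : G} {j : ℕ}
    (hg : g * x * g⁻¹ = x ^ j) : (j : ZMod p) ∈ A := by
  classical
  set N := Subgroup.normalizer ((Subgroup.zpowers x : Subgroup G) : Set G)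
  have hex : ∀ g : N, ∃ i : ℕ, (g : G) * x * (g : G)⁻¹ = x ^ i := fun g => by
    obtain ⟨i, hi⟩ := mem_powers_iff_mem_zpowers.2
      ((Subgroup.mem_normalizer_iff.1 g.2 x).1 (Subgroup.mem_zpowers x))
    exact ⟨i, hi.symm⟩
  choose i hi using hex
  have hval : ∀ (g : N) (k : ℕ), (g : G) * x * (g : G)⁻¹ = x ^ k → (i g : ZMod p) = k := fun g k hk => by
    rw [ZMod.natCast_eq_natCast_iff, ← hx, ← pow_eq_pow_iff_modEq, ← hi, hk]
  let f : N →* ZMod p :=
    { toFun := fun g => (i g : ZMod p)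
      map_one' := by rw [hval 1 1 (by simp), Nat.cast_one]
      map_mul' := fun a b => by
        rw [hval (a * b) (i a * i b) ?_, Nat.cast_mul]
        rw [Subgroup.coe_mul, _root_.mul_inv_rev,
          show (a : G) * b * x * ((b : G)⁻¹ * (a : G)⁻¹) =
            a * ((b : G) * x * (b : G)⁻¹) * (a : G)⁻¹ by simp [mul_assoc],
          hi b, ← conj_pow, hi a, pow_mul] }
  haveI : IsCyclic (ZMod p)ˣ := inferInstance
  haveI : IsCyclic f.toHomUnits.range := Subgroup.isCyclic _
  obtain ⟨⟨u, t, rfl⟩, hu⟩ := IsCyclic.exists_generator (α := f.toHomUnits.range)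
  have hR : Nat.card f.toHomUnits.range ≤ n := by
    have h1 : orderOf (i t : ZMod p) ≤ n :=
      orderOf_le_of_not_center hinj hx hxZ (hi t)
    rw [← orderOf_eq_card_of_forall_mem_zpowers hu, ← Subgroup.orderOf_coe, ← orderOf_units]
    exact h1
  let B : Finset (ZMod p) := (f.toHomUnits.range : Set (ZMod p)ˣ).toFinset.image Units.val
  have hmem : ∀ (g : G) (k : ℕ), g * x * g⁻¹ = x ^ k → (k : ZMod p) ∈ B := fun g k hk => by
    have hgN : g ∈ N := mem_normalizer_of_conj g (hk ▸ Subgroup.pow_mem _ (Subgroup.mem_zpowers x) k)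
    refine Finset.mem_image.2 ⟨f.toHomUnits ⟨g, hgN⟩, Set.mem_toFinset.2 ⟨_, rfl⟩, ?_⟩
    exact hval ⟨g, hgN⟩ k hk
  have hAB : A ⊆ B := fun a ha => by
    obtain ⟨k, i', hk, rfl⟩ := hreal a ha
    exact hmem k i' hk
  have hB : B.card ≤ n := by
    refine Finset.card_image_le.trans ?_
    rw [← Set.ncard_eq_toFinset_card', ← Nat.card_coe_set_eq]
    exact hR
  rw [Finset.eq_of_subset_of_card_le hAB (hB.trans hA)]
  exact hmem g j hg

/-- The main theorem. -/
theorem main (ρ : Representation ℂ G (Fin n → ℂ))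
    (hfaith : ∀ g : G, ρ.character g = ρ.character 1 → g = 1)
    (hsq : ¬ p ^ 2 ∣ Nat.card G) (hnn : ∀ H : Subgroup G, H.Normal → Nat.card H ≠ p)
    (hdiv : p ∣ Nat.card G) (hpn : 2 * n + 1 = p) :
    Nonempty ((G ⧸ Subgroup.center G) ≃* ProjectiveSpecialLinearGroup (Fin 2) (ZMod p)) := by
  classical
  obtain ⟨x, hx⟩ := exists_prime_orderOf_dvd_card' p hdiv
  obtain ⟨σ, h, hirr⟩ := exists_hyp ρ hfaith hsq hnn hpn hx
  let K := Subgroup.normalClosure ({x} : Set G)
  let x' : K := ⟨x, Subgroup.subset_normalClosure (Set.mem_singleton x)⟩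
  haveI hσirr := h.irr
  haveI hρirr := hirr
  have hinj : Function.Injective ρ := fun a b hab => by
    refine inv_mul_eq_one.1 (hfaith _ ?_)
    refine congrArg (LinearMap.trace ℂ _) ?_
    rw [map_mul, ← hab, ← map_mul, inv_mul_cancel]
  have hxK : x' ∉ Subgroup.center K := not_mem_center σ h.two_le h.gen
  have hxZ : x ∉ Subgroup.center G := fun hz => hxK
    (Subgroup.mem_center_iff.2 fun k => Subtype.ext (Subgroup.mem_center_iff.1 hz k))
  obtain ⟨⟨e⟩, hsyl, A, hA, hreal⟩ := core h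
  -- `G` is the product of `K` and the centre
  have hdec : ∀ g : G, ∃ k : K, ∃ z ∈ Subgroup.center G, g = k * z := by
    intro g
    have hyK : g * x * g⁻¹ ∈ K := Subgroup.normalClosure_normal.conj_mem x x'.2 g
    obtain ⟨k, hk⟩ := exists_conj_pow h.sq h.order (y := ⟨_, hyK⟩) (by
      rw [Subgroup.orderOf_mk]; exact ((MulAut.conj g).orderOf_eq x).trans hx)
    obtain ⟨j, hj⟩ := mem_powers_iff_mem_zpowers.2 hk
    have hj' : ((k : G) * g) * x * ((k : G) * g)⁻¹ = x ^ j := by
      have h1 := congrArg Subtype.val hj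
      simp only [SubgroupClass.coe_pow, Subgroup.coe_mul, Subgroup.coe_inv] at h1
      rw [h1, _root_.mul_inv_rev]
      simp [mul_assoc]
    have hmem : (j : ZMod p) ∈ A := exists_same_multiplier ρ hinj hx hxZ hA (fun a ha => by
      obtain ⟨k', i, hk', hi⟩ := hreal a ha
      exact ⟨k', i, by simpa [x'] using congrArg Subtype.val hk', hi⟩) hj'
    obtain ⟨k₀, i, hk₀, hi⟩ := hreal _ hmem
    have hk₀' : (k₀ : G) * x * (k₀ : G)⁻¹ = x ^ j := by
      have h1 : (k₀ : G) * x * (k₀ : G)⁻¹ = x ^ i := by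
        simpa [x'] using congrArg Subtype.val hk₀
      rw [h1, pow_eq_pow_iff_modEq, hx, ← ZMod.natCast_eq_natCast_iff]
      exact hi
    set c := (k₀ : G)⁻¹ * ((k : G) * g) with hc
    have hcx : Commute c (x' : G) := by
      show c * x = x * c
      have h1 : (k : G) * g * x = (k₀ : G) * x * (k₀ : G)⁻¹ * ((k : G) * g) := by
        rw [hk₀', ← hj', inv_mul_cancel_right]
      rw [hc, mul_assoc, h1]
      simp [mul_assoc]
    obtain ⟨l, hl⟩ := exists_centralizing h hsyl hcx
    set z := ((x' : G) ^ l)⁻¹ * c with hz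
    have hzZ : z ∈ Subgroup.center G := by
      obtain ⟨a, ha⟩ := CharBasic.schur_scalar (ρ.comp K.subtype) (ρ z) fun k => by
        show ρ z * ρ (k : G) = ρ (k : G) * ρ z
        rw [← map_mul, ← map_mul, (hl k).eq]
      exact mem_center_of_scalar ρ hinj ha
    refine ⟨k⁻¹ * k₀ * x' ^ l, z, hzZ, ?_⟩
    rw [hz, hc]
    push_cast
    simp [mul_assoc]
  let f : K →* G ⧸ Subgroup.center G := (QuotientGroup.mk' _).comp K.subtype
  have hsurj : Function.Surjective f := fun q => by
    induction q using QuotientGroup.induction_on with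
    | H g =>
      obtain ⟨k, z, hz, rfl⟩ := hdec g
      refine ⟨k, ?_⟩
      show ((k : G) : G ⧸ Subgroup.center G) = (((k : G) * z : G) : G ⧸ Subgroup.center G)
      rw [QuotientGroup.eq]
      simpa using hz
  have hker : f.ker = Subgroup.center K := by
    ext k
    rw [MonoidHom.mem_ker, MonoidHom.comp_apply, QuotientGroup.mk'_apply,
      QuotientGroup.eq_one_iff]
    refine ⟨fun hk => Subgroup.mem_center_iff.2 fun b => Subtype.ext
      (Subgroup.mem_center_iff.1 hk b), fun hk => Subgroup.mem_center_iff.2 fun g => ?_⟩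
    obtain ⟨b, z, hz, rfl⟩ := hdec g
    have h1 : (b : G) * k = k * b := congrArg Subtype.val (Subgroup.mem_center_iff.1 hk b)
    show (b : G) * z * (k : G) = (k : G) * ((b : G) * z)
    rw [mul_assoc, ← Subgroup.mem_center_iff.1 hz (k : G), ← mul_assoc, h1, mul_assoc]
  exact ⟨((QuotientGroup.quotientKerEquivOfSurjective f hsurj).symm.trans
    (QuotientGroup.quotientMulEquivOfEq hker)).trans e⟩

end Cfsg.Agent.H86.HalfDeg
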