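import Cfsg.Agent.H86.HalfDeg.Core

/-!
# Outside the normal closure of `x`
-/

set_option autoImplicit false
set_option linter.unusedSectionVars false
set_option linter.style.haveILetI false

open scoped Pointwise

namespace Cfsg.Agent.H86.HalfDeg

open MulAction

variable {G : Type*} [Group G] [Finite G] {p : ℕ} [hp : Fact p.Prime] {n : ℕ}

/-- The action of `G` on the Sylow subgroups of a normal subgroup. -/
noncomputable def sylowPerm (G₀ : Subgroup G) [G₀.Normal] :
    G →* Equiv.Perm (Sylow p G₀) :=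
  (MulAction.toPermHom (MulAut G₀) (Sylow p G₀)).comp (MulAut.conjNormal (H := G₀))

theorem sylowPerm_coe (G₀ : Subgroup G) [G₀.Normal] (k : G₀) (Q : Sylow p G₀) :
    sylowPerm (p := p) G₀ (k : G) Q = k • Q := by
  show MulAut.conjNormal (H := G₀) (k : G) • Q = MulAut.conj k • Q
  congr 1
  ext h
  simp [MulAut.conjNormal_apply]

/-- An element commuting with `x` centralizes the normal closure up to a power of `x`. -/
theorem exists_centralizing {G₀ : Subgroup G} [G₀.Normal] {σ : Representation ℂ G₀ (Fin n → ℂ)}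
    {x : G₀} (h : Hyp σ p x) (hcard : Nat.card (Sylow p G₀) = p + 1) {c : G}
    (hc : Commute c (x : G)) :
    ∃ i : ℕ, ∀ k : G₀, Commute (((x : G) ^ i)⁻¹ * c) k := by
  classical
  set θ : G →* Equiv.Perm (Sylow p G₀) := sylowPerm G₀ with hθ
  have hxG : ∀ (k : G₀) (Q : Sylow p G₀), θ k Q = k • Q := sylowPerm_coe G₀
  obtain ⟨P₀, hP₀⟩ := (IsPGroup.of_card (n := 1) (by rw [Nat.card_zpowers, h.order, pow_one]) :
    IsPGroup p (Subgroup.zpowers x)).exists_le_sylow
  have hxP : x ∈ P₀ := hP₀ (Subgroup.mem_zpowers x)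
  have hfix : ∀ g : G, Commute g (x : G) → θ g P₀ = P₀ := fun g hg => by
    refine Sylow.ext ?_
    rw [sylow_eq_zpowers h.sq h.order hxP]
    refine sylow_eq_zpowers h.sq h.order ?_
    refine ⟨x, hxP, Subtype.ext ?_⟩
    show g * (x : G) * g⁻¹ = x
    rw [hg.eq, mul_inv_cancel_right]
  have hxfix : ∀ i : ℕ, θ ((x : G) ^ i) P₀ = P₀ := fun i =>
    hfix _ ((Commute.refl (x : G)).pow_left i)
  obtain ⟨Q₁, hQ₁⟩ : ∃ Q : Sylow p G₀, Q ≠ P₀ := by
    haveI : Nontrivial (Sylow p G₀) := Finite.one_lt_card_iff_nontrivial.1 (by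
      rw [hcard]; exact Nat.lt_add_left 0 hp.out.one_lt |>.trans_le (by omega))
    exact exists_ne P₀
  have hP : IsPGroup p (Subgroup.zpowers x) :=
    IsPGroup.of_card (n := 1) (by rw [Nat.card_zpowers, h.order, pow_one])
  have hxQ₁ : x • Q₁ ≠ Q₁ := fun e => hQ₁ (by
    have hmem : Q₁ ∈ fixedPoints (Subgroup.zpowers x) (Sylow p G₀) := fun g => by
      obtain ⟨i, hi⟩ := mem_powers_iff_mem_zpowers.2 g.2
      show (g : G₀) • Q₁ = Q₁
      rw [← show x ^ i = (g : G₀) from hi]
      exact mem_stabilizer_iff.1 (Subgroup.pow_mem _ (mem_stabilizer_iff.2 e) i)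
    rw [hP.sylow_mem_fixedPoints_iff, Subgroup.zpowers_le] at hmem
    exact Sylow.ext ((sylow_eq_zpowers h.sq h.order hmem).trans
      (sylow_eq_zpowers h.sq h.order hxP).symm))
  -- the orbit of `x`
  have htrans : ∀ Q : Sylow p G₀, Q ≠ P₀ → ∃ i : ℕ, θ ((x : G) ^ i) Q₁ = Q := by
    have horb : Nat.card (orbit (Subgroup.zpowers x) Q₁) = p := by
      obtain ⟨a, ha⟩ := hP.card_orbit Q₁
      have hle : a ≤ 1 := by
        have h1 : Nat.card (orbit (Subgroup.zpowers x) Q₁) ≤ p + 1 :=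
          hcard ▸ Finite.card_subtype_le _
        rw [ha] at h1
        by_contra hc'
        have h2 := (Nat.pow_le_pow_right hp.out.pos (show 2 ≤ a by omega)).trans h1
        have := hp.out.two_le
        nlinarith
      interval_cases a
      · exfalso
        rw [pow_zero, Nat.card_eq_one_iff_unique] at ha
        obtain ⟨hsub, -⟩ := ha
        exact hxQ₁ (congrArg Subtype.val (Subsingleton.elim
          (⟨x • Q₁, ⟨⟨x, Subgroup.mem_zpowers x⟩, rfl⟩⟩ : orbit (Subgroup.zpowers x) Q₁)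
          ⟨Q₁, mem_orbit_self Q₁⟩))
      · rw [ha, pow_one]
    have hsub : orbit (Subgroup.zpowers x) Q₁ ⊆ {P₀}ᶜ := by
      rintro _ ⟨g, rfl⟩ (e : g • Q₁ = P₀)
      obtain ⟨i, hi⟩ := mem_powers_iff_mem_zpowers.2 g.2
      apply hQ₁
      refine MulAction.injective (g : G₀) ?_
      show (g : G₀) • Q₁ = (g : G₀) • P₀
      rw [show (g : G₀) • Q₁ = P₀ from e, ← show x ^ i = (g : G₀) from hi, ← hxG]
      push_cast
      exact (hxfix i).symm
    have heq : orbit (Subgroup.zpowers x) Q₁ = {P₀}ᶜ := by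
      refine Set.eq_of_subset_of_ncard_le hsub ?_ (Set.toFinite _)
      rw [← Nat.card_coe_set_eq (orbit _ _), horb, Set.ncard_compl, hcard, Set.ncard_singleton]
      omega
    intro Q hQ
    obtain ⟨g, hg⟩ : Q ∈ orbit (Subgroup.zpowers x) Q₁ := heq ▸ hQ
    obtain ⟨i, hi⟩ := mem_powers_iff_mem_zpowers.2 g.2
    refine ⟨i, ?_⟩
    rw [← SubgroupClass.coe_pow, hxG, show x ^ i = (g : G₀) from hi]
    exact hg
  obtain ⟨i, hi⟩ := htrans (θ c Q₁) fun e => hQ₁ ((θ c).injective (e.trans (hfix c hc).symm))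
  refine ⟨i, ?_⟩
  set c' := ((x : G) ^ i)⁻¹ * c with hc'
  have hc'x : Commute c' (x : G) := (Commute.inv_left ((Commute.refl (x : G)).pow_left i)).mul_left hc
  have hc'1 : θ c' = 1 := Equiv.ext fun Q => by
    rw [Equiv.Perm.one_apply]
    by_cases hQ : Q = P₀
    · rw [hQ, hfix c' hc'x]
    · obtain ⟨j, hj⟩ := htrans Q hQ
      have h1 : θ c' Q₁ = Q₁ := by
        rw [hc', map_mul, map_inv, Equiv.Perm.mul_apply, ← hi, Equiv.Perm.inv_def,
          Equiv.symm_apply_apply]
      rw [← hj, ← Equiv.Perm.mul_apply, ← map_mul, (hc'x.pow_right j).eq, map_mul,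
        Equiv.Perm.mul_apply, h1]
  -- the kernel of the action
  set M : Subgroup G₀ := (θ.comp G₀.subtype).ker with hM
  have hMZ : M ≤ Subgroup.center G₀ := normal_le_center h fun hd => hxQ₁ (by
    have h1 : θ (x : G) = 1 := mem_of_dvd_card h.sq h.order M hd
    rw [← hxG, h1, Equiv.Perm.one_apply])
  let κ : G₀ → G₀ := fun k => MulAut.conjNormal c' k * k⁻¹
  have hκ : ∀ k, κ k ∈ Subgroup.center G₀ := fun k => hMZ (by
    show θ ((MulAut.conjNormal c' k * k⁻¹ : G₀) : G) = 1
    rw [Subgroup.coe_mul, MulAut.conjNormal_apply, Subgroup.coe_inv, map_mul, map_mul, map_mul,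
      map_inv, map_inv, hc'1, one_mul, inv_one, mul_one, mul_inv_cancel])
  let f : G₀ →* Subgroup.center G₀ :=
    { toFun := fun k => ⟨κ k, hκ k⟩
      map_one' := Subtype.ext (by simp [κ])
      map_mul' := fun a b => Subtype.ext (by
        show MulAut.conjNormal c' (a * b) * (a * b)⁻¹ = κ a * κ b
        rw [map_mul, _root_.mul_inv_rev, mul_assoc, ← mul_assoc (MulAut.conjNormal c' b),
          show MulAut.conjNormal c' b * b⁻¹ = κ b from rfl,
          ← Subgroup.mem_center_iff.1 (hκ b) a⁻¹, ← mul_assoc]) }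
  letI := Fintype.ofFinite G₀
  intro k
  have h1 := FewSylow.hom_eq_one_of_perfect (commutator_eq_top h) f
    (fun a b => Subtype.ext (Subgroup.mem_center_iff.1 (f b).2 (f a))) k
  have h2 : κ k = 1 := congrArg Subtype.val h1
  have h3 := congrArg Subtype.val (mul_inv_eq_one.1 h2)
  rw [MulAut.conjNormal_apply] at h3
  exact mul_inv_eq_iff_eq_mul.1 h3

end Cfsg.Agent.H86.HalfDeg
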