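import Mathlib.LinearAlgebra.Semisimple
import Mathlib.LinearAlgebra.Eigenspace.Semisimple
import Mathlib.LinearAlgebra.Eigenspace.Triangularizable
import Mathlib.LinearAlgebra.Basis.VectorSpace
import Mathlib.LinearAlgebra.Determinant
import Mathlib.LinearAlgebra.Matrix.ToLin
import Mathlib.FieldTheory.IsAlgClosed.Basic
import Mathlib.RingTheory.Nilpotent.Basic
import Mathlib.RingTheory.Polynomial.Cyclotomic.Basic
import Mathlib.Tactic.LinearCombination

/-!
# Isometries of a three dimensional nondegenerate symmetric form

Fixed isotropic lines: one for a regular unipotent, two for a nontrivial semisimple element of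
determinant one.
-/

set_option autoImplicit false
set_option linter.unusedSectionVars false

namespace Cfsg.Agent.H86.HalfDeg

open Module Polynomial

/-- A unipotent element of finite order invertible in the field is trivial. -/
theorem eq_one_of_unipotent {K V : Type*} [Field K] [AddCommGroup V] [Module K V] {h : End K V}
    {k m : ℕ} (hk : (h - 1) ^ k = 0) (hm : h ^ m = 1) (hm' : (m : K) ≠ 0) : h = 1 := by
  set S := ∑ i ∈ Finset.range m, h ^ i with hS
  have hmul : S * (h - 1) = 0 := by rw [hS, geom_sum_mul, hm, sub_self]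
  set T := ∑ i ∈ Finset.range m, ∑ j ∈ Finset.range i, h ^ j with hT
  have hdiff : S - ((m : K) • (1 : End K V)) = (h - 1) * T := by
    rw [hS, hT, Finset.mul_sum]
    simp only [mul_geom_sum, Finset.sum_sub_distrib, Finset.sum_const, Finset.card_range]
    rw [Nat.cast_smul_eq_nsmul]
  have hc : Commute (h - 1) T :=
    Commute.sum_right _ _ _ fun i _ => Commute.sum_right _ _ _ fun j _ =>
      ((Commute.refl h).pow_right j).sub_left (Commute.one_left _)
  have hnil : IsNilpotent ((h - 1) * T) := ⟨k, by rw [hc.mul_pow, hk, zero_mul]⟩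
  have hu : IsUnit ((m : K) • (1 : End K V)) := by
    rw [← Algebra.algebraMap_eq_smul_one]
    exact (isUnit_iff_ne_zero.2 hm').map _
  have hunit : IsUnit S := by
    have he : S = (m : K) • (1 : End K V) + (h - 1) * T := by rw [← hdiff]; abel
    rw [he]
    refine hnil.isUnit_add_left_of_commute hu ?_
    rw [← Algebra.algebraMap_eq_smul_one]
    exact (Algebra.commutes _ _).symm
  exact sub_eq_zero.1 (hunit.mul_right_eq_zero.1 hmul)

/-- The eigenvectors of an endomorphism of finite order invertible in the field span. -/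
theorem span_eigen_eq_top {K V : Type*} [Field K] [IsAlgClosed K] [AddCommGroup V] [Module K V]
    [FiniteDimensional K V] {h : End K V} {m : ℕ} (hm : h ^ m = 1) (hm' : (m : K) ≠ 0) :
    ⊤ ≤ Submodule.span K {v : V | ∃ μ : K, h v = μ • v} := by
  have hy : h.IsSemisimple := by
    refine Module.End.isSemisimple_of_squarefree_aeval_eq_zero
      ((X_pow_sub_one_separable_iff.2 hm').squarefree) ?_
    simp [hm]
  have htop : ⨆ μ : K, h.eigenspace μ = ⊤ := by
    rw [← Module.End.iSup_maxGenEigenspace_eq_top h]
    exact iSup_congr fun μ => (hy.isFinitelySemisimple.maxGenEigenspace_eq_eigenspace μ).symm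
  rw [← htop, iSup_le_iff]
  exact fun μ v hv => Submodule.subset_span ⟨μ, Module.End.mem_eigenspace_iff.1 hv⟩

variable {K R : Type*} [Field K] [AddCommGroup R] [Module K R]

/-- A line that is isotropic for the form. -/
def IsoLine (β : R →ₗ[K] R →ₗ[K] K) (L : Submodule K R) : Prop :=
  ∃ v, v ≠ 0 ∧ L = Submodule.span K {v} ∧ β v v = 0

variable {β : R →ₗ[K] R →ₗ[K] K} (hsymm : ∀ a b, β a b = β b a)
  (hnd : ∀ a, (∀ b, β a b = 0) → a = 0)

include hsymm hnd

/-- The determinant with respect to a basis. -/
theorem det_three (b : Basis (Fin 3) K R) (h : End K R) :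
    LinearMap.det h = (LinearMap.toMatrix b b h).det := (LinearMap.det_toMatrix b h).symm

/-- An isometry commuting with a regular unipotent one is unipotent. -/
theorem unipotent_of_commute {u h : End K R} (hu : ∀ a b, β (u a) (u b) = β a b)
    (hu3 : (u - 1) ^ 3 = 0) (hu2 : (u - 1) ^ 2 ≠ 0) (hdim : finrank K R = 3)
    (hh : ∀ a b, β (h a) (h b) = β a b) (hdet : LinearMap.det h = 1) (hc : Commute h u) :
    (h - 1) ^ 3 = 0 := by
  classical
  haveI : FiniteDimensional K R := Module.finite_of_finrank_eq_succ hdim
  set N := u - 1 with hN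
  have hNc : Commute h N := hc.sub_right (Commute.one_right h)
  obtain ⟨e, he⟩ : ∃ e, (N ^ 2 : End K R) e ≠ 0 := by
    by_contra hno
    push Not at hno
    exact hu2 (LinearMap.ext hno)
  have hli : LinearIndependent K ![e, N e, (N ^ 2 : End K R) e] := by
    have h3 : (N ^ 3 : End K R) e = 0 := by rw [hu3]; rfl
    rw [Fintype.linearIndependent_iff]
    intro c hc0
    simp only [Fin.sum_univ_three, Matrix.cons_val_zero, Matrix.cons_val_one,
      Matrix.cons_val_two, Matrix.head_cons, Matrix.tail_cons] at hc0
    have h4 : (N ^ 4 : End K R) e = 0 := by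
      rw [pow_succ', Module.End.mul_apply, h3, map_zero]
    have e1 : N (N e) = (N ^ 2 : End K R) e := by rw [pow_two]; rfl
    have e2 : N ((N ^ 2 : End K R) e) = 0 := by rw [← Module.End.mul_apply, ← pow_succ', h3]
    have h0 : c 0 = 0 := by
      have := congrArg (fun z => N (N z)) hc0
      simp only [map_add, map_smul, map_zero, e1, e2, smul_zero, add_zero] at this
      exact (smul_eq_zero.1 this).resolve_right he
    have h1 : c 1 = 0 := by
      have := congrArg N hc0
      simp only [h0, zero_smul, zero_add, map_add, map_smul, map_zero, e1, e2, smul_zero,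
        add_zero] at this
      exact (smul_eq_zero.1 this).resolve_right he
    intro i
    fin_cases i
    · exact h0
    · exact h1
    · simp only [h0, h1, zero_smul, zero_add] at hc0
      exact (smul_eq_zero.1 hc0).resolve_right he
  let b := basisOfLinearIndependentOfCardEqFinrank hli (by rw [Fintype.card_fin, hdim])
  have hb : ∀ i, b i = ![e, N e, (N ^ 2 : End K R) e] i := fun i =>
    congrFun (coe_basisOfLinearIndependentOfCardEqFinrank _ _) i
  set x := b.repr (h e) 0 with hx
  set y := b.repr (h e) 1 with hy
  set z := b.repr (h e) 2 with hz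
  have hhe : h e = x • e + y • N e + z • (N ^ 2 : End K R) e := by
    conv_lhs => rw [← b.sum_repr (h e), Fin.sum_univ_three]
    simp [hb, x, y, z]
  have e1 : N (N e) = (N ^ 2 : End K R) e := by rw [pow_two]; rfl
  have e2 : N ((N ^ 2 : End K R) e) = 0 := by
    rw [← Module.End.mul_apply, ← pow_succ', hu3]; rfl
  have hNh : ∀ w, h (N w) = N (h w) := fun w => by
    rw [← Module.End.mul_apply, hNc.eq, Module.End.mul_apply]
  have hhNe : h (N e) = x • N e + y • (N ^ 2 : End K R) e := by
    rw [hNh, hhe, map_add, map_add, map_smul, map_smul, map_smul, e1, e2, smul_zero, add_zero]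
  have hhNNe : h ((N ^ 2 : End K R) e) = x • (N ^ 2 : End K R) e := by
    rw [← e1, hNh, hhNe, map_add, map_smul, map_smul, e1, e2, smul_zero, add_zero]
  have hM : LinearMap.toMatrix b b h = !![x, 0, 0; y, x, 0; z, y, x] := by
    have h1 : ∀ i, b.repr (b i) = Finsupp.single i 1 := b.repr_self
    have c0 : h (b 0) = x • b 0 + y • b 1 + z • b 2 := by simpa [hb] using hhe
    have c1 : h (b 1) = x • b 1 + y • b 2 := by simpa [hb] using hhNe
    have c2 : h (b 2) = x • b 2 := by simpa [hb] using hhNNe
    ext i j
    rw [LinearMap.toMatrix_apply]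
    fin_cases i <;> fin_cases j <;> simp [c0, c1, c2, Finsupp.single_apply]
  have hx3 : x ^ 3 = 1 := by
    rw [det_three hsymm hnd b, hM, Matrix.det_fin_three] at hdet
    simp at hdet
    linear_combination hdet
  -- the pairing
  have hker : ∀ a w, N a = 0 → β a (N w) = 0 := by
    intro a w ha
    have h1 : u a = a := by
      rw [hN, LinearMap.sub_apply, Module.End.one_apply, sub_eq_zero] at ha
      exact ha
    rw [hN, LinearMap.sub_apply, Module.End.one_apply, map_sub, sub_eq_zero]
    conv_rhs => rw [← hu a w, h1]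
  set v := (N ^ 2 : End K R) e with hv
  have hvN : β v (N e) = 0 := hker v e e2
  have hvv : β v v = 0 := by
    have h' := hker v (N e) e2
    rwa [e1] at h'
  have hve : β v e ≠ 0 := by
    intro h0
    refine he (hnd v fun w => ?_)
    rw [← b.sum_repr w, Fin.sum_univ_three]
    simp [hb, h0, hvN, hvv]
  have hx2 : x ^ 2 = 1 := by
    have h1 := hh v e
    rw [hhNNe, hhe] at h1
    simp only [map_smul, map_add, LinearMap.smul_apply, smul_eq_mul, hvN, hvv, mul_zero,
      add_zero] at h1
    have h2 : (x ^ 2 - 1) * β v e = 0 := by linear_combination h1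
    exact sub_eq_zero.1 ((mul_eq_zero.1 h2).resolve_right hve)
  have hx1 : x = 1 := by linear_combination hx3 - x * hx2
  refine b.ext fun i => ?_
  have d0 : (h - 1) e = y • N e + z • v := by
    rw [LinearMap.sub_apply, Module.End.one_apply, hhe, hx1, one_smul]; abel
  have d1 : (h - 1) (N e) = y • v := by
    rw [LinearMap.sub_apply, Module.End.one_apply, hhNe, hx1, one_smul]; abel
  have d2 : (h - 1) v = 0 := by
    rw [LinearMap.sub_apply, Module.End.one_apply, hhNNe, hx1, one_smul, sub_self]
  have hcube : ∀ w, ((h - 1) ^ 3 : End K R) w = (h - 1) ((h - 1) ((h - 1) w)) := fun w => by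
    rw [pow_succ, pow_two]; rfl
  rw [hcube, LinearMap.zero_apply, hb]
  fin_cases i <;>
    simp only [Fin.zero_eta, Fin.mk_one, Fin.reduceFinMk, Matrix.cons_val_zero,
      Matrix.cons_val_one, Matrix.cons_val_two, Matrix.head_cons, Matrix.tail_cons] <;>
    simp only [d0, d1, d2, map_add, map_smul, map_zero, smul_zero, add_zero]

/-- An isometry of determinant one fixing a nonzero isotropic vector is unipotent. -/
theorem unipotent_of_fix {h : End K R} (hdim : finrank K R = 3)
    (hh : ∀ a b, β (h a) (h b) = β a b) (hdet : LinearMap.det h = 1) {v : R} (hv : v ≠ 0)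
    (hvv : β v v = 0) (hhv : h v = v) : (h - 1) ^ 3 = 0 := by
  classical
  haveI : FiniteDimensional K R := Module.finite_of_finrank_eq_succ hdim
  obtain ⟨e₀, he₀⟩ : ∃ e, β v e ≠ 0 := by
    by_contra hno
    push Not at hno
    exact hv (hnd v hno)
  set e := (β v e₀)⁻¹ • e₀ with he
  have hve : β v e = 1 := by simp [he, he₀]
  obtain ⟨w₀, hw₀⟩ : ∃ w, w ∉ Submodule.span K {v, e} := by
    by_contra hno
    push Not at hno
    have h1 : (⊤ : Submodule K R) ≤ Submodule.span K {v, e} := fun w _ => hno w
    have h2 := Submodule.finrank_mono h1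
    rw [finrank_top, hdim] at h2
    have h3 : finrank K (Submodule.span K ({v, e} : Set R)) ≤ 2 := by
      have := finrank_span_finset_le_card (R := K) ({v, e} : Finset R)
      simp only [Finset.coe_insert, Finset.coe_singleton] at this
      exact this.trans Finset.card_le_two
    omega
  set w := w₀ - β v w₀ • e with hwdef
  have hvw : β v w = 0 := by simp [hwdef, hve]
  have hli : LinearIndependent K ![e, w, v] := by
    rw [Fintype.linearIndependent_iff]
    intro c hc
    simp only [Fin.sum_univ_three, Matrix.cons_val_zero, Matrix.cons_val_one,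
      Matrix.cons_val_two, Matrix.head_cons, Matrix.tail_cons] at hc
    have h0 : c 0 = 0 := by
      have := congrArg (β v) hc
      simpa [hve, hvw, hvv] using this
    have h1 : c 1 = 0 := by
      by_contra h1
      apply hw₀
      rw [h0, zero_smul, zero_add] at hc
      have hw : w = (-(c 1)⁻¹ * c 2) • v := by
        have h' := congrArg (fun q => (c 1)⁻¹ • q) hc
        simp only [smul_add, smul_smul, inv_mul_cancel₀ h1, one_smul, smul_zero] at h'
        rw [neg_mul, neg_smul]
        exact eq_neg_of_add_eq_zero_left h'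
      rw [hwdef, sub_eq_iff_eq_add] at hw
      rw [hw]
      exact Submodule.add_mem _ (Submodule.smul_mem _ _ (Submodule.subset_span (by simp)))
        (Submodule.smul_mem _ _ (Submodule.subset_span (by simp)))
    intro i
    fin_cases i
    · exact h0
    · exact h1
    · simp only [h0, h1, zero_smul, zero_add] at hc
      exact (smul_eq_zero.1 hc).resolve_right hv
  let b := basisOfLinearIndependentOfCardEqFinrank hli (by rw [Fintype.card_fin, hdim])
  have hb : ∀ i, b i = ![e, w, v] i := fun i =>
    congrFun (coe_basisOfLinearIndependentOfCardEqFinrank _ _) i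
  have hpair : ∀ q, β v (h q) = β v q := fun q => by conv_lhs => rw [← hhv, hh]
  have hcoord : ∀ q, b.repr q 0 = β v q := by
    intro q
    conv_rhs => rw [← b.sum_repr q, Fin.sum_univ_three]
    simp [hb, hve, hvw, hvv]
  set y := b.repr (h e) 1
  set z := b.repr (h e) 2
  set μ := b.repr (h w) 1
  set c := b.repr (h w) 2
  have hhe : h (b 0) = b 0 + y • b 1 + z • b 2 := by
    conv_lhs => rw [← b.sum_repr (h (b 0)), Fin.sum_univ_three]
    rw [show b 0 = e by simp [hb], hcoord, hpair, hve, one_smul]
  have hhw : h (b 1) = μ • b 1 + c • b 2 := by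
    conv_lhs => rw [← b.sum_repr (h (b 1)), Fin.sum_univ_three]
    rw [show b 1 = w by simp [hb], hcoord, hpair, hvw, zero_smul, zero_add]
  have hhv' : h (b 2) = b 2 := by simp [hb, hhv]
  have hM : LinearMap.toMatrix b b h = !![1, 0, 0; y, μ, 0; z, c, 1] := by
    ext i j
    rw [LinearMap.toMatrix_apply]
    fin_cases i <;> fin_cases j <;> simp [hhe, hhw, hhv', Finsupp.single_apply]
  have hμ : μ = 1 := by
    rw [det_three hsymm hnd b, hM, Matrix.det_fin_three] at hdet
    simp at hdet
    linear_combination hdet
  have d0 : (h - 1) (b 0) = y • b 1 + z • b 2 := by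
    rw [LinearMap.sub_apply, Module.End.one_apply, hhe]; abel
  have d1 : (h - 1) (b 1) = c • b 2 := by
    rw [LinearMap.sub_apply, Module.End.one_apply, hhw, hμ, one_smul]; abel
  have d2 : (h - 1) (b 2) = 0 := by
    rw [LinearMap.sub_apply, Module.End.one_apply, hhv', sub_self]
  refine b.ext fun i => ?_
  have hcube : ∀ w, ((h - 1) ^ 3 : End K R) w = (h - 1) ((h - 1) ((h - 1) w)) := fun w => by
    rw [pow_succ, pow_two]; rfl
  rw [hcube, LinearMap.zero_apply]
  fin_cases i <;>
    simp only [Fin.zero_eta, Fin.mk_one, Fin.reduceFinMk, d0, d1, d2, map_add, map_smul, map_zero,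
      smul_zero, add_zero]

/-- A regular unipotent isometry has a unique stable line, and it is isotropic. -/
theorem regular_lines {u : End K R} (hu : ∀ a b, β (u a) (u b) = β a b)
    (hu3 : (u - 1) ^ 3 = 0) (hu2 : (u - 1) ^ 2 ≠ 0) (hdim : finrank K R = 3) :
    ∃ v, v ≠ 0 ∧ β v v = 0 ∧ u v = v ∧
      ∀ L, IsoLine β L → L.map u = L → L = Submodule.span K {v} := by
  classical
  haveI : FiniteDimensional K R := Module.finite_of_finrank_eq_succ hdim
  set N := u - 1 with hN
  obtain ⟨e, he⟩ : ∃ e, (N ^ 2 : End K R) e ≠ 0 := by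
    by_contra hno
    push Not at hno
    exact hu2 (LinearMap.ext hno)
  have e1 : N (N e) = (N ^ 2 : End K R) e := by rw [pow_two]; rfl
  have hcube : ∀ w, N (N (N w)) = 0 := fun w => by
    have h := LinearMap.congr_fun hu3 w
    rw [pow_succ, pow_two] at h
    exact h
  have hfix : ∀ a, N a = 0 ↔ u a = a := fun a => by
    rw [hN, LinearMap.sub_apply, Module.End.one_apply, sub_eq_zero]
  have hker : ∀ a w, N a = 0 → β a (N w) = 0 := by
    intro a w ha
    rw [hN, LinearMap.sub_apply, Module.End.one_apply, map_sub, sub_eq_zero]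
    conv_rhs => rw [← hu a w, (hfix a).1 ha]
  refine ⟨_, he, ?_, (hfix _).1 (by rw [← e1]; exact hcube e), fun L ⟨a, ha, hL, _⟩ hmap => ?_⟩
  · conv_lhs => arg 2; rw [← e1]
    exact hker _ _ (by rw [← e1]; exact hcube e)
  · have hmem : u a ∈ L := hmap ▸ Submodule.mem_map_of_mem (hL ▸ Submodule.mem_span_singleton_self a)
    rw [hL, Submodule.mem_span_singleton] at hmem
    obtain ⟨ρ, hρ⟩ := hmem
    -- the eigenvalue is one
    have hρ1 : ρ = 1 := by
      by_contra hne
      have h1 : N a = (ρ - 1) • a := by
        rw [hN, LinearMap.sub_apply, Module.End.one_apply, ← hρ, sub_smul, one_smul]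
      have h3 := hcube a
      simp only [h1, map_smul, smul_smul] at h3
      exact ha ((smul_eq_zero.1 h3).resolve_left
        (mul_ne_zero (mul_ne_zero (sub_ne_zero.2 hne) (sub_ne_zero.2 hne)) (sub_ne_zero.2 hne)))
    have hNa : N a = 0 := (hfix a).2 (by rw [← hρ, hρ1, one_smul])
    -- the kernel of `N` is one dimensional
    have hk : finrank K (LinearMap.ker N) ≤ 1 := by
      have h1 := LinearMap.finrank_range_add_finrank_ker N
      rw [hdim] at h1
      have h2 : 2 ≤ finrank K (LinearMap.range N) := by
        have hli : LinearIndependent K ![N e, N (N e)] := by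
          rw [LinearIndependent.pair_iff]
          intro s t hst
          have h := congrArg N hst
          simp only [map_add, map_smul, map_zero, hcube, smul_zero, add_zero] at h
          have hs := (smul_eq_zero.1 h).resolve_right (by rwa [e1])
          rw [hs, zero_smul, zero_add] at hst
          exact ⟨hs, (smul_eq_zero.1 hst).resolve_right (by rwa [e1])⟩
        have hle : Submodule.span K (Set.range ![N e, N (N e)]) ≤ LinearMap.range N := by
          rw [Submodule.span_le]
          rintro _ ⟨i, rfl⟩
          fin_cases i <;> exact ⟨_, rfl⟩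
        have := Submodule.finrank_mono hle
        rwa [finrank_span_eq_card hli, Fintype.card_fin] at this
      omega
    have hspan : Submodule.span K {(N ^ 2 : End K R) e} = LinearMap.ker N := by
      refine Submodule.eq_of_le_of_finrank_le ?_ ?_
      · rw [Submodule.span_singleton_le_iff_mem, LinearMap.mem_ker, ← e1]
        exact hcube e
      · rw [finrank_span_singleton he]; exact hk
    rw [hL]
    refine (Submodule.span_singleton_eq_span_singleton).2 ?_
    have hmem' : a ∈ Submodule.span K {(N ^ 2 : End K R) e} := hspan ▸ LinearMap.mem_ker.2 hNa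
    obtain ⟨k, hk'⟩ := Submodule.mem_span_singleton.1 hmem'
    have hk0 : k ≠ 0 := fun h => ha (by rw [← hk', h, zero_smul])
    exact ⟨Units.mk0 k⁻¹ (inv_ne_zero hk0), by
      rw [Units.smul_mk0, ← hk', smul_smul, inv_mul_cancel₀ hk0, one_smul]⟩

/-- The stable isotropic lines of an isometry with a split eigenbasis. -/
theorem split_lines {h : End K R} {e f g : R} {μ μ' ν : K} (he : h e = μ • e) (hf : h f = μ' • f)
    (hg : h g = ν • g) (hνμ : μ ≠ ν) (hνμ' : μ' ≠ ν) (hee : β e e = 0) (hff : β f f = 0)
    (hef : β e f ≠ 0) (h2 : (2 : K) ≠ 0) (heg : β e g = 0) (hfg : β f g = 0) (hgg : β g g ≠ 0)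
    (b : Basis (Fin 3) K R) (hb : ∀ i, b i = ![e, f, g] i) (hμ : μ ≠ 0) (hμ' : μ' ≠ 0) :
    ∃ L₁ L₂, L₁ ≠ L₂ ∧ IsoLine β L₁ ∧ IsoLine β L₂ ∧ L₁.map h = L₁ ∧ L₂.map h = L₂ ∧
      ∀ L, IsoLine β L → L.map h = L → L = L₁ ∨ L = L₂ := by
  classical
  have he0 : e ≠ 0 := fun h0 => hef (by simp [h0])
  have hf0 : f ≠ 0 := fun h0 => hef (by simp [h0])
  refine ⟨Submodule.span K {e}, Submodule.span K {f}, fun heq => ?_, ⟨e, he0, rfl, hee⟩,
    ⟨f, hf0, rfl, hff⟩, ?_, ?_, fun L ⟨a, ha, hL, haa⟩ hmap => ?_⟩
  · have := heq ▸ Submodule.mem_span_singleton_self e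
    obtain ⟨k, hk⟩ := Submodule.mem_span_singleton.1 this
    exact hef (by rw [← hk]; simp [hff])
  · rw [Submodule.map_span, Set.image_singleton, he,
      Submodule.span_singleton_smul_eq (isUnit_iff_ne_zero.2 hμ)]
  · rw [Submodule.map_span, Set.image_singleton, hf,
      Submodule.span_singleton_smul_eq (isUnit_iff_ne_zero.2 hμ')]
  · have hmem : h a ∈ L := hmap ▸ Submodule.mem_map_of_mem (hL ▸ Submodule.mem_span_singleton_self a)
    rw [hL, Submodule.mem_span_singleton] at hmem
    obtain ⟨ρ, hρ⟩ := hmem
    set x := b.repr a 0 with hx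
    set y := b.repr a 1 with hy
    set z := b.repr a 2 with hz
    have hdec : a = x • e + y • f + z • g := by
      conv_lhs => rw [← b.sum_repr a, Fin.sum_univ_three]
      simp [hb, x, y, z]
    have hha : h a = (μ * x) • e + (μ' * y) • f + (ν * z) • g := by
      rw [hdec, map_add, map_add, map_smul, map_smul, map_smul, he, hf, hg, smul_smul, smul_smul,
        smul_smul, mul_comm x, mul_comm y, mul_comm z]
    have hcoef : ∀ i, b.repr (h a) i = ρ * b.repr a i := fun i => by
      rw [← hρ, map_smul, Finsupp.smul_apply, smul_eq_mul]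
    have hbe : e = b 0 := by simp [hb]
    have hbf : f = b 1 := by simp [hb]
    have hbg : g = b 2 := by simp [hb]
    rw [hha, hbe, hbf, hbg] at hcoef
    have hc0 : μ * x = ρ * x := by
      have h' := hcoef 0
      simp [Finsupp.single_apply] at h'
      exact h'
    have hc1 : μ' * y = ρ * y := by
      have h' := hcoef 1
      simp [Finsupp.single_apply] at h'
      exact h'
    have hc2 : ν * z = ρ * z := by
      have h' := hcoef 2
      simp [Finsupp.single_apply] at h'
      exact h'
    have hz0 : z = 0 := by
      by_contra hzne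
      have hρν : ν = ρ := mul_right_cancel₀ hzne hc2
      have hx0 : x = 0 := by
        by_contra hxne
        exact hνμ ((mul_right_cancel₀ hxne hc0).trans hρν.symm)
      have hy0 : y = 0 := by
        by_contra hyne
        exact hνμ' ((mul_right_cancel₀ hyne hc1).trans hρν.symm)
      rw [hdec, hx0, hy0] at haa
      simp at haa
      rcases haa with h' | h'
      · exact hzne h'
      · exact hgg h'
    rw [hdec, hz0, zero_smul, add_zero] at haa
    have hxy : x * y = 0 := by
      simp only [map_add, map_smul, LinearMap.add_apply, LinearMap.smul_apply, hee, hff,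
        hsymm f e, smul_eq_mul] at haa
      have : (2 : K) * β e f * (x * y) = 0 := by linear_combination haa
      exact (mul_eq_zero.1 this).resolve_left (mul_ne_zero h2 hef)
    rw [hL, hdec, hz0, zero_smul, add_zero]
    rcases mul_eq_zero.1 hxy with h0 | h0
    · have hy0 : y ≠ 0 := fun h' => ha (by rw [hdec, h0, h', hz0]; simp)
      refine Or.inr ?_
      rw [h0, zero_smul, zero_add, Submodule.span_singleton_smul_eq (isUnit_iff_ne_zero.2 hy0)]
    · have hx0 : x ≠ 0 := fun h' => ha (by rw [hdec, h0, h', hz0]; simp)
      refine Or.inl ?_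
      rw [h0, zero_smul, add_zero, Submodule.span_singleton_smul_eq (isUnit_iff_ne_zero.2 hx0)]

/-- A basis `e, f, g` from the pairings. -/
theorem exists_split_basis {e f g : R} (hdim : finrank K R = 3) (hee : β e e = 0)
    (hff : β f f = 0) (hef : β e f ≠ 0) (heg : β e g = 0) (hfg : β f g = 0) (hg : g ≠ 0) :
    ∃ b : Basis (Fin 3) K R, ∀ i, b i = ![e, f, g] i := by
  have hli : LinearIndependent K ![e, f, g] := by
    rw [Fintype.linearIndependent_iff]
    intro c hc
    simp only [Fin.sum_univ_three, Matrix.cons_val_zero, Matrix.cons_val_one,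
      Matrix.cons_val_two, Matrix.head_cons, Matrix.tail_cons] at hc
    have h0 : c 1 = 0 := by
      have := congrArg (β e) hc
      simpa [hee, heg, hef] using this
    have h1 : c 0 = 0 := by
      have := congrArg (β f) hc
      simpa [hff, hfg, hsymm f e, hef] using this
    intro i
    fin_cases i
    · exact h1
    · exact h0
    · simp only [h0, h1, zero_smul, zero_add] at hc
      exact (smul_eq_zero.1 hc).resolve_right hg
  haveI : FiniteDimensional K R := Module.finite_of_finrank_eq_succ hdim
  exact ⟨basisOfLinearIndependentOfCardEqFinrank hli (by rw [Fintype.card_fin, hdim]), fun i =>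
    congrFun (coe_basisOfLinearIndependentOfCardEqFinrank _ _) i⟩

/-- A semisimple isometry of determinant one has two stable isotropic lines. -/
theorem semisimple_lines [IsAlgClosed K] {h : End K R} (hdim : finrank K R = 3)
    (hh : ∀ a b, β (h a) (h b) = β a b) (hdet : LinearMap.det h = 1) (h2 : (2 : K) ≠ 0) {m : ℕ}
    (hm : h ^ m = 1) (hm' : (m : K) ≠ 0) (hne : h ≠ 1) :
    ∃ L₁ L₂, L₁ ≠ L₂ ∧ IsoLine β L₁ ∧ IsoLine β L₂ ∧ L₁.map h = L₁ ∧ L₂.map h = L₂ ∧
      ∀ L, IsoLine β L → L.map h = L → L = L₁ ∨ L = L₂ := by
  classical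
  haveI : FiniteDimensional K R := Module.finite_of_finrank_eq_succ hdim
  have hspan := span_eigen_eq_top hm hm'
  have horth : ∀ {a c : R} {μ ν : K}, h a = μ • a → h c = ν • c → μ * ν ≠ 1 → β a c = 0 := by
    intro a c μ ν ha hc hμν
    have h1 := hh a c
    rw [ha, hc] at h1
    simp only [map_smul, LinearMap.smul_apply, smul_eq_mul] at h1
    have h3 : (μ * ν - 1) * β a c = 0 := by linear_combination h1
    exact (mul_eq_zero.1 h3).resolve_left (sub_ne_zero.2 hμν)
  have heig0 : ∀ {a : R} {μ : K}, h a = μ • a → a ≠ 0 → μ ≠ 0 := by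
    intro a μ ha ha0 hμ
    apply ha0
    have hm0 : m ≠ 0 := fun e => hm' (by rw [e, Nat.cast_zero])
    rw [← Module.End.one_apply (R := K) a, ← hm, show m = (m - 1) + 1 by omega, pow_succ,
      Module.End.mul_apply, ha, hμ, zero_smul, map_zero]
  by_cases hcase : ∃ μ : K, ∃ e, e ≠ 0 ∧ h e = μ • e ∧ μ * μ ≠ 1
  · obtain ⟨μ, e, he0, he, hμ⟩ := hcase
    have hee := horth he he hμ
    obtain ⟨f, μ', hf, hef⟩ : ∃ f μ', h f = μ' • f ∧ β e f ≠ 0 := by
      by_contra hno
      push Not at hno
      refine he0 (hnd e fun c => ?_)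
      have hc : c ∈ Submodule.span K {v : R | ∃ μ : K, h v = μ • v} := hspan Submodule.mem_top
      induction hc using Submodule.span_induction with
      | mem z hz => obtain ⟨ν, hν⟩ := hz; exact hno z ν hν
      | zero => simp
      | add a b _ _ h1 h2 => rw [map_add, h1, h2, add_zero]
      | smul k a _ h1 => rw [map_smul, h1, smul_zero]
    have hμμ' : μ * μ' = 1 := by
      by_contra h'
      exact hef (horth he hf h')
    have hf0 : f ≠ 0 := fun h0 => hef (by simp [h0])
    have hff : β f f = 0 := horth hf hf fun h' => hμ (by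
      linear_combination (μ * μ) * (1 - h') + (μ * μ' + 1) * hμμ')
    obtain ⟨w, hw⟩ : ∃ w, w ∉ Submodule.span K {e, f} := by
      by_contra hno
      push Not at hno
      have h1 := Submodule.finrank_mono (fun w (_ : w ∈ (⊤ : Submodule K R)) => hno w)
      rw [finrank_top, hdim] at h1
      have h3 : finrank K (Submodule.span K ({e, f} : Set R)) ≤ 2 := by
        have := finrank_span_finset_le_card (R := K) ({e, f} : Finset R)
        simp only [Finset.coe_insert, Finset.coe_singleton] at this
        exact this.trans Finset.card_le_two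
      omega
    set g := w - (β w f / β e f) • e - (β w e / β e f) • f with hg
    have heg : β e g = 0 := by
      simp [hg, hee, hsymm e w, div_mul_cancel₀ _ hef]
    have hfg : β f g = 0 := by
      simp [hg, hff, hsymm f w, hsymm f e, div_mul_cancel₀ _ hef]
    have hg0 : g ≠ 0 := fun h0 => hw (by
      rw [hg, sub_sub, sub_eq_zero] at h0
      rw [h0]
      exact Submodule.add_mem _ (Submodule.smul_mem _ _ (Submodule.subset_span (by simp)))
        (Submodule.smul_mem _ _ (Submodule.subset_span (by simp))))
    obtain ⟨b, hb⟩ := exists_split_basis hsymm hnd hdim hee hff hef heg hfg hg0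
    have hbe : b 0 = e := by simp [hb]
    have hbf : b 1 = f := by simp [hb]
    have hbg : b 2 = g := by simp [hb]
    have hμ0 := heig0 he he0
    have hμ'0 := heig0 hf hf0
    have h1 : β e (h g) = 0 := by
      have h' := hh e g
      rw [he, heg] at h'
      simpa [hμ0] using h'
    have h1' : β f (h g) = 0 := by
      have h' := hh f g
      rw [hf, hfg] at h'
      simpa [hμ'0] using h'
    set ν := b.repr (h g) 2
    have hhg : h g = ν • g := by
      have hd := (b.sum_repr (h g)).symm
      rw [Fin.sum_univ_three, hbe, hbf, hbg] at hd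
      have hy : b.repr (h g) 1 = 0 := by
        have := h1
        rw [hd] at this
        simpa [hee, heg, hef] using this
      have hx : b.repr (h g) 0 = 0 := by
        have := h1'
        rw [hd] at this
        simpa [hff, hfg, hsymm f e, hef] using this
      rw [hx, hy, zero_smul, zero_smul, zero_add, zero_add] at hd
      exact hd
    have hν : ν = 1 := by
      have hM : LinearMap.toMatrix b b h = !![μ, 0, 0; 0, μ', 0; 0, 0, ν] := by
        have c0 : h (b 0) = μ • b 0 := by rw [hbe]; exact he
        have c1 : h (b 1) = μ' • b 1 := by rw [hbf]; exact hf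
        have c2 : h (b 2) = ν • b 2 := by rw [hbg]; exact hhg
        ext i j
        rw [LinearMap.toMatrix_apply]
        fin_cases i <;> fin_cases j <;> simp [c0, c1, c2, Finsupp.single_apply]
      rw [det_three hsymm hnd b, hM, Matrix.det_fin_three] at hdet
      simp at hdet
      linear_combination hdet - ν * hμμ'
    have hgg : β g g ≠ 0 := by
      intro h0
      refine hg0 (hnd g fun c => ?_)
      rw [← b.sum_repr c, Fin.sum_univ_three, hbe, hbf, hbg]
      simp [hsymm g e, hsymm g f, heg, hfg, h0]
    refine split_lines hsymm hnd he hf hhg ?_ ?_ hee hff hef h2 heg hfg hgg b hb hμ0 hμ'0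
    · rintro rfl
      exact hμ (by rw [hν, one_mul])
    · intro h'
      exact hμ (by rw [hν] at h'; rw [h', mul_one] at hμμ'; rw [hμμ', one_mul])
  · push Not at hcase
    -- all eigenvalues are `±1`
    let s := {v : R | ∃ μ : K, h v = μ • v}
    let b' := Basis.ofSpan hspan
    let ι := Fin 3
    haveI := FiniteDimensional.fintypeBasisIndex b'
    have hcard : Fintype.card _ = 3 := (finrank_eq_card_basis b').symm.trans hdim
    let b : Basis ι K R := b'.reindex (Fintype.equivFinOfCardEq hcard)
    have hb : ∀ i, ∃ μ : K, h (b i) = μ • b i := fun i => by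
      simp only [b, Basis.reindex_apply]
      exact Basis.ofSpan_subset hspan ⟨_, rfl⟩
    choose μ hμ using hb
    have hμ1 : ∀ i, μ i = 1 ∨ μ i = -1 := fun i =>
      mul_self_eq_one_iff.1 (hcase (μ i) (b i) (b.ne_zero i) (hμ i))
    have hprod : μ 0 * μ 1 * μ 2 = 1 := by
      have hM : LinearMap.toMatrix b b h = Matrix.diagonal μ := by
        ext i j
        rw [LinearMap.toMatrix_apply, hμ j, map_smul, Basis.repr_self, Finsupp.smul_apply,
          Finsupp.single_apply, smul_eq_mul, Matrix.diagonal_apply]
        split_ifs with h1 h2 <;> simp_all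
      rw [det_three hsymm hnd b, hM, Matrix.det_diagonal, Fin.prod_univ_three] at hdet
      exact hdet
    have hnot : ¬ (μ 0 = 1 ∧ μ 1 = 1 ∧ μ 2 = 1) := fun h' => hne (b.ext fun i => by
      rw [hμ i, Module.End.one_apply]
      fin_cases i <;> simp [h'.1, h'.2.1, h'.2.2])
    have hne1 : (-1 : K) ≠ 1 := fun h' => h2 (by linear_combination -h')
    -- pick the indices
    obtain ⟨i, j, k, hij, hik, hjk, hi, hj, hk⟩ :
        ∃ i j k : Fin 3, i ≠ j ∧ i ≠ k ∧ j ≠ k ∧ μ i = -1 ∧ μ j = -1 ∧ μ k = 1 := by
      rcases hμ1 0 with a | a <;> rcases hμ1 1 with c | c <;> rcases hμ1 2 with d | d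
      · exact absurd ⟨a, c, d⟩ hnot
      · rw [a, c, d] at hprod; simp at hprod; exact absurd hprod hne1
      · rw [a, c, d] at hprod; simp at hprod; exact absurd hprod hne1
      · exact ⟨1, 2, 0, by decide, by decide, by decide, c, d, a⟩
      · rw [a, c, d] at hprod; simp at hprod; exact absurd hprod hne1
      · exact ⟨0, 2, 1, by decide, by decide, by decide, a, d, c⟩
      · exact ⟨0, 1, 2, by decide, by decide, by decide, a, c, d⟩
      · rw [a, c, d] at hprod; simp at hprod; exact absurd hprod hne1
    set g := b k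
    have hg : h g = (1 : K) • g := by rw [← hk]; exact hμ k
    have hcases : ∀ l : Fin 3, l = i ∨ l = j ∨ l = k := by
      intro l
      fin_cases l <;> omega
    have hgi : β (b i) g = 0 := horth (hμ i) hg (by rw [hi, mul_one]; exact hne1)
    have hgj : β (b j) g = 0 := horth (hμ j) hg (by rw [hj, mul_one]; exact hne1)
    have hgg : β g g ≠ 0 := by
      intro h0
      refine b.ne_zero k (hnd g fun c => ?_)
      rw [← b.sum_repr c, map_sum]
      refine Finset.sum_eq_zero fun l _ => ?_
      rcases hcases l with rfl | rfl | rfl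
      · rw [map_smul, hsymm g, hgi, smul_zero]
      · rw [map_smul, hsymm g, hgj, smul_zero]
      · rw [map_smul, h0, smul_zero]
    -- the plane
    set A := β (b i) (b i) with hA
    set B := β (b i) (b j) with hB
    set C := β (b j) (b j) with hC
    have hgram : A * C - B * B ≠ 0 := by
      intro h0
      have key : ∀ x y : K, x * A + y * B = 0 → x * B + y * C = 0 → x = 0 ∧ y = 0 := by
        intro x y h1 h2
        have hz : x • b i + y • b j = 0 := by
          refine hnd _ fun c => ?_
          rw [← b.sum_repr c, map_sum]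
          refine Finset.sum_eq_zero fun l _ => ?_
          simp only [map_smul, map_add, LinearMap.add_apply, LinearMap.smul_apply, smul_eq_mul]
          rcases hcases l with e | e | e <;> rw [e]
          · rw [← hA, hsymm (b j) (b i), ← hB, h1, mul_zero]
          · rw [← hB, ← hC, h2, mul_zero]
          · rw [hgi, hgj]; simp
        have hinj : Function.Injective (![i, j] : Fin 2 → Fin 3) := by
          intro u w huw
          fin_cases u <;> fin_cases w <;> simp_all
        have := Fintype.linearIndependent_iff.1 (b.linearIndependent.comp _ hinj) ![x, y]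
          (by simpa [Fin.sum_univ_two] using hz)
        exact ⟨this 0, this 1⟩
      have h3 := key B (-A) (by ring) (by linear_combination -h0)
      have h4 := key C (-B) (by linear_combination h0) (by ring)
      have hB0 : B = 0 := h3.1
      have hA0 : A = 0 := neg_eq_zero.1 h3.2
      exact one_ne_zero (key 1 0 (by rw [hA0]; ring) (by rw [hB0]; ring)).1
    obtain ⟨x, y, x', y', hq, hq', hd⟩ : ∃ x y x' y' : K,
        x * x * A + 2 * (x * y) * B + y * y * C = 0 ∧
        x' * x' * A + 2 * (x' * y') * B + y' * y' * C = 0 ∧ x * y' - x' * y ≠ 0 := by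
      by_cases hA0 : A = 0
      · have hB0 : B ≠ 0 := fun h0 => hgram (by rw [hA0, h0]; ring)
        refine ⟨1, 0, -C / (2 * B), 1, by rw [hA0]; ring, ?_, by simp⟩
        rw [hA0]
        field_simp
        ring
      · obtain ⟨r, hr⟩ := IsAlgClosed.exists_pow_nat_eq (B * B - A * C) (n := 2) two_pos
        have hr0 : r ≠ 0 := fun h0 => hgram (by rw [h0] at hr; linear_combination hr)
        refine ⟨(-B + r) / A, 1, (-B - r) / A, 1, ?_, ?_, ?_⟩
        · field_simp
          linear_combination hr
        · field_simp
          linear_combination hr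
        · rw [mul_one, mul_one, ← sub_div, div_ne_zero_iff]
          refine ⟨?_, hA0⟩
          rw [show -B + r - (-B - r) = 2 * r by ring]
          exact mul_ne_zero h2 hr0
    set e := x • b i + y • b j with he
    set f := x' • b i + y' • b j with hf
    have hval : ∀ p q p' q' : K, β (p • b i + q • b j) (p' • b i + q' • b j) =
        p * p' * A + (p * q' + q * p') * B + q * q' * C := by
      intro p q p' q'
      simp only [map_add, map_smul, LinearMap.add_apply, LinearMap.smul_apply, smul_eq_mul,
        hsymm (b j) (b i), ← hA, ← hB, ← hC]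
      ring
    have hee : β e e = 0 := by rw [he, hval]; linear_combination hq
    have hff : β f f = 0 := by rw [hf, hval]; linear_combination hq'
    have hef : β e f ≠ 0 := by
      intro h0
      rw [he, hf, hval] at h0
      have h4 : (A * C - B * B) * (x * y' - x' * y) ^ 2 = 0 := by
        linear_combination (x' * x' * A + 2 * (x' * y') * B + y' * y' * C) * hq -
          (x * x' * A + (x * y' + y * x') * B + y * y' * C) * h0
      exact hd (pow_eq_zero_iff two_ne_zero |>.1 ((mul_eq_zero.1 h4).resolve_left hgram))
    have heg : β e g = 0 := by simp [he, hgi, hgj]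
    have hfg : β f g = 0 := by simp [hf, hgi, hgj]
    obtain ⟨b₁, hb₁⟩ := exists_split_basis hsymm hnd hdim hee hff hef heg hfg (b.ne_zero k)
    have hhe : h e = (-1 : K) • e := by
      rw [he, map_add, map_smul, map_smul, hμ i, hμ j, hi, hj, smul_add, smul_smul, smul_smul,
        smul_smul, smul_smul, mul_comm x, mul_comm y]
    have hhf : h f = (-1 : K) • f := by
      rw [hf, map_add, map_smul, map_smul, hμ i, hμ j, hi, hj, smul_add, smul_smul, smul_smul,
        smul_smul, smul_smul, mul_comm x', mul_comm y']
    exact split_lines hsymm hnd hhe hhf hg hne1 hne1 hee hff hef h2 heg hfg hgg b₁ hb₁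
      (neg_ne_zero.2 one_ne_zero) (neg_ne_zero.2 one_ne_zero)

end Cfsg.Agent.H86.HalfDeg
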