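import Cfsg.Agent.H86.HalfDeg.Orbit
import Cfsg.Agent.H86.FewSylowZassenhaus
import Cfsg.Agent.H86.FewSylowExceptional
import Cfsg.Agent.Linear.Order
import Cfsg.Agent.H27.PermFamily

/-!
# A group with a faithful character of degree `(p - 1) / 2` is `PSL(2, p)` modulo its centre
-/

set_option autoImplicit false
set_option linter.unusedSectionVars false
set_option linter.style.haveILetI false

namespace Cfsg.Agent.H86.HalfDeg

open Matrix

universe u

variable {G : Type u} [Group G] [Finite G] {p : ℕ} [hp : Fact p.Prime] {n : ℕ}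
variable {ρ : Representation ℂ G (Fin n → ℂ)} {x : G}

theorem not_dvd_center (h : Hyp ρ p x) : ¬ p ∣ Nat.card (Subgroup.center G) := fun hd => by
  haveI := h.irr
  exact not_mem_center ρ h.two_le h.gen (mem_of_dvd_card h.sq h.order _ hd)

/-- A lift of a power of `x` with trivial `p`-th power is that power. -/
theorem eq_pow_of_mk (h : Hyp ρ p x) {y : G} {i : ℕ} (hy : y ^ p = 1)
    (hi : (y : G ⧸ Subgroup.center G) = (x : G ⧸ Subgroup.center G) ^ i) : y = x ^ i := by
  rw [← QuotientGroup.mk_pow, QuotientGroup.eq] at hi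
  set z := y⁻¹ * x ^ i with hz
  have hc : Commute y z := Subgroup.mem_center_iff.1 hi y
  have hxi : x ^ i = y * z := by rw [hz, mul_inv_cancel_left]
  have hzp : z ^ p = 1 := by
    have h1 : (y * z) ^ p = 1 := by
      rw [← hxi, ← pow_mul, mul_comm i p, pow_mul, ← h.order, pow_orderOf_eq_one, one_pow]
    rwa [hc.mul_pow, hy, one_mul] at h1
  have hz1 : z = 1 := by
    rcases (Nat.dvd_prime hp.out).1 (orderOf_dvd_of_pow_eq_one hzp) with h1 | h1
    · exact orderOf_eq_one_iff.1 h1
    · exact absurd (h1 ▸ (Subgroup.orderOf_coe (⟨z, hi⟩ : Subgroup.center G)).dvd.trans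
        (orderOf_dvd_natCard _)) (not_dvd_center h)
  rw [hxi, hz1, mul_one]

/-- The quotient by the centre with its orthogonal action. -/
theorem exists_orth (h : Hyp ρ p x) :
    Nonempty (Orth (G ⧸ Subgroup.center G) p n (x : G ⧸ Subgroup.center G)) := by
  haveI := h.irr
  obtain ⟨M, hM⟩ := exists_model h
  have hle : Subgroup.center G ≤ M.π.ker := fun z hz => MonoidHom.mem_ker.2 (hM z hz)
  have hx1 : M.π x ≠ 1 := fun e => M.regular (by rw [e, sub_self, zero_pow two_ne_zero])
  have hker : M.π.ker = Subgroup.center G := by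
    refine le_antisymm (normal_le_center h fun hd => hx1 ?_) hle
    exact MonoidHom.mem_ker.1 (mem_of_dvd_card h.sq h.order _ hd)
  have hxZ : x ∉ Subgroup.center G := not_mem_center ρ h.two_le h.gen
  have hord : orderOf (x : G ⧸ Subgroup.center G) = p := by
    refine orderOf_eq_prime ?_ fun e => hxZ ((QuotientGroup.eq_one_iff x).1 e)
    rw [← QuotientGroup.mk_pow, ← h.order, pow_orderOf_eq_one, QuotientGroup.mk_one]
  refine ⟨⟨⟨M.K, M.R, M.β, QuotientGroup.lift _ M.π hle, M.symm, M.nd, M.dim, ?_, ?_, M.regular⟩,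
    ?_, ?_, hord, ?_, h.hpn, h.two_le, ?_⟩⟩
  · intro g
    induction g using QuotientGroup.induction_on with
    | H g => exact M.iso g
  · intro g
    induction g using QuotientGroup.induction_on with
    | H g => exact M.det g
  · intro a b hab
    induction a using QuotientGroup.induction_on with
    | H a =>
      induction b using QuotientGroup.induction_on with
      | H b =>
        have hab' : M.π a = M.π b := hab
        rw [QuotientGroup.eq, ← hker, MonoidHom.mem_ker, map_mul, ← hab', ← map_mul,
          inv_mul_cancel, map_one]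
  · exact fun hd => h.sq (hd.trans (Subgroup.card_quotient_dvd_card _))
  · have hsurj := QuotientGroup.mk'_surjective (Subgroup.center G)
    have h1 := congrArg (Subgroup.map (QuotientGroup.mk' (Subgroup.center G))) (commutator_eq_top h)
    rw [_root_.commutator_def, Subgroup.map_commutator,
      Subgroup.map_top_of_surjective _ hsurj] at h1
    rwa [_root_.commutator_def]
  · intro t a ht
    induction t using QuotientGroup.induction_on with
    | H t =>
      refine orderOf_le h (t := t) (eq_pow_of_mk h ?_ ?_)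
      · rw [conj_pow, ← h.order, pow_orderOf_eq_one, mul_one, mul_inv_cancel]
      · rw [← ht]
        rfl

/-- The main result for groups generated by the conjugates of `x`. -/
theorem core (h : Hyp ρ p x) :
    Nonempty ((G ⧸ Subgroup.center G) ≃* ProjectiveSpecialLinearGroup (Fin 2) (ZMod p)) ∧
      Nat.card (Sylow p G) = p + 1 ∧
      ∃ A : Finset (ZMod p), n ≤ A.card ∧
        ∀ a ∈ A, ∃ (k : G) (i : ℕ), k * x * k⁻¹ = x ^ i ∧ (i : ZMod p) = a := by
  classical
  obtain ⟨T⟩ := exists_orth h
  set xb := (x : G ⧸ Subgroup.center G) with hxb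
  have hg := T.card_sylow
  have hn2 := h.two_le
  have hpn := h.hpn
  letI := Fintype.ofFinite (G ⧸ Subgroup.center G)
  have hC : Subgroup.centralizer ((T.P : Subgroup (G ⧸ Subgroup.center G)) : Set _) =
      (T.P : Subgroup (G ⧸ Subgroup.center G)) := by
    refine le_antisymm (fun g hg' => ?_) fun g hg' => ?_
    · rw [T.coe_P]
      refine T.mem_of_commute ?_
      exact (Subgroup.mem_centralizer_iff.1 hg' _ (by
        rw [T.coe_P]; exact Subgroup.mem_zpowers _)).symm
    · rw [T.coe_P] at hg' ⊢
      refine Subgroup.mem_centralizer_iff.2 fun y hy => ?_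
      obtain ⟨i, rfl⟩ := Subgroup.mem_zpowers_iff.1 hg'
      obtain ⟨j, rfl⟩ := Subgroup.mem_zpowers_iff.1 hy
      exact (Commute.zpow_zpow (Commute.refl _) j i).eq
  obtain ⟨S, hS⟩ := FewSylow.exists_sc T.P T.card_P hC
  have hfew : 2 * Nat.card (Sylow p (G ⧸ Subgroup.center G)) < (p + 1) * (p + 2) := by
    rw [hg, mul_comm 2]
    exact Nat.mul_lt_mul_of_pos_left (by omega) (by omega)
  obtain ⟨D⟩ := FewSylow.exists_data S T.perfect
    (FewSylowArith.not_rep_of_few (FewSylow.card_sylow_eq S) hfew)
  have hn1 : D.n = 1 := by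
    have h1 : Nat.card (Sylow p (G ⧸ Subgroup.center G)) = 1 + D.n * p :=
      FewSylow.card_sylow_eq D.S
    rw [hg] at h1
    exact Nat.eq_of_mul_eq_mul_right hp.out.pos (by omega)
  obtain ⟨F, iF, iFin, hF, -, ⟨eF⟩⟩ := D.exists_psl_odd hn1
  let e := eF.trans (H27.PermFamily.pslCongr (ZMod.ringEquivOfPrime F hp.out hF).symm)
  have hsyl : Nat.card (Sylow p G) = p + 1 := by
    let P₀ : Sylow p G := Sylow.ofCard (Subgroup.zpowers x) (by
      rw [Nat.card_zpowers, h.order]
      have h1 : (Nat.card G).factorization p = 1 := by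
        apply le_antisymm
        · by_contra hc
          exact h.sq ((hp.out.pow_dvd_iff_le_factorization Nat.card_pos.ne').2 (by omega))
        · refine (hp.out.pow_dvd_iff_le_factorization Nat.card_pos.ne').1 ?_
          rw [pow_one, ← h.order]
          exact orderOf_dvd_natCard x
      rw [h1, pow_one])
    rw [← hg, T.P.card_eq_index_normalizer, P₀.card_eq_index_normalizer]
    show (Subgroup.normalizer ((Subgroup.zpowers x : Subgroup G) : Set G)).index = T.N.index
    rw [← Subgroup.index_comap_of_surjective T.N (QuotientGroup.mk'_surjective (Subgroup.center G))]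
    congr 1
    ext g
    rw [Subgroup.mem_comap, QuotientGroup.mk'_apply]
    constructor
    · intro hg'
      refine mem_normalizer_of_conj _ ?_
      obtain ⟨i, hi⟩ := mem_powers_iff_mem_zpowers.2
        ((Subgroup.mem_normalizer_iff.1 hg' x).1 (Subgroup.mem_zpowers x))
      refine mem_powers_iff_mem_zpowers.1 ⟨i, ?_⟩
      exact congrArg (QuotientGroup.mk' (Subgroup.center G)) hi
    · intro hg'
      refine mem_normalizer_of_conj _ ?_
      obtain ⟨i, hi⟩ := mem_powers_iff_mem_zpowers.2
        ((Subgroup.mem_normalizer_iff.1 hg' _).1 (Subgroup.mem_zpowers _))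
      refine mem_powers_iff_mem_zpowers.1 ⟨i, (eq_pow_of_mk h ?_ hi.symm).symm⟩
      rw [conj_pow, ← h.order, pow_orderOf_eq_one, mul_one, mul_inv_cancel]
  refine ⟨⟨e⟩, hsyl, ?_⟩
  -- the multipliers
  have hcard : T.e = n := by
    have h1 := Linear.card_PSL_two_mul (F := ZMod p)
    rw [ZMod.card, ← Nat.card_congr e.toEquiv, T.card_eq, hg, show Nat.gcd 2 (p - 1) = 2 from
      Nat.gcd_eq_left ⟨n, by omega⟩] at h1
    have h2 : p ^ 2 - 1 = 2 * n * (p + 1) := by
      rw [← hpn]
      exact Nat.sub_eq_of_eq_add (by ring)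
    rw [h2] at h1
    have h3 : (2 * p * (p + 1)) * T.e = (2 * p * (p + 1)) * n := by
      calc (2 * p * (p + 1)) * T.e = 2 * (p * T.e * (p + 1)) := by ring
        _ = p * (2 * n * (p + 1)) := h1
        _ = _ := by ring
    exact Nat.eq_of_mul_eq_mul_left
      (Nat.mul_pos (Nat.mul_pos two_pos hp.out.pos) (by omega)) h3
  have hex : ∀ g : T.N, ∃ (k : G) (i : ℕ),
      ((k : G ⧸ Subgroup.center G) = (g : G ⧸ Subgroup.center G)) ∧ k * x * k⁻¹ = x ^ i := by
    rintro ⟨g, hg'⟩
    induction g using QuotientGroup.induction_on with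
    | H k =>
      obtain ⟨i, hi⟩ := mem_powers_iff_mem_zpowers.2
        ((Subgroup.mem_normalizer_iff.1 hg' xb).1 (Subgroup.mem_zpowers _))
      refine ⟨k, i, rfl, eq_pow_of_mk h ?_ hi.symm⟩
      rw [conj_pow, ← h.order, pow_orderOf_eq_one, mul_one, mul_inv_cancel]
  choose k i hk hki using hex
  letI : Fintype T.N := Fintype.ofFinite _
  refine ⟨Finset.univ.image fun g : T.N => (i g : ZMod p), ?_, fun a ha => ?_⟩
  · have hfib : ∀ a ∈ Finset.univ.image fun g : T.N => (i g : ZMod p),
        (Finset.univ.filter fun g : T.N => (i g : ZMod p) = a).card ≤ p := by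
      intro a ha
      obtain ⟨g₀, -, rfl⟩ := Finset.mem_image.1 ha
      have key : ∀ g : T.N, (g : G ⧸ Subgroup.center G) * xb *
          (g : G ⧸ Subgroup.center G)⁻¹ = xb ^ i g := fun g => by
        rw [← hk]
        exact congrArg (QuotientGroup.mk' (Subgroup.center G)) (hki g)
      have hsub : ∀ g ∈ Finset.univ.filter fun g : T.N => (i g : ZMod p) = i g₀,
          ∃ j : Fin p, (g : G ⧸ Subgroup.center G) = g₀ * xb ^ (j : ℕ) := by
        intro g hg'
        have heq : xb ^ i g = xb ^ i g₀ := by
          rw [pow_eq_pow_iff_modEq, T.order, ← ZMod.natCast_eq_natCast_iff]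
          exact (Finset.mem_filter.1 hg').2
        have hc : Commute ((g₀ : G ⧸ Subgroup.center G)⁻¹ * g) xb := by
          have h1 := key g
          rw [heq, ← key g₀] at h1
          calc (g₀ : G ⧸ Subgroup.center G)⁻¹ * g * xb
              = (g₀ : G ⧸ Subgroup.center G)⁻¹ * ((g : G ⧸ Subgroup.center G) * xb *
                  (g : G ⧸ Subgroup.center G)⁻¹) * g := by simp [mul_assoc]
            _ = xb * ((g₀ : G ⧸ Subgroup.center G)⁻¹ * g) := by
              rw [h1]; simp [mul_assoc]
        obtain ⟨j, hj⟩ := mem_powers_iff_mem_zpowers.2 (T.mem_of_commute hc)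
        refine ⟨⟨j % p, Nat.mod_lt _ hp.out.pos⟩, ?_⟩
        show (g : G ⧸ Subgroup.center G) = g₀ * xb ^ (j % p)
        have hmod : xb ^ (j % p) = xb ^ j := by simpa [T.order] using pow_mod_orderOf xb j
        rw [hmod, show xb ^ j = _ from hj, mul_inv_cancel_left]
      choose! j hj using hsub
      refine (Finset.card_le_card_of_injOn j (fun _ _ => Finset.mem_univ _) fun g hg' g' hg'' e =>
        Subtype.ext ?_).trans (by simp)
      rw [hj g hg', hj g' hg'', e]
    have h1 := Finset.card_le_mul_card_image (f := fun g : T.N => (i g : ZMod p)) Finset.univ p hfib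
    rw [Finset.card_univ, ← Nat.card_eq_fintype_card, T.card_N, hcard] at h1
    exact Nat.le_of_mul_le_mul_left h1 hp.out.pos
  · obtain ⟨g, -, rfl⟩ := Finset.mem_image.1 ha
    exact ⟨k g, i g, hki g, rfl⟩

end Cfsg.Agent.H86.HalfDeg
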