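import Cfsg.Agent.H36.Fixed
import Mathlib.GroupTheory.GroupAction.Quotient
import Mathlib.Tactic.Ring

/-!
# The orbit count: `p + 1` Sylow subgroups
-/

set_option autoImplicit false
set_option linter.unusedSectionVars false

namespace Cfsg.Agent.H86.HalfDeg

open MulAction

/-- The numerical part. -/
theorem count_arith {p e g s : ℕ} (hp : p % 2 = 1) (hp3 : 3 ≤ p) (hg : p + 1 ≤ g)
    (he : 2 * e ≤ p - 1) (he1 : 1 ≤ e) (h : s * (2 + (p - 2) * g) = p * e * g) : g = p + 1 := by
  have h1 : s * (p - 2) * g + 2 * s = p * e * g := by rw [← h]; ring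
  have h2 : s * (p - 2) < p * e := by
    by_contra hc
    push Not at hc
    have := Nat.mul_le_mul_right g hc
    rcases Nat.eq_zero_or_pos s with rfl | hs
    · rw [zero_mul] at hc
      have := Nat.mul_pos (show 0 < p by omega) he1
      omega
    · omega
  obtain ⟨D, hD⟩ : ∃ D, p * e = s * (p - 2) + D := ⟨p * e - s * (p - 2), by omega⟩
  rw [hD, add_mul] at h1
  have hD1 : 1 ≤ D := by omega
  have h3 : g ≤ D * g := Nat.le_mul_of_pos_left _ hD1
  have h4 : 2 * s * (p - 2) < p * (p - 1) := by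
    calc 2 * s * (p - 2) = 2 * (s * (p - 2)) := by ring
      _ < 2 * (p * e) := by omega
      _ = p * (2 * e) := by ring
      _ ≤ p * (p - 1) := Nat.mul_le_mul_left _ he
  have h5 : 2 * s < p + 3 := by
    by_contra hc
    push Not at hc
    have := Nat.mul_le_mul_right (p - 2) hc
    obtain ⟨q, rfl⟩ : ∃ q, p = q + 3 := ⟨p - 3, by omega⟩
    simp only [show q + 3 - 2 = q + 1 from rfl, show q + 3 - 1 = q + 2 from rfl] at this h4
    ring_nf at this h4
    omega
  rcases (show D = 1 ∨ 2 ≤ D by omega) with rfl | hD2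
  · omega
  · have := Nat.mul_le_mul_right g hD2
    omega

/-- The orbit count. -/
theorem card_sylow_eq {G : Type*} [Group G] [Finite G] {Ω : Type*} [MulAction G Ω] [Finite Ω]
    {p : ℕ} [hp : Fact p.Prime] (hp3 : 3 ≤ p) {e : ℕ} (P : Sylow p G)
    (hP : Nat.card (P : Subgroup G) = p) (hN : Nat.card G = p * e * Nat.card (Sylow p G))
    (hg : p + 1 ≤ Nat.card (Sylow p G)) (he : 2 * e ≤ p - 1) (he1 : 1 ≤ e)
    (h1 : ∀ h : G, orderOf h = p → Nat.card (fixedBy Ω h) = 1)
    (h2 : ∀ h : G, h ≠ 1 → orderOf h ≠ p → Nat.card (fixedBy Ω h) = 2) (ω : Ω)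
    (hω : Nat.card (stabilizer G ω) = p * e) (hne : ∀ a : Ω, ∃ h : G, h ≠ 1 ∧ h • a = a) :
    Nat.card (Sylow p G) = p + 1 := by
  classical
  cases nonempty_fintype G
  cases nonempty_fintype Ω
  set g := Nat.card (Sylow p G) with hgdef
  set N := Nat.card G with hNdef
  set Q := orbitRel.Quotient G Ω
  haveI : Fintype Q := Fintype.ofFinite Q
  -- Burnside
  have hburn : ∑ h : G, Nat.card (fixedBy Ω h) = Nat.card Q * N := by
    have := sum_card_fixedBy_eq_card_orbits_mul_card_group G Ω
    simpa [← Nat.card_eq_fintype_card] using this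
  set T := Finset.univ.filter fun h : G => orderOf h = p with hT
  have hTc : T.card = g * (p - 1) := by
    rw [hgdef, ← H36.card_orderOf_eq P hP, Nat.card_eq_fintype_card, Fintype.card_subtype]
  have hone : (1 : G) ∉ T := by
    simp only [hT, Finset.mem_filter, orderOf_one]
    exact fun h => hp.out.ne_one h.2.symm
  have hsum : ∑ h : G, Nat.card (fixedBy Ω h) + g * (p - 1) + 2 = Nat.card Ω + 2 * N := by
    have hsplit : (Finset.univ : Finset G) = insert 1 (T ∪ ((Finset.univ.erase 1) \ T)) := by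
      ext h
      simp only [Finset.mem_univ, Finset.mem_insert, Finset.mem_union, Finset.mem_sdiff,
        Finset.mem_erase, and_true]
      tauto
    have hdisj : Disjoint T ((Finset.univ.erase 1) \ T) := Finset.disjoint_sdiff
    have hnot : (1 : G) ∉ T ∪ ((Finset.univ.erase 1) \ T) := by simp [hone]
    have hR : ((Finset.univ.erase (1 : G)) \ T).card + g * (p - 1) + 1 = N := by
      rw [← hTc, add_comm _ T.card, ← Finset.card_union_of_disjoint hdisj,
        ← Finset.card_insert_of_notMem hnot, ← hsplit, Finset.card_univ, hNdef,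
        Nat.card_eq_fintype_card]
    rw [hsplit, Finset.sum_insert hnot, Finset.sum_union hdisj,
      Finset.sum_congr rfl (g := fun _ => 1) fun h hh => h1 h (Finset.mem_filter.1 hh).2,
      Finset.sum_congr rfl (g := fun _ => 2) (s₁ := (Finset.univ.erase 1) \ T) fun h hh =>
        h2 h (Finset.ne_of_mem_erase (Finset.mem_sdiff.1 hh).1) fun he =>
          (Finset.mem_sdiff.1 hh).2 (Finset.mem_filter.2 ⟨Finset.mem_univ _, he⟩)]
    have hfix1 : Nat.card (fixedBy Ω (1 : G)) = Nat.card Ω := by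
      rw [show fixedBy Ω (1 : G) = Set.univ by ext a; simp, Nat.card_coe_set_eq, Set.ncard_univ]
    rw [hfix1, Finset.sum_const, Finset.sum_const, smul_eq_mul, smul_eq_mul, hTc]
    omega
  -- the orbit sizes
  have hcards : Nat.card Ω = ∑ q : Q, Nat.card (orbit G q.out) := by
    rw [Nat.card_congr (selfEquivSigmaOrbits G Ω), Nat.card_sigma]
  have hmul : ∀ a : Ω, Nat.card (orbit G a) * Nat.card (stabilizer G a) = N := fun a => by
    rw [Nat.card_coe_set_eq, ← index_stabilizer G a, mul_comm, Subgroup.card_mul_index]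
  have hhalf : ∀ a : Ω, 2 * Nat.card (orbit G a) ≤ N := fun a => by
    rw [← hmul a, mul_comm 2]
    refine Nat.mul_le_mul_left _ ?_
    haveI : Nontrivial (stabilizer G a) := by
      obtain ⟨h, hh1, hh⟩ := hne a
      exact ⟨⟨⟨h, hh⟩, 1, fun e => hh1 (congrArg Subtype.val e)⟩⟩
    exact Finite.one_lt_card
  set q₀ : Q := Quotient.mk'' ω with hq₀
  have horb : Nat.card (orbit G q₀.out) = g := by
    have hmem : q₀.out ∈ orbit G ω := Quotient.exact' (Quotient.out_eq' q₀)
    rw [orbit_eq_iff.2 hmem]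
    have h := hmul ω
    rw [hω, hN, mul_comm (p * e)] at h
    exact Nat.eq_of_mul_eq_mul_right (Nat.mul_pos hp.out.pos he1) h
  rw [hburn] at hsum
  rw [← Finset.add_sum_erase _ _ (Finset.mem_univ q₀), horb] at hcards
  have hcQ : Nat.card Q = (Finset.univ.erase q₀).card + 1 := by
    rw [Finset.card_erase_of_mem (Finset.mem_univ _), Finset.card_univ, Nat.card_eq_fintype_card]
    have : 0 < Fintype.card Q := Fintype.card_pos_iff.2 ⟨q₀⟩
    omega
  have hT2 : 2 * ∑ q ∈ Finset.univ.erase q₀, Nat.card (orbit G q.out) ≤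
      (Finset.univ.erase q₀).card * N := by
    rw [Finset.mul_sum, ← smul_eq_mul _ N, ← Finset.sum_const]
    exact Finset.sum_le_sum fun q _ => hhalf _
  set r := (Finset.univ.erase q₀).card with hr
  rw [hcQ, hcards] at hsum
  obtain ⟨k, rfl⟩ : ∃ k, p = k + 2 := ⟨p - 2, by omega⟩
  simp only [Nat.add_sub_cancel, show k + 2 - 1 = k + 1 from rfl] at hsum
  have hr1 : r = 1 := by
    rcases (show r = 0 ∨ r = 1 ∨ 2 ≤ r by omega) with h0 | h0 | h0
    · exfalso
      rw [h0, Finset.card_eq_zero.1 h0, Finset.sum_empty] at hsum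
      have hpe : k + 2 ≤ (k + 2) * e := Nat.le_mul_of_pos_right _ he1
      have := Nat.mul_le_mul_right g hpe
      ring_nf at hsum this hN
      omega
    · exact h0
    · exfalso
      have := Nat.mul_le_mul_right N h0
      ring_nf at hsum this hT2 hN
      omega
  obtain ⟨q₁, hq₁⟩ := Finset.card_eq_one.1 hr1
  rw [hr1, hq₁, Finset.sum_singleton] at hsum
  have hc : Nat.card (orbit G q₁.out) = 2 + k * g := by
    linarith
  have h := hmul q₁.out
  rw [hc, hN, mul_comm] at h
  exact count_arith (Nat.odd_iff.1 (hp.out.odd_of_ne_two (by omega))) hp3 hg he he1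
    (by rw [Nat.add_sub_cancel]; exact h)

end Cfsg.Agent.H86.HalfDeg
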