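import Cfsg.Agent.H86.HalfDeg.Setup
import Mathlib.RingTheory.Valuation.Integral
import Mathlib.Dynamics.PeriodicPts.Lemmas

/-!
# Normal subgroups of order prime to `p` are central
-/

set_option autoImplicit false
set_option linter.unusedSectionVars false
set_option linter.style.haveILetI false

open scoped ComplexConjugate commutatorElement

namespace Cfsg.Agent.H86.HalfDeg

open Module H81 CharBasic

variable {G : Type*} [Group G] [Finite G] {p : ℕ} [hp : Fact p.Prime] {n : ℕ}

/-- The setting: a faithful irreducible representation of degree `(p - 1) / 2`. -/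
structure Hyp (ρ : Representation ℂ G (Fin n → ℂ)) (p : ℕ) (x : G) : Prop where
  irr : ρ.IsIrreducible
  inj : Function.Injective ρ
  two_le : 2 ≤ n
  hpn : 2 * n + 1 = p
  sq : ¬ p ^ 2 ∣ Nat.card G
  order : orderOf x = p
  gen : ∀ K : Subgroup G, K.Normal → x ∈ K → K = ⊤

variable {ρ : Representation ℂ G (Fin n → ℂ)} {x : G}

/-- The centralizer of `x` is `⟨x⟩` times the centre. -/
theorem centralizer_decomp (h : Hyp ρ p x) {g : G} (hg : Commute x g) :
    ∃ a : ℕ, ∃ z ∈ Subgroup.center G, g = x ^ a * z := by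
  haveI := h.irr
  obtain ⟨O, t, e, D, hfull⟩ := exists_data_full h.sq x h.order
  have hO : ∀ o ∈ O, o ∈ Subgroup.center G := fun o ho => by
    obtain ⟨c, hc⟩ := scalar_O ρ h.two_le h.hpn h.inj D h.gen ho
    exact mem_center_of_scalar ρ h.inj hc
  have hgN : g ∈ Subgroup.normalizer ((Subgroup.zpowers x : Subgroup G) : Set G) := by
    refine Subgroup.mem_normalizer_iff.2 fun y => ⟨fun hy => ?_, fun hy => ?_⟩
    · obtain ⟨i, rfl⟩ := Subgroup.mem_zpowers_iff.1 hy
      rw [← (hg.zpow_left i).eq, mul_inv_cancel_right]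
      exact Subgroup.zpow_mem_zpowers x i
    · obtain ⟨i, hi⟩ := Subgroup.mem_zpowers_iff.1 hy
      have : y = g⁻¹ * (x ^ i) * g := by rw [hi]; simp [mul_assoc]
      rw [this, mul_assoc, (hg.zpow_left i).eq, inv_mul_cancel_left]
      exact Subgroup.zpow_mem_zpowers x i
  obtain ⟨a, i, o, ho, rfl⟩ := D.normalizer_eq g hgN
  refine ⟨a, t ^ i * o, Subgroup.mul_mem _ (hO _ (hfull i ?_)) (hO o ho), rfl⟩
  have h1 : Commute x (t ^ i * o) := by
    have := ((Commute.refl x).pow_right a).inv_right.mul_right hg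
    rwa [inv_mul_cancel_left] at this
  have h2 := h1.mul_right (show Commute x o⁻¹ from
    (show Commute x o from D.comm o ho).inv_right)
  rwa [mul_inv_cancel_right] at h2

/-- An element of order prime to `p` commuting with `x` is central. -/
theorem mem_center_of_commute (h : Hyp ρ p x) {g : G} (hg : Commute x g)
    (hgo : ¬ p ∣ orderOf g) : g ∈ Subgroup.center G := by
  obtain ⟨a, z, hz, hgz⟩ := centralizer_decomp h hg
  rcases Decidable.em (p ∣ a) with ⟨b, rfl⟩ | ha
  · rwa [hgz, pow_mul, ← h.order, pow_orderOf_eq_one, one_pow, one_mul]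
  · exfalso
    haveI := h.irr
    refine not_mem_center ρ h.two_le h.gen ?_
    have hc : Commute (x ^ a) z := (Subgroup.mem_center_iff.1 hz (x ^ a))
    have h1 : (x ^ a) ^ orderOf g * z ^ orderOf g = 1 := by
      rw [← hc.mul_pow, ← hgz, pow_orderOf_eq_one]
    have h2 : x ^ (a * orderOf g) ∈ Subgroup.center G := by
      rw [pow_mul, eq_inv_of_mul_eq_one_left h1]
      exact Subgroup.inv_mem _ (Subgroup.pow_mem _ hz _)
    have h3 : ¬ p ∣ a * orderOf g := fun hd => by
      rcases hp.out.dvd_mul.1 hd with hd | hd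
      · exact ha hd
      · exact hgo hd
    obtain ⟨j, hj⟩ := exists_pow_eq_self_of_coprime (n := a * orderOf g)
      (by rw [h.order]; exact (hp.out.coprime_iff_not_dvd.2 h3).symm : Nat.Coprime _ (orderOf x))
    rw [← hj]
    exact Subgroup.pow_mem _ h2 j

/-- Character values are integral at the place `A`. -/
theorem mem_of_character {H : Type*} [Group H] [Finite H] (A : ValuationSubring ℂ) {χ : H → ℂ}
    (hχ : Cfsg.IsCharacter H χ) (g : H) : χ g ∈ A := by
  have hint : IsIntegral A.valuation.integer (χ g) := (IsChar.isIntegral hχ g).tower_top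
  have := (Valuation.integer.integers A.valuation).mem_of_integral hint
  rwa [Valuation.mem_integer_iff, A.valuation_le_one_iff] at this

variable {K : Subgroup G}

/-- Conjugation by `x` on a normal subgroup. -/
noncomputable abbrev conjAction [K.Normal] (x : G) : MulAction (Subgroup.zpowers x) K :=
  MulAction.compHom K ((MulAut.conjNormal (H := K)).comp (Subgroup.zpowers x).subtype)

/-- The constituents of the restriction are linear. -/
theorem constituent_linear (h : Hyp ρ p x) [K.Normal] (hK : ¬ p ∣ Nat.card K)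
    {ψ : K → ℂ} (hψ : Cfsg.IsIrrCharacter K ψ) {d : ℕ} (hd : ψ 1 = d) (hdn : d ≤ n)
    (hfix : ∀ k : K, ψ (MulAut.conjNormal x k) = ψ k) : d = 1 := by
  classical
  haveI : Fintype K := Fintype.ofFinite K
  obtain ⟨A, hA⟩ := H84.exists_valuationSubring p
  haveI := charP_residue A hp.out hA
  letI := conjAction (K := K) x
  have hmem : ∀ k, ψ k * conj (ψ k) ∈ A := fun k => by
    refine A.mul_mem _ _ (mem_of_character A (IsIrr.isCharacter hψ) k) ?_
    rw [← IsChar.inv_apply (IsIrr.isCharacter hψ)]
    exact mem_of_character A (IsIrr.isCharacter hψ) _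
  let r := IsLocalRing.residue A
  let f : K → IsLocalRing.ResidueField A := fun k => r ⟨_, hmem k⟩
  have hP : IsPGroup p (Subgroup.zpowers x) :=
    IsPGroup.of_card (n := 1) (by rw [Nat.card_zpowers, h.order, pow_one])
  have hfinv : ∀ (q : Subgroup.zpowers x) (k : K), f (q • k) = f k := by
    have hpow : ∀ (i : ℕ) (k : K), ψ (MulAut.conjNormal (x ^ i) k) = ψ k := by
      intro i
      induction i with
      | zero => simp
      | succ i ih =>
        intro k
        rw [pow_succ', map_mul, MulAut.mul_apply, hfix, ih]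
    rintro ⟨q, hq⟩ k
    obtain ⟨i, rfl⟩ := mem_powers_iff_mem_zpowers.2 hq
    exact congrArg r (Subtype.ext (by
      show ψ (MulAut.conjNormal (x ^ i) k) * conj (ψ (MulAut.conjNormal (x ^ i) k)) = _
      rw [hpow]))
  have hR : ((p : ℕ) : IsLocalRing.ResidueField A) = 0 := CharP.cast_eq_zero _ p
  have hsum := H83.Star.sum_eq_sum_fixed hR hP hfinv
  have hone := H83.Star.sum_eq_sum_fixed hR hP (f := fun _ : K => (1 : IsLocalRing.ResidueField A))
    fun _ _ => rfl
  -- the total
  have htot : ∑ k, f k = (Nat.card K : IsLocalRing.ResidueField A) := by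
    have h1 := classInner_irr_self hψ
    rw [classInner_def] at h1
    have h0 : (Nat.card K : ℂ) ≠ 0 := Nat.cast_ne_zero.2 Nat.card_pos.ne'
    have h2 : ∑ k, ψ k * conj (ψ k) = (Nat.card K : ℂ) := by
      field_simp at h1
      exact h1
    have h3 : ∑ k, (⟨_, hmem k⟩ : A) = (Nat.card K : A) := Subtype.ext (by
      rw [AddSubmonoidClass.coe_finsetSum]; simpa using h2)
    show ∑ k, r ⟨_, hmem k⟩ = _
    rw [← map_sum, h3, map_natCast]
  -- the fixed points
  have hval : ∀ k : K, (∀ q : Subgroup.zpowers x, q • k = k) →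
      f k = ((d * d : ℕ) : IsLocalRing.ResidueField A) := by
    intro k hk
    have hc : Commute x (k : G) := by
      have h1 := congrArg Subtype.val (hk ⟨x, Subgroup.mem_zpowers x⟩)
      exact mul_inv_eq_iff_eq_mul.1 h1
    have hkZ : (k : G) ∈ Subgroup.center G := mem_center_of_commute h hc fun hd' =>
      hK ((hd'.trans (Subgroup.orderOf_coe k).dvd).trans (orderOf_dvd_natCard k))
    have hkZ' : k ∈ Subgroup.center K :=
      Subgroup.mem_center_iff.2 fun b => Subtype.ext (Subgroup.mem_center_iff.1 hkZ b)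
    have h2 : ψ k * conj (ψ k) = ((d * d : ℕ) : ℂ) := by
      obtain ⟨m, σ, hσ, hσψ⟩ := hψ
      haveI := hσ
      obtain ⟨ω, -, hω, hmul⟩ := exists_central_scalar σ hkZ'
      have hk1 := hmul 1
      rw [one_mul, Representation.char_one] at hk1
      have h1 : σ.character 1 = (d : ℂ) := by rw [hσψ, hd]
      rw [Representation.char_one] at h1
      rw [← hσψ, hk1, h1, map_mul, Complex.conj_natCast]
      have hωc : ω * conj ω = 1 := by rw [Complex.mul_conj', hω]; simp
      push_cast
      linear_combination (d : ℂ) * (d : ℂ) * hωc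
    show r ⟨_, hmem k⟩ = _
    rw [← map_natCast r]
    exact congrArg r (Subtype.ext (by simpa using h2))
  rw [htot, Finset.sum_congr rfl fun k hk => hval k (Finset.mem_filter.1 hk).2,
    Finset.sum_const, nsmul_eq_mul] at hsum
  simp only [Finset.sum_const, nsmul_eq_mul, mul_one, Finset.card_univ,
    ← Nat.card_eq_fintype_card] at hone
  rw [← hone] at hsum
  have hne : (Nat.card K : IsLocalRing.ResidueField A) ≠ 0 := by
    rwa [Ne, CharP.cast_eq_zero_iff _ p]
  have h1 : ((d * d : ℕ) : IsLocalRing.ResidueField A) = ((1 : ℕ) : IsLocalRing.ResidueField A) := by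
    rw [Nat.cast_one]
    exact mul_left_cancel₀ hne (by rw [mul_one]; exact hsum.symm)
  rw [CharP.natCast_eq_natCast _ p] at h1
  have hd0 : d ≠ 0 := fun h0 => IsIrr.one_ne_zero hψ (by rw [hd, h0, Nat.cast_zero])
  have hle : 1 ≤ d * d := Nat.mul_pos (by omega) (by omega)
  have hdvd : p ∣ d * d - 1 := (Nat.modEq_iff_dvd' hle).1 h1.symm
  obtain ⟨m, rfl⟩ : ∃ m, d = m + 1 := ⟨d - 1, by omega⟩
  rw [show (m + 1) * (m + 1) - 1 = m * (m + 2) by
    rw [Nat.sub_eq_iff_eq_add hle]; ring] at hdvd
  have := h.hpn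
  rcases hp.out.dvd_mul.1 hdvd with hd' | hd'
  · rcases Nat.eq_zero_or_pos m with rfl | hm
    · rfl
    · have := Nat.le_of_dvd hm hd'
      omega
  · have := Nat.le_of_dvd (by omega) hd'
    omega

/-- A normal subgroup of order prime to `p` is central. -/
theorem normal_le_center (h : Hyp ρ p x) [K.Normal] (hK : ¬ p ∣ Nat.card K) :
    K ≤ Subgroup.center G := by
  classical
  haveI : Fintype K := Fintype.ofFinite K
  have hχK : Cfsg.IsCharacter K (fun k : K => ρ.character k) :=
    ⟨n, ρ.comp K.subtype, rfl⟩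
  obtain ⟨s, hs⟩ := IsChar.eq_multiset_sum hχK
  -- multiplicities
  let S : Finset (Cfsg.IrrCharacter K) := s.toFinset
  have hinner : ∀ φ : Cfsg.IrrCharacter K,
      Cfsg.classInner (fun k : K => ρ.character k) (φ : K → ℂ) = (s.count φ : ℂ) := by
    intro φ
    rw [hs]
    clear hs
    induction s using Multiset.induction_on with
    | empty => simp [classInner_def]
    | cons a s ih =>
      rw [Multiset.map_cons, Multiset.sum_cons, classInner_add_left, ih, classInner_irrCharacter,
        Multiset.count_cons]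
      rcases eq_or_ne φ a with rfl | h1
      · rw [if_pos rfl, if_pos rfl]; push_cast; ring
      · rw [if_neg (Ne.symm h1), if_neg h1]; push_cast; ring
  have hdeg : ∀ φ : Cfsg.IrrCharacter K, φ ∈ s → ∃ d, (φ : K → ℂ) 1 = (d : ℕ) ∧ 1 ≤ d := by
    intro φ _
    obtain ⟨d, hd0, hd⟩ := IsIrr.exists_degree φ.2
    exact ⟨d, hd, hd0⟩
  choose! dg hdg hdg1 using hdeg
  have hn : (s.map dg).sum = n := by
    have h1 := congrFun hs 1
    simp only [OneMemClass.coe_one, Representation.char_one, Module.finrank_fin_fun] at h1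
    have h2 : ((s.map Subtype.val).sum : K → ℂ) 1 = ((s.map dg).sum : ℕ) := by
      clear h1 hs hinner
      induction s using Multiset.induction_on with
      | empty => simp
      | cons a s ih =>
        rw [Multiset.map_cons, Multiset.sum_cons, Pi.add_apply, Multiset.map_cons,
          Multiset.sum_cons, Nat.cast_add, hdg a (Multiset.mem_cons_self a s),
          ih (fun φ hφ => hdg φ (Multiset.mem_cons_of_mem hφ))
            (fun φ hφ => hdg1 φ (Multiset.mem_cons_of_mem hφ))]
    rw [h2] at h1
    exact_mod_cast h1.symm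
  have hcardS : S.card ≤ n := by
    refine (Multiset.toFinset_card_le s).trans ?_
    rw [← hn]
    have := Multiset.card_nsmul_le_sum (s := s.map dg) (a := 1) fun d hd => by
      obtain ⟨φ, hφ, rfl⟩ := Multiset.mem_map.1 hd
      exact hdg1 φ hφ
    simpa using this
  -- conjugation permutes the constituents
  let σ : K →* K := (MulAut.conjNormal x : K ≃* K).toMonoidHom
  have hσ : Function.Bijective σ := (MulAut.conjNormal x : K ≃* K).bijective
  let T : Cfsg.IrrCharacter K → Cfsg.IrrCharacter K := fun φ =>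
    ⟨(φ : K → ℂ) ∘ σ, CharInduce.IsIrr.comp φ.2 σ hσ.2⟩
  have hTinj : Function.Injective T := fun a b hab => Subtype.ext (funext fun k => by
    obtain ⟨k', rfl⟩ := hσ.2 k
    exact congrFun (congrArg Subtype.val hab) k')
  have hTS : ∀ φ ∈ S, T φ ∈ S := by
    intro φ hφ
    rw [Multiset.mem_toFinset, ← Multiset.count_pos] at hφ ⊢
    have h1 : Cfsg.classInner (fun k : K => ρ.character k) (T φ : K → ℂ) =
        Cfsg.classInner (fun k : K => ρ.character k) (φ : K → ℂ) := by
      rw [classInner_def, classInner_def]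
      congr 1
      refine Fintype.sum_equiv (MulAut.conjNormal x : K ≃* K).toEquiv _ _ fun k => ?_
      show ρ.character k * conj ((φ : K → ℂ) (σ k)) = _
      congr 1
      show ρ.character (k : G) = ρ.character (((MulAut.conjNormal x : K ≃* K) k : K) : G)
      rw [MulAut.conjNormal_apply, Representation.char_conj]
    rw [hinner, hinner, Nat.cast_inj] at h1
    omega
  have hfixS : ∀ φ ∈ S, T φ = φ := by
    intro φ hφ
    by_contra hne
    have hTp : T^[p] φ = φ := by
      have hiter : ∀ i (k : K), ((T^[i] φ : Cfsg.IrrCharacter K) : K → ℂ) k =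
          (φ : K → ℂ) (MulAut.conjNormal (x ^ i) k) := by
        intro i
        induction i with
        | zero => simp
        | succ i ih =>
          intro k
          rw [Function.iterate_succ_apply', show ((T (T^[i] φ) : Cfsg.IrrCharacter K) : K → ℂ) k =
            ((T^[i] φ : Cfsg.IrrCharacter K) : K → ℂ) (σ k) from rfl, ih, pow_succ, map_mul]
          rfl
      refine Subtype.ext (funext fun k => ?_)
      rw [hiter, ← h.order, pow_orderOf_eq_one, map_one]
      rfl
    have hper : Function.minimalPeriod T φ = p :=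
      Function.minimalPeriod_eq_prime hTp (fun h' => hne h')
    have hsub : (Finset.range p).image (fun i => T^[i] φ) ⊆ S := by
      have hall : ∀ i, T^[i] φ ∈ S := by
        intro i
        induction i with
        | zero => simpa using hφ
        | succ i ih =>
          rw [Function.iterate_succ_apply']
          exact hTS _ ih
      intro ψ hψ
      obtain ⟨i, -, rfl⟩ := Finset.mem_image.1 hψ
      exact hall i
    have hcard := Finset.card_le_card hsub
    rw [Finset.card_image_of_injOn (fun i hi j hj hij => by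
      simp only [Finset.coe_range, Set.mem_Iio] at hi hj
      exact Function.iterate_injOn_Iio_minimalPeriod (by rw [hper]; exact hi)
        (by rw [hper]; exact hj) hij), Finset.card_range] at hcard
    have := h.hpn
    omega
  -- linear constituents
  have hlin : ∀ φ ∈ s, ∃ l : K →* ℂˣ, ∀ k, (φ : K → ℂ) k = (l k : ℂ) := by
    intro φ hφ
    refine CharInduce.IsChar.exists_hom_of_degree_one (IsIrr.isCharacter φ.2) ?_
    rw [hdg φ hφ, constituent_linear h hK φ.2 (hdg φ hφ) ?_ ?_, Nat.cast_one]
    · rw [← hn]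
      exact Multiset.le_sum_of_mem (Multiset.mem_map_of_mem dg hφ)
    · intro k
      exact congrFun (congrArg Subtype.val (hfixS φ (Multiset.mem_toFinset.2 hφ))) k
  intro g hg
  set k : K := ⟨g, hg⟩
  have hcomm : Commute x g := by
    have h1 : ρ.character (x * g * x⁻¹ * g⁻¹) = (n : ℂ) := by
      have e : ((MulAut.conjNormal x k * k⁻¹ : K) : G) = x * g * x⁻¹ * g⁻¹ := by
        simp [k, MulAut.conjNormal_apply, mul_assoc]
      rw [← e]
      have h2 := congrFun hs (MulAut.conjNormal x k * k⁻¹)
      have h3 := congrFun hs 1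
      simp only [OneMemClass.coe_one, Representation.char_one, Module.finrank_fin_fun] at h3
      rw [show ρ.character ((MulAut.conjNormal x k * k⁻¹ : K) : G) = _ from h2, h3,
        Pi.multiset_sum_apply, Pi.multiset_sum_apply, Multiset.map_map, Multiset.map_map]
      refine congrArg Multiset.sum (Multiset.map_congr rfl fun φ hφ => ?_)
      obtain ⟨l, hl⟩ := hlin φ hφ
      have hTφ := congrFun (congrArg Subtype.val (hfixS φ (Multiset.mem_toFinset.2 hφ))) k
      rw [show ((T φ : Cfsg.IrrCharacter K) : K → ℂ) k =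
        (φ : K → ℂ) (MulAut.conjNormal x k) from rfl, hl, hl, Units.val_inj] at hTφ
      show (φ : K → ℂ) _ = (φ : K → ℂ) 1
      rw [hl, hl, map_mul, map_inv, hTφ, mul_inv_cancel, map_one]
    have h4 : ρ (x * g * x⁻¹ * g⁻¹) = ρ 1 := by
      rw [(character_eq_finrank_iff ρ _).1 (by rw [h1, Module.finrank_fin_fun]), map_one]
      rfl
    have h5 := h.inj h4
    rw [mul_inv_eq_one, mul_inv_eq_iff_eq_mul] at h5
    exact h5
  exact mem_center_of_commute h hcomm fun hd =>
    hK ((hd.trans (Subgroup.orderOf_coe k).dvd).trans (orderOf_dvd_natCard k))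

/-- The group is perfect. -/
theorem commutator_eq_top (h : Hyp ρ p x) : commutator G = ⊤ := by
  haveI := h.irr
  by_cases hxG : x ∈ commutator G
  · exact h.gen _ inferInstance hxG
  exfalso
  have hndvd : ¬ p ∣ Nat.card (commutator G) := by
    intro hd
    obtain ⟨y, hy⟩ := exists_prime_orderOf_dvd_card' p hd
    obtain ⟨P₁, hP₁⟩ := (IsPGroup.of_card (n := 1) (by rw [Nat.card_zpowers, h.order, pow_one]) :
      IsPGroup p (Subgroup.zpowers x)).exists_le_sylow
    have hyo : orderOf (y : G) = p := by rw [Subgroup.orderOf_coe, hy]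
    obtain ⟨P₂, hP₂⟩ := (IsPGroup.of_card (n := 1) (by rw [Nat.card_zpowers, hyo, pow_one]) :
      IsPGroup p (Subgroup.zpowers (y : G))).exists_le_sylow
    obtain ⟨g, hg⟩ := MulAction.exists_smul_eq G P₁ P₂
    have hP : ∀ (Q : Sylow p G) (z : G), orderOf z = p → z ∈ Q →
        (Q : Subgroup G) = Subgroup.zpowers z := by
      intro Q z hz hzQ
      symm
      refine Subgroup.eq_of_le_of_card_ge (Subgroup.zpowers_le.2 hzQ) ?_
      rw [Nat.card_zpowers, hz, Q.card_eq_multiplicity]
      have : (Nat.card G).factorization p ≤ 1 := by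
        by_contra hc
        exact h.sq ((hp.out.pow_dvd_iff_le_factorization Nat.card_pos.ne').2 (by omega))
      exact (Nat.pow_le_pow_right hp.out.pos this).trans (pow_one p).le
    have h1 : g * x * g⁻¹ ∈ (P₂ : Subgroup G) :=
      hg ▸ ⟨x, hP₁ (Subgroup.mem_zpowers x), rfl⟩
    rw [hP P₂ y hyo (hP₂ (Subgroup.mem_zpowers _))] at h1
    have h2 : g * x * g⁻¹ ∈ commutator G := Subgroup.zpowers_le.2 y.2 h1
    have h3 := (inferInstance : (commutator G).Normal).conj_mem _ h2 g⁻¹
    refine hxG ?_
    simpa [mul_assoc] using h3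
  have hZ := normal_le_center (K := commutator G) h hndvd
  refine not_mem_center ρ h.two_le h.gen (Subgroup.mem_center_iff.2 fun g => ?_)
  have hc : ⁅g, x⁆ ∈ commutator G := by
    rw [_root_.commutator_def]
    exact Subgroup.commutator_mem_commutator (Subgroup.mem_top g) (Subgroup.mem_top x)
  have hcZ := Subgroup.mem_center_iff.1 (hZ hc)
  have hk : ∀ i : ℕ, g * x ^ i * g⁻¹ = ⁅g, x⁆ ^ i * x ^ i := by
    intro i
    induction i with
    | zero => simp
    | succ i ih =>
      have hgx : g * x * g⁻¹ = ⁅g, x⁆ * x := by simp [commutatorElement_def, mul_assoc]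
      calc g * x ^ (i + 1) * g⁻¹ = (g * x ^ i * g⁻¹) * (g * x * g⁻¹) := by
            rw [pow_succ]; simp [mul_assoc]
        _ = ⁅g, x⁆ ^ i * (x ^ i * ⁅g, x⁆) * x := by rw [ih, hgx]; simp [mul_assoc]
        _ = _ := by rw [hcZ (x ^ i), pow_succ, pow_succ]; simp [mul_assoc]
  have h1 : ⁅g, x⁆ ^ p = 1 := by
    have := hk p
    rw [← h.order, pow_orderOf_eq_one, mul_one, mul_inv_cancel, mul_one] at this
    rw [← h.order]
    exact this.symm
  have h2 : ⁅g, x⁆ = 1 := by
    have h3 := orderOf_dvd_of_pow_eq_one h1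
    rcases (Nat.dvd_prime hp.out).1 h3 with h4 | h4
    · exact orderOf_eq_one_iff.1 h4
    · exact absurd (h4 ▸ (Subgroup.orderOf_coe (⟨_, hc⟩ : commutator G) ▸
        orderOf_dvd_natCard (⟨_, hc⟩ : commutator G))) hndvd
  exact commutatorElement_eq_one_iff_mul_comm.1 h2

/-- The action of the normalizer of a noncentral `⟨x⟩` has order at most the degree. -/
theorem orderOf_le_of_not_center (hinj : Function.Injective ρ) (hord : orderOf x = p)
    (hxZ : x ∉ Subgroup.center G) {t : G} {a : ℕ} (ht : t * x * t⁻¹ = x ^ a) :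
    orderOf (a : ZMod p) ≤ n := by
  classical
  have hxp : x ^ p = 1 := by rw [← hord, pow_orderOf_eq_one]
  obtain ⟨b, μ, hb, hμ, hsum⟩ := exists_eigenbasis_rep ρ x
  obtain ⟨i₀, hi₀⟩ : ∃ i, μ i ≠ 1 := by
    by_contra hall
    push Not at hall
    refine hxZ (mem_center_of_scalar ρ hinj (c := 1) ?_)
    rw [one_smul]
    refine (character_eq_finrank_iff ρ x).1 ?_
    rw [hsum, Finset.sum_congr rfl fun i _ => hall i]
    simp
  set ζ := μ i₀ with hζ
  have hζp : IsPrimitiveRoot ζ p := by
    have h1 : ζ ^ p = 1 := hord ▸ hμ i₀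
    have h2 := orderOf_dvd_of_pow_eq_one h1
    rcases (Nat.dvd_prime hp.out).1 h2 with h3 | h3
    · exact absurd (orderOf_eq_one_iff.1 h3) hi₀
    · exact h3 ▸ IsPrimitiveRoot.orderOf ζ
  have hstep : ∀ i : ℕ, ∃ v : Fin n → ℂ, v ≠ 0 ∧ ρ x v = ζ ^ (a ^ i) • v := by
    intro i
    induction i with
    | zero => exact ⟨b i₀, b.ne_zero i₀, by simpa using hb i₀⟩
    | succ i ih =>
      obtain ⟨v, hv0, hv⟩ := ih
      refine ⟨ρ t⁻¹ v, fun h0 => hv0 ?_, ?_⟩
      · rw [← ρ.self_inv_apply t v, h0, map_zero]
      · have e : x * t⁻¹ = t⁻¹ * x ^ a := by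
          rw [← ht]; simp [mul_assoc]
        rw [← Module.End.mul_apply, ← map_mul, e, map_mul, Module.End.mul_apply]
        have hpow : ∀ j : ℕ, (ρ (x ^ j)) v = (ζ ^ (a ^ i)) ^ j • v := by
          intro j
          induction j with
          | zero => simp
          | succ j ihj =>
            rw [pow_succ, map_mul, Module.End.mul_apply, hv, map_smul, ihj, smul_smul,
              ← pow_succ']
        rw [hpow, map_smul, ← pow_mul, ← pow_succ]
  choose v hv0 hv using hstep
  set o := orderOf (a : ZMod p) with ho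
  have hinj : Function.Injective fun i : Fin o => ζ ^ (a ^ (i : ℕ)) := by
    intro i j hij
    have h1 : ((a ^ (i : ℕ) : ℕ) : ZMod p) = ((a ^ (j : ℕ) : ℕ) : ZMod p) := by
      rw [ZMod.natCast_eq_natCast_iff']
      have hmod : ∀ m : ℕ, ζ ^ m = ζ ^ (m % p) := fun m => by
        conv_lhs => rw [← Nat.div_add_mod m p, pow_add, pow_mul, hζp.pow_eq_one, one_pow, one_mul]
      exact hζp.pow_inj (Nat.mod_lt _ hp.out.pos) (Nat.mod_lt _ hp.out.pos)
        (by rw [← hmod, ← hmod]; exact hij)
    push_cast at h1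
    exact Fin.ext (pow_injOn_Iio_orderOf i.isLt j.isLt h1)
  have hli := Module.End.eigenvectors_linearIndependent' (ρ x) _ hinj (fun i => v i)
    fun i => ⟨Module.End.mem_eigenspace_iff.2 (hv i), hv0 i⟩
  have := hli.fintype_card_le_finrank
  simpa using this

/-- The action of the normalizer on `⟨x⟩` has order at most `n`. -/
theorem orderOf_le (h : Hyp ρ p x) {t : G} {a : ℕ} (ht : t * x * t⁻¹ = x ^ a) :
    orderOf (a : ZMod p) ≤ n :=
  haveI := h.irr
  orderOf_le_of_not_center h.inj h.order (not_mem_center ρ h.two_le h.gen) ht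

end Cfsg.Agent.H86.HalfDeg
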