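import Cfsg.Agent.H81.SylowPrimeBound
import Mathlib.RepresentationTheory.Basic

/-!
# Moving a summand from the normalizer of a Sylow subgroup of prime order to the group

Over a field of characteristic `p`, let `(σ x - 1) ^ (p - 1) = 0` for `x` of order `p` generating a
Sylow subgroup with normalizer `N`.  A self-adjoint idempotent `f` commuting with `N` gives a
`G`-stable nondegenerate subspace which is `N`-isomorphic to the range of `f`.
-/

set_option autoImplicit false
set_option linter.unusedSectionVars false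

namespace Cfsg.Agent.H86.HalfDeg

open Module

variable {K V : Type*} [Field K] [AddCommGroup V] [Module K V] [FiniteDimensional K V]
variable {G : Type*} [Group G] [Finite G] {p : ℕ} [hp : Fact p.Prime] [CharP K p]

/-- An endomorphism annihilating the fixed vectors of `σ x`. -/
def Killing (T : End K V) (u : End K V) : Prop := ∀ v, T v = v → u v = 0

theorem killing_zero (T : End K V) : Killing T 0 := fun _ _ => rfl

theorem Killing.add {T u v : End K V} (hu : Killing T u) (hv : Killing T v) : Killing T (u + v) :=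
  fun w hw => by rw [LinearMap.add_apply, hu w hw, hv w hw, add_zero]

theorem Killing.mul_left {T u : End K V} (hu : Killing T u) (a : End K V) : Killing T (a * u) :=
  fun w hw => by rw [Module.End.mul_apply, hu w hw, map_zero]

theorem Killing.mul_right {T u a : End K V} (hu : Killing T u) (ha : Commute a T) :
    Killing T (u * a) := fun w hw => by
  rw [Module.End.mul_apply]
  refine hu _ ?_
  rw [← Module.End.mul_apply, ← ha.eq, Module.End.mul_apply, hw]

/-- A nonzero stable subspace of a unipotent map has a nonzero fixed vector. -/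
theorem exists_fixed {T : End K V} {m : ℕ} (hT : (T - 1) ^ m = 0) {S : Submodule K V}
    (hS : ∀ v ∈ S, T v ∈ S) (hne : S ≠ ⊥) : ∃ v ∈ S, v ≠ 0 ∧ T v = v := by
  obtain ⟨w, hw, hw0⟩ := S.exists_mem_ne_zero_of_ne_bot hne
  classical
  have hex : ∃ i, ((T - 1) ^ i : End K V) w = 0 := ⟨m, by rw [hT]; rfl⟩
  have hspec := Nat.find_spec hex
  obtain ⟨j, hj⟩ : ∃ j, Nat.find hex = j + 1 := by
    refine ⟨Nat.find hex - 1, (Nat.sub_add_cancel (Nat.pos_of_ne_zero fun h => hw0 ?_)).symm⟩
    rwa [h, pow_zero, Module.End.one_apply] at hspec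
  have hmin := Nat.find_min hex (show j < Nat.find hex by omega)
  have hmem : ∀ i, ((T - 1) ^ i : End K V) w ∈ S := by
    intro i
    induction i with
    | zero => simpa using hw
    | succ i ih =>
      rw [pow_succ', Module.End.mul_apply, LinearMap.sub_apply, Module.End.one_apply]
      exact S.sub_mem (hS _ ih) ih
  refine ⟨_, hmem j, hmin, ?_⟩
  rw [hj, pow_succ', Module.End.mul_apply, LinearMap.sub_apply, Module.End.one_apply,
    sub_eq_zero] at hspec
  exact hspec

/-- The relative trace over a group of order `p` annihilates fixed vectors. -/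
theorem killing_sum_conj (T T' : End K V) (hTT' : T * T' = 1) (hT : (T - 1) ^ (p - 1) = 0)
    (h : End K V) : Killing T (∑ i ∈ Finset.range p, T ^ i * h * T' ^ i) := by
  intro v hv
  have hv' : T' v = v := by
    have h1 : T * T' = 1 := hTT'
    have h2 : T' * T = 1 := mul_eq_one_comm.1 h1
    conv_lhs => rw [← hv, ← Module.End.mul_apply, h2, Module.End.one_apply]
  have hpow : ∀ i, (T' ^ i) v = v := fun i => by
    induction i with
    | zero => rfl
    | succ i ih => rw [pow_succ, Module.End.mul_apply, hv', ih]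
  simp only [LinearMap.sum_apply, Module.End.mul_apply, hpow]
  rw [← LinearMap.sum_apply, H81.sum_pow_eq_sub_one_pow (k := K) p T, hT, LinearMap.zero_apply]

variable (σ : Representation K G V) {x : G}

/-- A sum over a set with free action of `⟨x⟩` of an equivariant family is killing. -/
theorem killing_sum_free {Ω : Type*} [MulAction G Ω] (hx : orderOf x = p)
    (hT : (σ x - 1) ^ (p - 1) = 0) (F : Ω → End K V)
    (hF : ∀ g c, F (g • c) = σ g * F c * σ g⁻¹) (s : Finset Ω)
    (hs : ∀ u ∈ Subgroup.zpowers x, ∀ c ∈ s, u • c ∈ s)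
    (hfree : ∀ c ∈ s, x • c ≠ c) : Killing (σ x) (∑ c ∈ s, F c) := by
  classical
  induction s using Finset.strongInduction with
  | _ s ih =>
    rcases s.eq_empty_or_nonempty with rfl | ⟨c, hc⟩
    · rw [Finset.sum_empty]; exact killing_zero _
    have hinj : Set.InjOn (fun i : ℕ => (x ^ i) • c) (Finset.range p : Set ℕ) := by
      intro i hi j hj hij
      simp only [Finset.coe_range, Set.mem_Iio] at hi hj
      by_contra hne
      set u := (x ^ j)⁻¹ * x ^ i with hu
      have huc : u • c = c := by
        rw [hu, mul_smul, show x ^ i • c = x ^ j • c from hij, inv_smul_smul]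
      have huP : u ∈ Subgroup.zpowers x := Subgroup.mul_mem _
        (Subgroup.inv_mem _ (Subgroup.npow_mem_zpowers x j)) (Subgroup.npow_mem_zpowers x i)
      have hu1 : u ≠ 1 := fun h => hne (pow_injOn_Iio_orderOf (by simpa [hx] using hi)
        (by simpa [hx] using hj) (inv_mul_eq_one.1 h).symm)
      have hgen : Subgroup.zpowers u = Subgroup.zpowers x := by
        refine Subgroup.eq_of_le_of_card_ge (Subgroup.zpowers_le.2 huP) ?_
        have hou := orderOf_dvd_of_mem_zpowers huP
        rw [hx] at hou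
        rw [Nat.card_zpowers, Nat.card_zpowers, hx,
          (hp.out.eq_one_or_self_of_dvd _ hou).resolve_left fun h => hu1 (orderOf_eq_one_iff.1 h)]
      obtain ⟨k, hk⟩ := Subgroup.mem_zpowers_iff.1 (hgen ▸ Subgroup.mem_zpowers x :
        x ∈ Subgroup.zpowers u)
      refine hfree c hc ?_
      rw [← hk]
      exact (MulAction.stabilizer G c).zpow_mem huc k
    set o := (Finset.range p).image fun i => (x ^ i) • c with ho
    have hos : o ⊆ s := by
      intro d hd
      obtain ⟨i, -, rfl⟩ := Finset.mem_image.1 hd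
      exact hs _ (Subgroup.npow_mem_zpowers x i) c hc
    have hco : c ∈ o := Finset.mem_image.2 ⟨0, Finset.mem_range.2 hp.out.pos, by simp⟩
    have hmod : ∀ a : ℤ, (x ^ a) • c ∈ o := by
      intro a
      obtain ⟨i, hi⟩ := mem_powers_iff_mem_zpowers.2
        (Subgroup.zpow_mem_zpowers x a : x ^ a ∈ Subgroup.zpowers x)
      refine Finset.mem_image.2 ⟨i % p, Finset.mem_range.2 (Nat.mod_lt _ hp.out.pos), ?_⟩
      rw [← hi, ← hx, pow_mod_orderOf]
    have hsdiff : ∀ u ∈ Subgroup.zpowers x, ∀ d ∈ s \ o, u • d ∈ s \ o := by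
      intro u hu d hd
      rw [Finset.mem_sdiff] at hd ⊢
      refine ⟨hs u hu d hd.1, fun h => hd.2 ?_⟩
      obtain ⟨i, -, hi⟩ := Finset.mem_image.1 h
      obtain ⟨a, rfl⟩ := Subgroup.mem_zpowers_iff.1 hu
      have : d = (x ^ (-a + i)) • c := by
        rw [zpow_add, zpow_natCast, mul_smul, hi, zpow_neg, inv_smul_smul]
      rw [this]
      exact hmod _
    rw [← Finset.sum_sdiff hos]
    refine Killing.add ?_ ?_
    · refine ih _ ?_ hsdiff fun d hd => hfree d (Finset.mem_sdiff.1 hd).1
      exact Finset.sdiff_ssubset hos ⟨c, hco⟩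
    · have hsum : ∑ d ∈ o, F d =
          ∑ i ∈ Finset.range p, σ x ^ i * F c * σ x⁻¹ ^ i := by
        rw [ho, Finset.sum_image hinj]
        refine Finset.sum_congr rfl fun i _ => ?_
        rw [hF, map_pow, ← inv_pow, map_pow]
      rw [hsum]
      exact killing_sum_conj (p := p) _ _ (by rw [← map_mul, mul_inv_cancel, map_one]) hT _

/-- An element conjugating `x` into a subgroup of the same order normalizes it. -/
theorem mem_normalizer_of_conj (g : G) (h : g * x * g⁻¹ ∈ Subgroup.zpowers x) :
    g ∈ Subgroup.normalizer (Subgroup.zpowers x : Set G) := by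
  have he : Subgroup.zpowers (g * x * g⁻¹) = Subgroup.zpowers x := by
    refine Subgroup.eq_of_le_of_card_ge (Subgroup.zpowers_le.2 h) (le_of_eq ?_)
    rw [Nat.card_zpowers, Nat.card_zpowers]
    exact ((MulAut.conj g).orderOf_eq x).symm
  refine Subgroup.mem_normalizer_iff.2 fun y => ⟨fun hy => ?_, fun hy => ?_⟩
  · obtain ⟨a, rfl⟩ := Subgroup.mem_zpowers_iff.1 hy
    rw [← conj_zpow]
    exact (Subgroup.zpowers x).zpow_mem h a
  · rw [← he] at hy
    obtain ⟨a, ha⟩ := Subgroup.mem_zpowers_iff.1 hy
    rw [conj_zpow] at ha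
    exact ⟨a, mul_left_cancel (mul_right_cancel ha)⟩

variable {N : Subgroup G}

/-- The transferred summand. -/
theorem exists_transfer (hx : orderOf x = p)
    (hN : N = Subgroup.normalizer (Subgroup.zpowers x : Set G))
    (huniq : ∀ g ∈ N, orderOf g = p → g ∈ Subgroup.zpowers x)
    (hT : (σ x - 1) ^ (p - 1) = 0) (β : V → V → K)
    (hβ0 : ∀ a, β a 0 = 0)
    (hadd : ∀ a b c, β (a + b) c = β a c + β b c) (hadd' : ∀ a b c, β a (b + c) = β a b + β a c)
    (hinv : ∀ g a b, β (σ g a) (σ g b) = β a b) (hnd : ∀ a, (∀ b, β a b = 0) → a = 0)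
    (f : End K V) (hf : f * f = f) (hfadj : ∀ a b, β (f a) b = β a (f b))
    (hfN : ∀ n ∈ N, Commute (σ n) f) :
    ∃ (R : Submodule K V) (j : LinearMap.range f ≃ₗ[K] R),
      (∀ g, ∀ v ∈ R, σ g v ∈ R) ∧ (∀ a ∈ R, (∀ b ∈ R, β a b = 0) → a = 0) ∧
      ∀ n ∈ N, ∀ (u : LinearMap.range f) (w : LinearMap.range f), (w : V) = σ n u →
        (j w : V) = σ n (j u) := by
  classical
  cases nonempty_fintype G
  have hxN : x ∈ N := hN ▸ Subgroup.le_normalizer (Subgroup.mem_zpowers x)
  let F : G ⧸ N → End K V := fun c => σ c.out * f * σ c.out⁻¹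
  have hmk : ∀ g : G, F (g : G ⧸ N) = σ g * f * σ g⁻¹ := fun g => by
    obtain ⟨n, hn⟩ := QuotientGroup.mk_out_eq_mul N g
    show σ _ * f * σ _ = _
    rw [hn, map_mul, mul_assoc (σ g), (hfN _ n.2).eq, _root_.mul_inv_rev, map_mul]
    have h1 : σ (n : G) * σ (n : G)⁻¹ = 1 := by rw [← map_mul, mul_inv_cancel, map_one]
    simp only [← mul_assoc]
    rw [mul_assoc (σ g * f), h1, mul_one]
  have hact : ∀ (g : G) (c : G ⧸ N), F (g • c) = σ g * F c * σ g⁻¹ := fun g c => by
    induction c using Quotient.inductionOn' with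
    | h h =>
      show F ((g * h : G) : G ⧸ N) = σ g * F (h : G ⧸ N) * σ g⁻¹
      rw [hmk, hmk, map_mul, _root_.mul_inv_rev, map_mul]
      simp only [mul_assoc]
  set S := ∑ c : G ⧸ N, F c with hSdef
  have hSG : ∀ g, Commute (σ g) S := fun g => by
    have h : σ g * S * σ g⁻¹ = S := by
      rw [hSdef, Finset.mul_sum, Finset.sum_mul]
      exact Fintype.sum_equiv (MulAction.toPerm g) _ _ fun c => by simp [hact]
    calc σ g * S = σ g * S * (σ g⁻¹ * σ g) := by
          rw [← map_mul, inv_mul_cancel, map_one, mul_one]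
      _ = S * σ g := by rw [← mul_assoc, h]
  have hSf : Killing (σ x) (S - f) := by
    have h1 : S = F ((1 : G) : G ⧸ N) + ∑ c ∈ Finset.univ.erase ((1 : G) : G ⧸ N), F c :=
      (Finset.add_sum_erase _ _ (Finset.mem_univ _)).symm
    rw [h1, hmk, map_one, inv_one, map_one, one_mul, mul_one, add_sub_cancel_left]
    have hfix : x • ((1 : G) : G ⧸ N) = ((1 : G) : G ⧸ N) := by
      show ((x * 1 : G) : G ⧸ N) = _
      rw [QuotientGroup.eq]; simpa using hxN
    refine killing_sum_free σ hx hT F hact _ (fun u hu c hc => ?_) fun c hc hxc => ?_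
    · rw [Finset.mem_erase] at hc ⊢
      refine ⟨fun h => hc.1 ?_, Finset.mem_univ _⟩
      obtain ⟨a, rfl⟩ := Subgroup.mem_zpowers_iff.1 hu
      rw [← inv_smul_smul (x ^ a) c, h, ← zpow_neg]
      exact (MulAction.stabilizer G ((1 : G) : G ⧸ N)).zpow_mem hfix (-a)
    · induction c using Quotient.inductionOn' with
      | h g =>
        refine (Finset.mem_erase.1 hc).1 (QuotientGroup.eq.2 ?_)
        have h1 : g⁻¹ * x * g ∈ N := by
          have := QuotientGroup.eq.1 (hxc.symm : (g : G ⧸ N) = ((x * g : G) : G ⧸ N))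
          simpa [mul_assoc] using this
        have ho : orderOf (g⁻¹ * x * g) = p := by
          rw [← hx]; simpa using (MulAut.conj g⁻¹).orderOf_eq x
        have h2 : Subgroup.zpowers (g⁻¹ * x * g) = Subgroup.zpowers x := by
          refine Subgroup.eq_of_le_of_card_ge (Subgroup.zpowers_le.2 (huniq _ h1 ho)) ?_
          rw [Nat.card_zpowers, Nat.card_zpowers, ho, hx]
        have hg : g⁻¹ ∈ N := by
          rw [hN]
          refine mem_normalizer_of_conj g⁻¹ ?_
          rw [inv_inv]
          exact huniq _ h1 ho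
        simpa using hg
  have hSpow : ∀ m, 1 ≤ m → Killing (σ x) (S ^ m - f) := by
    intro m hm
    induction m, hm using Nat.le_induction with
    | base => rwa [pow_one]
    | succ m hm ih =>
      have e : S ^ (m + 1) - f = (S ^ m - f) * S + f * (S - f) := by
        rw [pow_succ, sub_mul, mul_sub, hf]; abel
      rw [e]
      exact (ih.mul_right (hSG x).symm).add (hSf.mul_left f)
  obtain ⟨m₀, hm₀⟩ := Filter.eventually_atTop.1 S.eventually_disjoint_ker_pow_range_pow
  set m := m₀ + 1
  have hdisj : Disjoint (LinearMap.ker (S ^ m)) (LinearMap.range (S ^ m)) := hm₀ m (by omega)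
  have hkill := hSpow m (by omega)
  set R := LinearMap.range (S ^ m) with hR
  have hcomm : ∀ g, Commute (σ g) (S ^ m) := fun g => (hSG g).pow_right m
  have hRG : ∀ g, ∀ v ∈ R, σ g v ∈ R := by
    rintro g _ ⟨v, rfl⟩
    exact ⟨σ g v, by rw [← Module.End.mul_apply, ← (hcomm g).eq]; rfl⟩
  let j₀ : LinearMap.range f →ₗ[K] R :=
    ((S ^ m).comp (LinearMap.range f).subtype).codRestrict R fun u => ⟨(u : V), rfl⟩
  -- injective
  have hinj : Function.Injective j₀ := by
    rw [← LinearMap.ker_eq_bot]
    by_contra hne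
    obtain ⟨v, hv, hv0, hvx⟩ := exists_fixed (T := σ x) hT
      (S := LinearMap.range f ⊓ LinearMap.ker (S ^ m)) (fun v hv => by
        refine ⟨?_, ?_⟩
        · obtain ⟨w, hw⟩ := hv.1
          exact ⟨σ x w, by rw [← Module.End.mul_apply, ← (hfN x hxN).eq, Module.End.mul_apply, hw]⟩
        · rw [SetLike.mem_coe, LinearMap.mem_ker, ← Module.End.mul_apply, ← (hcomm x).eq, Module.End.mul_apply,
            LinearMap.mem_ker.1 hv.2, map_zero])
      (fun h => hne (eq_bot_iff.2 fun u hu => by
        have hmem : (u : V) ∈ LinearMap.range f ⊓ LinearMap.ker (S ^ m) :=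
          ⟨u.2, congrArg Subtype.val (LinearMap.mem_ker.1 hu)⟩
        rw [h, Submodule.mem_bot] at hmem
        exact (Submodule.mem_bot K).2 (Subtype.ext hmem)))
    have h := hkill v hvx
    rw [LinearMap.sub_apply, LinearMap.mem_ker.1 hv.2, zero_sub, neg_eq_zero] at h
    obtain ⟨w, rfl⟩ := hv.1
    rw [← Module.End.mul_apply, hf] at h
    exact hv0 h
  have hle : finrank K R ≤ finrank K (LinearMap.range f) := by
    let i₀ : R →ₗ[K] LinearMap.range f := (f.comp R.subtype).codRestrict _ fun u => ⟨(u : V), rfl⟩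
    refine LinearMap.finrank_le_finrank_of_injective (f := i₀) ?_
    rw [← LinearMap.ker_eq_bot]
    by_contra hne
    obtain ⟨v, hv, hv0, hvx⟩ := exists_fixed (T := σ x) hT (S := R ⊓ LinearMap.ker f)
      (fun v hv => by
        refine ⟨hRG x v hv.1, ?_⟩
        rw [SetLike.mem_coe, LinearMap.mem_ker, ← Module.End.mul_apply, ← (hfN x hxN).eq, Module.End.mul_apply,
          LinearMap.mem_ker.1 hv.2, map_zero])
      (fun h => hne (eq_bot_iff.2 fun u hu => by
        have hmem : (u : V) ∈ R ⊓ LinearMap.ker f :=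
          ⟨u.2, congrArg Subtype.val (LinearMap.mem_ker.1 hu)⟩
        rw [h, Submodule.mem_bot] at hmem
        exact (Submodule.mem_bot K).2 (Subtype.ext hmem)))
    have h := hkill v hvx
    rw [LinearMap.sub_apply, LinearMap.mem_ker.1 hv.2, sub_zero] at h
    exact hv0 ((Submodule.disjoint_def.1 hdisj) v (LinearMap.mem_ker.2 h) hv.1)
  have hbij : Function.Bijective j₀ := by
    have heq : finrank K (LinearMap.range f) = finrank K R :=
      le_antisymm (LinearMap.finrank_le_finrank_of_injective hinj) hle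
    exact ⟨hinj, (LinearMap.injective_iff_surjective_of_finrank_eq_finrank heq).1 hinj⟩
  refine ⟨R, LinearEquiv.ofBijective j₀ hbij, hRG, fun a ha h => ?_, fun n _ u w hw => ?_⟩
  · have hSadj : ∀ a b, β (S a) b = β a (S b) := by
      have hF : ∀ c a b, β (F c a) b = β a (F c b) := by
        intro c a b
        show β (σ c.out (f (σ c.out⁻¹ a))) b = β a (σ c.out (f (σ c.out⁻¹ b)))
        calc β (σ c.out (f (σ c.out⁻¹ a))) b
            = β (σ c.out (f (σ c.out⁻¹ a))) (σ c.out (σ c.out⁻¹ b)) := by
              rw [Representation.self_inv_apply]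
          _ = β (σ c.out (σ c.out⁻¹ a)) (σ c.out (f (σ c.out⁻¹ b))) := by
              rw [hinv, hinv, hfadj]
          _ = _ := by rw [Representation.self_inv_apply]
      have h0 : ∀ b, β 0 b = 0 := fun b => by
        have h := hadd 0 0 b
        rw [add_zero] at h
        simpa using h
      intro a b
      rw [hSdef]
      generalize (Finset.univ : Finset (G ⧸ N)) = t
      induction t using Finset.induction with
      | empty => simp [h0, hβ0]
      | @insert c t hc ih =>
        rw [Finset.sum_insert hc, LinearMap.add_apply, LinearMap.add_apply, hadd, hadd', hF, ih]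
    have hpowadj : ∀ i a b, β ((S ^ i) a) b = β a ((S ^ i) b) := by
      intro i
      induction i with
      | zero => intro a b; rfl
      | succ i ih =>
        intro a b
        rw [pow_succ, Module.End.mul_apply, ih, hSadj, ← Module.End.mul_apply, ← pow_succ',
          pow_succ]
    refine (Submodule.disjoint_def.1 hdisj) a ?_ ha
    rw [LinearMap.mem_ker]
    refine hnd _ fun b => ?_
    rw [hpowadj]
    exact h _ ⟨b, rfl⟩
  · show (S ^ m) (w : V) = σ n ((S ^ m) (u : V))
    rw [hw, ← Module.End.mul_apply, ← (hcomm n).eq]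
    rfl

end Cfsg.Agent.H86.HalfDeg
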