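import Cfsg.Agent.H86.HalfDeg.Reduced
import Cfsg.Agent.H86.HalfDeg.Count

/-!
# The action on the fixed isotropic lines
-/

set_option autoImplicit false
set_option linter.unusedSectionVars false
set_option linter.style.haveILetI false

namespace Cfsg.Agent.H86.HalfDeg

open Module MulAction

universe u

variable {H : Type u} [Group H] [Finite H] {p : ℕ} [hp : Fact p.Prime] {n : ℕ} {x : H}

/-- The setting of the orbit count. -/
structure Orth (H : Type u) [Group H] (p n : ℕ) (x : H) where
  /-- the model -/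
  M : Model H p x
  inj : Function.Injective M.π
  sq : ¬ p ^ 2 ∣ Nat.card H
  order : orderOf x = p
  perfect : commutator H = ⊤
  hpn : 2 * n + 1 = p
  two_le : 2 ≤ n
  order_le : ∀ (t : H) (a : ℕ), t * x * t⁻¹ = x ^ a → orderOf (a : ZMod p) ≤ n

namespace Orth

variable (T : Orth H p n x)

include T

theorem pow_p : x ^ p = 1 := by rw [← T.order, pow_orderOf_eq_one]

theorem cube : (T.M.π x - 1) ^ 3 = 0 :=
  cube_eq_zero (p := p) T.M.dim (by rw [← map_pow, T.pow_p, map_one])

/-- The Sylow subgroup generated by `x`. -/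
noncomputable def P : Sylow p H :=
  Sylow.ofCard (Subgroup.zpowers x) (by
    rw [Nat.card_zpowers, T.order]
    have h1 : (Nat.card H).factorization p ≤ 1 := by
      by_contra hc
      exact T.sq ((hp.out.pow_dvd_iff_le_factorization Nat.card_pos.ne').2 (by omega))
    have h2 : 1 ≤ (Nat.card H).factorization p := by
      refine (hp.out.pow_dvd_iff_le_factorization Nat.card_pos.ne').1 ?_
      rw [pow_one, ← T.order]
      exact orderOf_dvd_natCard x
    rw [show (Nat.card H).factorization p = 1 by omega, pow_one])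

theorem coe_P : (T.P : Subgroup H) = Subgroup.zpowers x := rfl

theorem card_P : Nat.card (T.P : Subgroup H) = p := by
  rw [T.coe_P, Nat.card_zpowers, T.order]

/-- An element of order prime to `p` acting unipotently is trivial. -/
theorem eq_one {h : H} (hu : (T.M.π h - 1) ^ 3 = 0) (ho : ¬ p ∣ orderOf h) : h = 1 :=
  T.inj (by
    rw [map_one]
    exact eq_one_of_unipotent hu (m := orderOf h) (by rw [← map_pow, pow_orderOf_eq_one, map_one])
      (by rwa [Ne, CharP.cast_eq_zero_iff T.M.K p]))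

/-- The centralizer of `x`. -/
theorem mem_of_commute {h : H} (hc : Commute h x) : h ∈ Subgroup.zpowers x := by
  have hprime : ∀ y : H, Commute y x → ¬ p ∣ orderOf y → y = 1 := fun y hy ho => by
    refine T.eq_one ?_ ho
    exact unipotent_of_commute T.M.symm T.M.nd (T.M.iso x) T.cube T.M.regular T.M.dim (T.M.iso y)
      (T.M.det y) (by rw [Commute, SemiconjBy, ← map_mul, ← map_mul, hy.eq])
  by_cases ho : p ∣ orderOf h
  · obtain ⟨m, hm⟩ := ho
    have hm0 : 0 < m := Nat.pos_of_ne_zero fun e => (orderOf_pos h).ne' (by rw [hm, e, mul_zero])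
    have hpm : ¬ p ∣ m := fun hd => T.sq (by
      refine dvd_trans ?_ (orderOf_dvd_natCard h)
      rw [hm, pow_two]
      exact mul_dvd_mul_left p hd)
    have h1 : orderOf (h ^ p) = m := by
      rw [orderOf_pow_of_dvd hp.out.ne_zero (hm ▸ dvd_mul_right _ _), hm,
        Nat.mul_div_cancel_left _ hp.out.pos]
    have h2 := hprime (h ^ p) (hc.pow_left p) (h1.symm ▸ hpm)
    have hP : IsPGroup p (Subgroup.zpowers h) := by
      refine IsPGroup.of_card (n := 1) ?_
      rw [Nat.card_zpowers, pow_one]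
      rw [orderOf_eq_one_iff.2 h2] at h1
      rw [hm, ← h1, mul_one]
    have hN : h ∈ Subgroup.normalizer (T.P : Set H) := by
      refine mem_normalizer_of_conj (x := x) h ?_
      rw [hc.eq, mul_inv_cancel_right]
      exact Subgroup.mem_zpowers x
    have h3 : h ∈ Subgroup.zpowers h ⊓ Subgroup.normalizer (T.P : Set H) :=
      ⟨Subgroup.mem_zpowers h, hN⟩
    rw [hP.inf_normalizer_sylow T.P] at h3
    exact h3.2
  · rw [hprime h hc ho]
    exact one_mem _

/-- Every element has order `p` or order prime to `p`. -/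
theorem order_cases {h : H} (ho : p ∣ orderOf h) : orderOf h = p := by
  obtain ⟨m, hm⟩ := ho
  have hm0 : m ≠ 0 := fun e => (orderOf_pos h).ne' (by rw [hm, e, mul_zero])
  have hy : orderOf (h ^ m) = p := by
    rw [orderOf_pow_of_dvd hm0 (hm ▸ dvd_mul_left _ _), hm,
      Nat.mul_div_cancel _ (Nat.pos_of_ne_zero hm0)]
  obtain ⟨k, hk⟩ := exists_conj_pow T.sq T.order hy
  have hz := zpowers_eq hk T.order (((MulAut.conj k).orderOf_eq (h ^ m)).trans hy)
  have hc : Commute (k * h * k⁻¹) x := by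
    obtain ⟨i, hi⟩ := Subgroup.mem_zpowers_iff.1 (hz.symm ▸ Subgroup.mem_zpowers x)
    rw [← hi, ← conj_pow]
    exact ((Commute.refl _).pow_right m).zpow_right i
  have h1 : orderOf h ∣ p := by
    rw [← (MulAut.conj k).orderOf_eq h]
    refine (orderOf_dvd_of_mem_zpowers (T.mem_of_commute hc)).trans ?_
    rw [T.order]
  exact Nat.dvd_antisymm h1 (hm ▸ dvd_mul_right _ _)

/-- The normalizer of `⟨x⟩`. -/
abbrev N (_T : Orth H p n x) : Subgroup H := Subgroup.normalizer ((Subgroup.zpowers x : Subgroup H) : Set H)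

theorem card_N_le : Nat.card T.N ≤ p * n := by
  classical
  obtain ⟨O, t, e, D, hfull⟩ := exists_data_full T.sq x T.order
  have hO : ∀ o ∈ O, o = 1 := fun o ho => by
    have h1 : orderOf o ∣ p := T.order ▸
      orderOf_dvd_of_mem_zpowers (T.mem_of_commute (D.comm o ho).symm)
    have h2 : orderOf o ∣ Nat.card O :=
      (Subgroup.orderOf_coe (⟨o, ho⟩ : O)).dvd.trans (orderOf_dvd_natCard _)
    rcases (Nat.dvd_prime hp.out).1 h1 with h3 | h3
    · exact orderOf_eq_one_iff.1 h3
    · exact absurd (h3 ▸ h2) D.coprime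
  obtain ⟨a, ha⟩ := mem_powers_iff_mem_zpowers.2
    ((Subgroup.mem_normalizer_iff.1 D.t_mem x).1 (Subgroup.mem_zpowers x))
  have ha' : t * x * t⁻¹ = x ^ a := ha.symm
  have hiter : ∀ i : ℕ, t ^ i * x * (t ^ i)⁻¹ = x ^ (a ^ i) := by
    intro i
    induction i with
    | zero => simp
    | succ i ih =>
      rw [pow_succ', _root_.mul_inv_rev,
        show t * t ^ i * x * ((t ^ i)⁻¹ * t⁻¹) = t * (t ^ i * x * (t ^ i)⁻¹) * t⁻¹ by
          simp [mul_assoc],
        ih, ← conj_pow, ha', ← pow_mul, ← pow_succ']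
  set o := orderOf (a : ZMod p)
  have hpow : x ^ (a ^ o) = x := by
    conv_rhs => rw [← pow_one x]
    rw [pow_eq_pow_iff_modEq, T.order, ← ZMod.natCast_eq_natCast_iff, Nat.cast_pow,
      pow_orderOf_eq_one, Nat.cast_one]
  have ho0 : 0 < o := by
    refine orderOf_pos_iff.2 (isOfFinOrder_iff_pow_eq_one.2 ⟨p - 1, ?_, ?_⟩)
    · have := hp.out.two_le; omega
    · refine ZMod.pow_card_sub_one_eq_one fun h0 => ?_
      rw [ZMod.natCast_eq_zero_iff] at h0
      obtain ⟨b, rfl⟩ := h0
      rw [pow_mul, T.pow_p, one_pow, conj_eq_one_iff] at ha'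
      have h1 := T.order
      rw [ha', orderOf_one] at h1
      exact hp.out.ne_one h1.symm
  have hto : t ^ o = 1 := by
    refine hO _ (hfull o ?_)
    have h1 := hiter o
    rw [hpow, mul_inv_eq_iff_eq_mul] at h1
    exact h1.symm
  have hle : orderOf t ≤ n :=
    (Nat.le_of_dvd ho0 (orderOf_dvd_of_pow_eq_one hto)).trans (T.order_le t a ha')
  have hpos : 0 < orderOf t := orderOf_pos t
  let f : Fin p × Fin (orderOf t) → H := fun q => x ^ (q.1 : ℕ) * t ^ (q.2 : ℕ)
  have hsub : (T.N : Set H) ⊆ Set.range f := fun g hg => by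
    obtain ⟨i, j, o', ho', rfl⟩ := D.normalizer_eq g hg
    refine ⟨(⟨i % p, Nat.mod_lt _ hp.out.pos⟩, ⟨j % orderOf t, Nat.mod_lt _ hpos⟩), ?_⟩
    show x ^ (i % p) * t ^ (j % orderOf t) = _
    rw [pow_mod_orderOf, hO o' ho', mul_one, ← T.order, pow_mod_orderOf]
  calc Nat.card T.N ≤ Nat.card (Set.range f) := Nat.card_mono (Set.toFinite _) hsub
    _ ≤ Nat.card (Fin p × Fin (orderOf t)) := Finite.card_range_le f
    _ ≤ p * n := by
      rw [Nat.card_prod, Nat.card_fin, Nat.card_fin]
      exact Nat.mul_le_mul_left p hle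

/-- The index of `⟨x⟩` in its normalizer. -/
noncomputable def e (T' : Orth H p n x) : ℕ := Nat.card T'.N / p

theorem card_N : Nat.card T.N = p * T.e := by
  refine (Nat.mul_div_cancel' ?_).symm
  have h1 := Subgroup.card_dvd_of_le
    (Subgroup.le_normalizer (H := Subgroup.zpowers x))
  rwa [Nat.card_zpowers, T.order] at h1

theorem card_eq : Nat.card H = p * T.e * Nat.card (Sylow p H) := by
  rw [← T.card_N, T.P.card_eq_index_normalizer]
  exact (Subgroup.card_mul_index T.N).symm

theorem two_e_le : 2 * T.e ≤ p - 1 := by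
  have h1 := T.card_N ▸ T.card_N_le
  have h2 := Nat.le_of_mul_le_mul_left h1 hp.out.pos
  have h3 := T.hpn
  omega

theorem one_le_e : 1 ≤ T.e := Nat.pos_of_ne_zero fun h => by
  have h1 := T.card_N
  rw [h, mul_zero] at h1
  exact Nat.card_pos.ne' h1

theorem succ_le_card_sylow : p + 1 ≤ Nat.card (Sylow p H) := by
  have hmod : Nat.card (Sylow p H) % p = 1 % p := card_sylow_modEq_one p H
  rw [Nat.mod_eq_of_lt hp.out.one_lt] at hmod
  have hne : Nat.card (Sylow p H) ≠ 1 := by
    intro h1
    have htop : T.N = ⊤ := by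
      rw [← Subgroup.index_eq_one, ← h1, T.P.card_eq_index_normalizer]
      rfl
    haveI : (Subgroup.zpowers x).Normal := Subgroup.normalizer_eq_top_iff.1 htop
    haveI : IsCyclic (Subgroup.zpowers x) := Subgroup.isCyclic_zpowers x
    have hcomm : ∀ g : H, Commute g x := fun g => by
      letI := Fintype.ofFinite H
      have h := FewSylow.hom_eq_one_of_perfect T.perfect
        ((IsCyclic.mulAutMulEquiv (Subgroup.zpowers x)).toMonoidHom.comp
          (MulAut.conjNormal (H := Subgroup.zpowers x))) (fun _ _ => mul_comm _ _) g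
      rw [MonoidHom.comp_apply, MulEquiv.coe_toMonoidHom, MulEquiv.map_eq_one_iff] at h
      have h2 := congrArg Subtype.val (DFunLike.congr_fun h ⟨x, Subgroup.mem_zpowers x⟩)
      rw [MulAut.conjNormal_apply] at h2
      exact mul_inv_eq_iff_eq_mul.1 h2
    have hab : ∀ a b : H, Commute a b := fun a b => by
      obtain ⟨i, rfl⟩ := Subgroup.mem_zpowers_iff.1 (T.mem_of_commute (hcomm a))
      obtain ⟨j, rfl⟩ := Subgroup.mem_zpowers_iff.1 (T.mem_of_commute (hcomm b))
      exact Commute.zpow_zpow (Commute.refl x) i j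
    letI := Fintype.ofFinite H
    have hx1 := FewSylow.hom_eq_one_of_perfect T.perfect (MonoidHom.id H) (fun a b => hab a b) x
    have h2 := T.order
    rw [MonoidHom.id_apply] at hx1
    rw [hx1, orderOf_one] at h2
    exact hp.out.ne_one h2.symm
  have h0 : 0 < Nat.card (Sylow p H) := Nat.card_pos
  have := Nat.div_add_mod (Nat.card (Sylow p H)) p
  rcases Nat.eq_zero_or_pos (Nat.card (Sylow p H) / p) with h | h
  · rw [h, mul_zero] at this
    omega
  · have := Nat.le_mul_of_pos_right p h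
    omega

theorem pi_inv_apply (h : H) (v : T.M.R) : T.M.π h⁻¹ (T.M.π h v) = v := by
  rw [← Module.End.mul_apply, ← map_mul, inv_mul_cancel, map_one, Module.End.one_apply]

theorem iso_map (g : H) {L : Submodule T.M.K T.M.R} (hL : IsoLine T.M.β L) :
    IsoLine T.M.β (L.map (T.M.π g)) := by
  obtain ⟨v, hv, rfl, hvv⟩ := hL
  refine ⟨T.M.π g v, fun h0 => hv ?_, ?_, ?_⟩
  · rw [← T.pi_inv_apply g v, h0, map_zero]
  · rw [Submodule.map_span, Set.image_singleton]
  · rw [T.M.iso, hvv]

theorem map_map (g h : H) (L : Submodule T.M.K T.M.R) :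
    (L.map (T.M.π h)).map (T.M.π g) = L.map (T.M.π (g * h)) := by
  rw [map_mul, Module.End.mul_eq_comp, Submodule.map_comp]

theorem two_ne : (2 : T.M.K) ≠ 0 := by
  have := T.two_le
  have := T.hpn
  exact_mod_cast PolyModel.cast_ne_zero (K := T.M.K) (p := p) two_pos (by omega)

/-- The square at an element of order `p`. -/
theorem regular {h : H} (ho : orderOf h = p) : (T.M.π h - 1) ^ 2 ≠ 0 := by
  intro h0
  obtain ⟨k, hk⟩ := exists_conj_pow T.sq T.order ho
  have hyo := ((MulAut.conj k).orderOf_eq h).trans ho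
  have hz := zpowers_eq hk T.order hyo
  obtain ⟨i, hi⟩ := mem_powers_iff_mem_zpowers.2 (hz.symm ▸ Subgroup.mem_zpowers x)
  set U := T.M.π (k * h * k⁻¹) with hU
  have hkk : T.M.π k⁻¹ * T.M.π k = 1 := by rw [← map_mul, inv_mul_cancel, map_one]
  have hkk' : T.M.π k * T.M.π k⁻¹ = 1 := by rw [← map_mul, mul_inv_cancel, map_one]
  have hU2 : (U - 1) ^ 2 = 0 := by
    have e : U - 1 = T.M.π k * (T.M.π h - 1) * T.M.π k⁻¹ := by
      rw [hU, mul_sub, mul_one, sub_mul, map_mul, map_mul, hkk']
    rw [e, pow_two,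
      show ∀ a b c : End T.M.K T.M.R, a * b * c * (a * b * c) = a * b * (c * a) * b * c from
        fun a b c => by simp [mul_assoc],
      hkk, mul_one, mul_assoc (T.M.π k), ← pow_two, h0, mul_zero, zero_mul]
  refine T.M.regular ?_
  have hx' : T.M.π x = U ^ i := by
    rw [hU, ← map_pow]
    exact congrArg T.M.π hi.symm
  have hc : Commute (U - 1) (∑ j ∈ Finset.range i, U ^ j) :=
    Commute.sum_right _ _ _ fun j _ => ((Commute.refl U).sub_left (Commute.one_left U)).pow_right j
  rw [hx', ← mul_geom_sum, hc.mul_pow, hU2, zero_mul]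

/-- The isotropic lines fixed by some nontrivial element. -/
def Line : Type :=
  {L : Submodule T.M.K T.M.R // IsoLine T.M.β L ∧ ∃ h : H, h ≠ 1 ∧ L.map (T.M.π h) = L}

noncomputable instance lineAction : MulAction H T.Line where
  smul g L := ⟨L.1.map (T.M.π g), T.iso_map g L.2.1, by
    obtain ⟨h, h1, h2⟩ := L.2.2
    refine ⟨g * h * g⁻¹, fun e => h1 (conj_eq_one_iff.1 e), ?_⟩
    rw [T.map_map, inv_mul_cancel_right, ← T.map_map, h2]⟩
  one_smul L := Subtype.ext (by
    show L.1.map (T.M.π 1) = L.1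
    rw [map_one, Module.End.one_eq_id, Submodule.map_id])
  mul_smul g h L := Subtype.ext (T.map_map g h L.1).symm

theorem smul_eq_iff (g : H) (L : T.Line) : g • L = L ↔ L.1.map (T.M.π g) = L.1 := Subtype.ext_iff

theorem fixed_order_p {h : H} (ho : orderOf h = p) :
    ∃ L : T.Line, (∃ v, v ≠ 0 ∧ T.M.β v v = 0 ∧ T.M.π h v = v ∧ L.1 = Submodule.span _ {v}) ∧
      fixedBy T.Line h = {L} := by
  have hh1 : h ≠ 1 := fun e => by
    rw [e, orderOf_one] at ho
    exact hp.out.ne_one ho.symm
  obtain ⟨v, hv, hvv, hfix, huniq⟩ := regular_lines T.M.symm T.M.nd (T.M.iso h)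
    (cube_eq_zero (p := p) T.M.dim (by
      rw [← map_pow, orderOf_dvd_iff_pow_eq_one.1 ho.dvd, map_one]))
    (T.regular ho) T.M.dim
  have hmap : (Submodule.span T.M.K {v}).map (T.M.π h) = Submodule.span T.M.K {v} := by
    rw [Submodule.map_span, Set.image_singleton, hfix]
  let L : T.Line := ⟨_, ⟨v, hv, rfl, hvv⟩, h, hh1, hmap⟩
  refine ⟨L, ⟨v, hv, hvv, hfix, rfl⟩, Set.ext fun M => ?_⟩
  rw [mem_fixedBy, Set.mem_singleton_iff, T.smul_eq_iff]
  exact ⟨fun hM => Subtype.ext (huniq M.1 M.2.1 hM), fun hM => hM ▸ hmap⟩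

theorem fixed_prime_to_p {h : H} (h1 : h ≠ 1) (ho : orderOf h ≠ p) :
    ∃ L₁ L₂ : T.Line, L₁ ≠ L₂ ∧ fixedBy T.Line h = {L₁, L₂} := by
  have hm : ((orderOf h : ℕ) : T.M.K) ≠ 0 := by
    rw [Ne, CharP.cast_eq_zero_iff T.M.K p]
    exact fun hd => ho (T.order_cases hd)
  obtain ⟨L₁, L₂, hne, hi1, hi2, hm1, hm2, huniq⟩ := semisimple_lines T.M.symm T.M.nd T.M.dim
    (T.M.iso h) (T.M.det h) T.two_ne (m := orderOf h)
    (by rw [← map_pow, pow_orderOf_eq_one, map_one]) hm
    (fun e => h1 (T.inj (by rw [e, map_one])))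
  let M₁ : T.Line := ⟨L₁, hi1, h, h1, hm1⟩
  let M₂ : T.Line := ⟨L₂, hi2, h, h1, hm2⟩
  refine ⟨M₁, M₂, fun e => hne (congrArg Subtype.val e), Set.ext fun M => ?_⟩
  rw [mem_fixedBy, Set.mem_insert_iff, Set.mem_singleton_iff, T.smul_eq_iff]
  refine ⟨fun hM => (huniq M.1 M.2.1 hM).imp Subtype.ext Subtype.ext, ?_⟩
  rintro (rfl | rfl)
  · exact hm1
  · exact hm2

theorem finite_line : Finite T.Line := by
  rw [← Set.finite_univ_iff]
  refine ((Set.finite_iUnion (f := fun h : {h : H // h ≠ 1} => fixedBy T.Line h.1)) fun h => ?_).subset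
    fun L _ => ?_
  · by_cases ho : orderOf h.1 = p
    · obtain ⟨L, -, e⟩ := T.fixed_order_p ho
      exact e ▸ Set.finite_singleton L
    · obtain ⟨L₁, L₂, -, e⟩ := T.fixed_prime_to_p h.2 ho
      exact e ▸ Set.toFinite _
  · obtain ⟨h, h1, h2⟩ := L.2.2
    exact Set.mem_iUnion.2 ⟨⟨h, h1⟩, (T.smul_eq_iff h L).2 h2⟩

/-- There are exactly `p + 1` Sylow subgroups. -/
theorem card_sylow : Nat.card (Sylow p H) = p + 1 := by
  classical
  haveI := T.finite_line
  have hp3 : 3 ≤ p := by
    have := T.two_le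
    have := T.hpn
    omega
  obtain ⟨ω, ⟨v, hv, hvv, hxv, hω⟩, hfixω⟩ := T.fixed_order_p T.order
  have hxω : x • ω = ω := by
    have : ω ∈ fixedBy T.Line x := hfixω ▸ Set.mem_singleton ω
    exact this
  -- the vectors fixed
  have heig : ∀ k : H, orderOf k = p → k • ω = ω → T.M.π k v = v := by
    intro k hk hkω
    rw [T.smul_eq_iff, hω, Submodule.map_span, Set.image_singleton] at hkω
    obtain ⟨μ, hμ⟩ := Submodule.mem_span_singleton.1 (hkω ▸ Submodule.mem_span_singleton_self (T.M.π k v))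
    have hpow : ∀ i : ℕ, T.M.π (k ^ i) v = μ ^ i • v := by
      intro i
      induction i with
      | zero => simp
      | succ i ih =>
        rw [pow_succ, map_mul, Module.End.mul_apply, ← hμ, map_smul, ih, smul_smul, ← pow_succ']
    have h1 := hpow p
    rw [orderOf_dvd_iff_pow_eq_one.1 hk.dvd, map_one, Module.End.one_apply] at h1
    have h2 : μ ^ p = 1 := by
      refine (smul_left_injective T.M.K hv) ?_
      show μ ^ p • v = (1 : T.M.K) • v
      rw [one_smul, ← h1]
    have h3 : μ - 1 = 0 := by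
      refine eq_zero_of_pow_eq_zero (n := p) ?_
      rw [sub_pow_char (p := p), h2, one_pow, sub_self]
    rw [← hμ, sub_eq_zero.1 h3, one_smul]
  have hstab : stabilizer H ω = T.N := by
    apply le_antisymm
    · intro g hg
      rw [mem_stabilizer_iff] at hg
      refine mem_normalizer_of_conj g ?_
      set k := g * x * g⁻¹ with hk
      have hko : orderOf k = p := ((MulAut.conj g).orderOf_eq x).trans T.order
      have hkω : k • ω = ω := by
        rw [hk, mul_smul, inv_smul_eq_iff.2 hg.symm, mul_smul, hxω, hg]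
      let F : Subgroup H :=
        { carrier := {h | T.M.π h v = v}
          one_mem' := by simp
          mul_mem' := fun {a b} ha hb => by
            show T.M.π (a * b) v = v
            rw [map_mul, Module.End.mul_apply, show T.M.π b v = v from hb,
              show T.M.π a v = v from ha]
          inv_mem' := fun {a} ha => by
            show T.M.π a⁻¹ v = v
            conv_lhs => rw [← show T.M.π a v = v from ha]
            exact T.pi_inv_apply a v }
      have hF : IsPGroup p F := fun h => by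
        by_cases ho : p ∣ orderOf (h : H)
        · exact ⟨1, Subtype.ext (by
            simp only [SubgroupClass.coe_pow, pow_one, OneMemClass.coe_one]
            rw [← T.order_cases ho, pow_orderOf_eq_one])⟩
        · exact ⟨0, by
            rw [pow_zero, pow_one]
            exact Subtype.ext (T.eq_one (unipotent_of_fix T.M.symm T.M.nd T.M.dim (T.M.iso h)
              (T.M.det h) hv hvv h.2) ho)⟩
      have hle : (T.P : Subgroup H) ≤ F := by
        rw [T.coe_P, Subgroup.zpowers_le]
        exact heig x T.order hxω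
      rw [← T.coe_P, ← T.P.is_maximal' hF hle]
      exact heig k hko hkω
    · intro g hg
      rw [mem_stabilizer_iff]
      have h1 : g • ω ∈ fixedBy T.Line x := by
        rw [mem_fixedBy]
        have h2 : g⁻¹ * x * g ∈ Subgroup.zpowers x :=
          (Subgroup.mem_normalizer_iff.1 hg _).2 (by simp [mul_assoc])
        obtain ⟨i, hi⟩ := mem_powers_iff_mem_zpowers.2 h2
        have h3 : x ^ i ∈ stabilizer H ω := Subgroup.pow_mem _ (mem_stabilizer_iff.2 hxω) i
        rw [← mul_smul, show x * g = g * x ^ i by rw [show x ^ i = _ from hi]; simp [mul_assoc],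
          mul_smul, mem_stabilizer_iff.1 h3]
      rw [hfixω] at h1
      exact h1
  refine card_sylow_eq (Ω := T.Line) hp3 T.P T.card_P T.card_eq T.succ_le_card_sylow T.two_e_le
    T.one_le_e (fun h ho => ?_) (fun h h1 ho => ?_) ω (by rw [hstab, T.card_N]) fun L => ?_
  · obtain ⟨L, -, e⟩ := T.fixed_order_p ho
    rw [e, Nat.card_coe_set_eq, Set.ncard_singleton]
  · obtain ⟨L₁, L₂, hne, e⟩ := T.fixed_prime_to_p h1 ho
    rw [e, Nat.card_coe_set_eq, Set.ncard_pair hne]
  · obtain ⟨h, h1, h2⟩ := L.2.2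
    exact ⟨h, h1, (T.smul_eq_iff h L).2 h2⟩

end Orth

end Cfsg.Agent.H86.HalfDeg
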