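import Cfsg.Agent.H86.HalfDeg.PolyModel
import Mathlib.Data.Nat.Prime.Factorial
import Mathlib.LinearAlgebra.Semisimple
import Mathlib.LinearAlgebra.Eigenspace.Semisimple
import Mathlib.LinearAlgebra.Eigenspace.Triangularizable
import Mathlib.RingTheory.Polynomial.Cyclotomic.Basic

/-!
# A three dimensional summand of the endomorphisms

For a unipotent `τ` of index less than `p - 1` normalized by a semisimple `y`, the endomorphisms
contain a nondegenerate three dimensional subspace stable under both, where `τ` is regular.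
-/

set_option autoImplicit false
set_option linter.unusedSectionVars false

namespace Cfsg.Agent.H86.HalfDeg

open Module Polynomial

section Cyclic

variable {K M : Type*} [Field K] [AddCommGroup M] [Module K M]

/-- The iterates of a nilpotent map on a vector are independent. -/
theorem linearIndependent_cyclic (N : End K M) (v : M) {s : ℕ} (h1 : (N ^ s) v ≠ 0)
    (h2 : (N ^ (s + 1)) v = 0) : LinearIndependent K fun i : Fin (s + 1) => (N ^ (i : ℕ)) v := by
  rw [Fintype.linearIndependent_iff]
  intro c hc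
  suffices h : ∀ k : ℕ, ∀ i : Fin (s + 1), (i : ℕ) = k → c i = 0 from fun i => h _ i rfl
  intro k
  induction k using Nat.strong_induction_on with
  | _ k ih =>
    intro i hi
    have h := congrArg (N ^ (s - k)) hc
    rw [map_sum, map_zero, Finset.sum_eq_single i] at h
    · rw [map_smul, ← Module.End.mul_apply, ← pow_add,
        show s - k + (i : ℕ) = s by have := i.isLt; omega] at h
      exact (smul_eq_zero.1 h).resolve_right h1
    · intro j _ hj
      rw [map_smul]
      rcases lt_or_gt_of_ne (fun e => hj (Fin.ext e) : (j : ℕ) ≠ i) with hlt | hgt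
      · rw [ih j (hi ▸ hlt) j rfl, zero_smul]
      · rw [← Module.End.mul_apply, ← pow_add,
          show s - k + (j : ℕ) = ((j : ℕ) - k - 1) + (s + 1) by have := j.isLt; omega, pow_add,
          Module.End.mul_apply, h2, map_zero, smul_zero]
    · exact fun h => absurd (Finset.mem_univ i) h

theorem comp_pow_eq {M' : Type*} [AddCommGroup M'] [Module K M'] (θ : M →ₗ[K] M') (A : End K M)
    (A' : End K M') (h : ∀ f, θ (A f) = A' (θ f)) (k : ℕ) (f : M) :
    θ ((A ^ k) f) = (A' ^ k) (θ f) := by
  induction k with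
  | zero => rfl
  | succ k ih => rw [pow_succ', pow_succ', Module.End.mul_apply, Module.End.mul_apply, h, ih]

end Cyclic

variable {K W : Type*} [Field K] [IsAlgClosed K] [AddCommGroup W] [Module K W]
  [FiniteDimensional K W] {p : ℕ} [hp : Fact p.Prime] [CharP K p]

/-- The transport of the model. -/
theorem exists_transport (τ y : End K W) {s a m : ℕ} (hs : (τ - 1) ^ (s + 1) = 0)
    (hs' : (τ - 1) ^ s ≠ 0) (hτp : τ ^ p = 1) (hrel : y * τ = τ ^ a * y) (hym : y ^ m = 1)
    (hm : (m : K) ≠ 0) (ha : (a : K) ≠ 0) (hsp : s + 1 < p) :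
    ∃ (b : K) (θ : degreeLT K (s + 1) →ₗ[K] W) (Φ : W →ₗ[K] degreeLT K (s + 1)) (ν : K),
      b ≠ 0 ∧ ν ≠ 0 ∧
      Φ.comp θ = LinearMap.id ∧
      τ.comp θ = θ.comp (PolyModel.tau (s + 1)) ∧
      Φ.comp τ = (PolyModel.tau (s + 1)).comp Φ ∧
      θ.comp (PolyModel.scale (s + 1) b) = ν • y.comp θ ∧
      (PolyModel.scale (s + 1) b).comp Φ = ν • Φ.comp y := by
  classical
  set N := τ - 1 with hN
  have hNτ : N ^ s * τ = N ^ s := by
    have : τ = 1 + N := by rw [hN]; abel
    rw [this, mul_add, mul_one, ← pow_succ, hs, add_zero]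
  -- `y` has an eigenvector outside the kernel
  have hy : y.IsSemisimple := by
    refine Module.End.isSemisimple_of_squarefree_aeval_eq_zero
      ((X_pow_sub_one_separable_iff.2 hm).squarefree) ?_
    simp [hym]
  obtain ⟨v, μ, hvμ, hv⟩ : ∃ v μ, y v = μ • v ∧ (N ^ s) v ≠ 0 := by
    by_contra hno
    push Not at hno
    have htop : ⨆ μ : K, y.eigenspace μ = ⊤ := by
      rw [← Module.End.iSup_maxGenEigenspace_eq_top y]
      exact iSup_congr fun μ => (hy.isFinitelySemisimple.maxGenEigenspace_eq_eigenspace μ).symm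
    refine hs' (LinearMap.ext fun w => ?_)
    have hw : w ∈ ⨆ μ : K, y.eigenspace μ := htop.symm ▸ Submodule.mem_top
    induction hw using Submodule.iSup_induction' with
    | mem μ w hw => exact hno w μ (Module.End.mem_eigenspace_iff.1 hw)
    | zero => simp
    | add a b _ _ h1 h2 => rw [map_add, h1, h2]; simp
  have hv0 : v ≠ 0 := fun h => hv (by rw [h, map_zero])
  have hμ0 : μ ≠ 0 := by
    intro h
    apply hv0
    have hm0 : m ≠ 0 := fun e => hm (by rw [e, Nat.cast_zero])
    rw [← Module.End.one_apply (R := K) v, ← hym,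
      show m = (m - 1) + 1 by omega, pow_succ, Module.End.mul_apply, hvμ, h, zero_smul, map_zero]
  -- commutation
  have hrelk : ∀ k, y * τ ^ k = τ ^ (a * k) * y := fun k => by
    induction k with
    | zero => simp
    | succ k ih => rw [pow_succ, ← mul_assoc, ih, mul_assoc, hrel, ← mul_assoc, ← pow_add, mul_add,
        mul_one]
  have hyN : ∀ k, y * N ^ k = (τ ^ a - 1) ^ k * y := fun k => by
    induction k with
    | zero => simp
    | succ k ih =>
      rw [pow_succ, ← mul_assoc, ih, mul_assoc, pow_succ, mul_assoc, hN, mul_sub, hrel, sub_mul,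
        mul_one, one_mul]
  -- `u = N ^ s v` is an eigenvector
  set u := (N ^ s) v with hu
  have hu0 : u ≠ 0 := hv
  have hsum : ∀ k : ℕ, τ ^ k - 1 = N * ∑ i ∈ Finset.range k, τ ^ i := fun k =>
    (mul_geom_sum τ k).symm
  have hyu : y u = ((a : K) ^ s * μ) • u := by
    have hNi : ∀ i, N ^ s * τ ^ i = N ^ s := fun i => by
      induction i with
      | zero => simp
      | succ i ih => rw [pow_succ, ← mul_assoc, ih, hNτ]
    have hS : ∀ k : ℕ, N ^ s * (∑ i ∈ Finset.range a, τ ^ i) ^ k = ((a : K) ^ k) • N ^ s := by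
      intro k
      induction k with
      | zero => simp
      | succ k ih =>
        rw [pow_succ, ← mul_assoc, ih, smul_mul_assoc, Finset.mul_sum,
          Finset.sum_congr rfl fun i _ => hNi i, Finset.sum_const, Finset.card_range,
          ← Nat.cast_smul_eq_nsmul K, smul_smul, pow_succ]
    have hc : Commute N (∑ i ∈ Finset.range a, τ ^ i) :=
      Commute.sum_right _ _ _ fun i _ =>
        ((Commute.refl τ).pow_right i).sub_left (Commute.one_left _)
    rw [hu, ← Module.End.mul_apply, hyN, hsum, hc.mul_pow, hS, Module.End.mul_apply, hvμ,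
      map_smul, LinearMap.smul_apply, smul_smul, mul_comm]
  set ν' := (a : K) ^ s * μ with hν'
  have hν'0 : ν' ≠ 0 := mul_ne_zero (pow_ne_zero _ ha) hμ0
  have hyk : ∀ i, (y ^ i) u = ν' ^ i • u := fun i => by
    induction i with
    | zero => simp
    | succ i ih => rw [pow_succ, Module.End.mul_apply, hyu, map_smul, ih, smul_smul, ← pow_succ']
  have hν'm : ν' ^ m = 1 := by
    have h := hyk m
    rw [hym, Module.End.one_apply] at h
    by_contra hne
    refine hu0 ((smul_eq_zero.1 (?_ : (ν' ^ m - 1) • u = 0)).resolve_left (sub_ne_zero.2 hne))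
    rw [sub_smul, one_smul, ← h, sub_self]
  -- the functional
  obtain ⟨φ₀, hφ₀⟩ : ∃ φ : W →ₗ[K] K, φ u = 1 := by
    obtain ⟨φ, hφ⟩ : ∃ φ : Dual K W, φ u ≠ 0 := by
      by_contra h
      push Not at h
      exact hu0 ((Module.forall_dual_apply_eq_zero_iff K u).1 h)
    exact ⟨(φ u)⁻¹ • φ, by simp [hφ]⟩
  set φ : W →ₗ[K] K := ∑ i ∈ Finset.range m, (ν'⁻¹) ^ i • φ₀.comp (y ^ i) with hφ
  have hφu : φ u = m := by
    simp only [hφ, LinearMap.sum_apply, LinearMap.smul_apply, LinearMap.comp_apply, hyk, map_smul,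
      hφ₀, smul_eq_mul, mul_one]
    rw [Finset.sum_congr rfl fun i _ => by rw [inv_pow, inv_mul_cancel₀ (pow_ne_zero i hν'0)]]
    simp
  have hφy : ∀ w, φ (y w) = ν' * φ w := by
    intro w
    have hshift : ∀ i, φ₀ ((y ^ i) (y w)) = φ₀ ((y ^ (i + 1)) w) := fun i => by
      rw [pow_succ, Module.End.mul_apply]
    simp only [hφ, LinearMap.sum_apply, LinearMap.smul_apply, LinearMap.comp_apply, hshift,
      smul_eq_mul, Finset.mul_sum]
    set F : ℕ → K := fun i => ν' * ((ν'⁻¹) ^ i * φ₀ ((y ^ i) w)) with hF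
    have h1 : ∀ i, (ν'⁻¹) ^ i * φ₀ ((y ^ (i + 1)) w) = F (i + 1) := fun i => by
      rw [hF]
      simp only
      rw [pow_succ' ν'⁻¹ i, ← mul_assoc, ← mul_assoc, mul_inv_cancel₀ hν'0, one_mul]
    rw [Finset.sum_congr rfl fun i _ => h1 i]
    have h2 := Finset.sum_range_succ' F m
    rw [Finset.sum_range_succ] at h2
    have h3 : F m = F 0 := by
      simp [hF, hym, hν'm, inv_pow]
    rw [h3] at h2
    exact (add_right_cancel h2).symm
  -- the coordinates
  let A : W →ₗ[K] (Fin (s + 1) → K) := LinearMap.pi fun i => φ.comp (N ^ (i : ℕ))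
  have hA : ∀ w i, A w i = φ ((N ^ (i : ℕ)) w) := fun w i => rfl
  have hkerA : ∀ w, A w = 0 → ∀ i, φ ((N ^ i) w) = 0 := fun w hw i => by
    rcases lt_or_ge i (s + 1) with h | h
    · exact congrFun hw ⟨i, h⟩
    · obtain ⟨j, rfl⟩ := Nat.exists_eq_add_of_le h
      rw [pow_add, hs, zero_mul, LinearMap.zero_apply, map_zero]
  have hkerτ : ∀ w, A w = 0 → A (τ w) = 0 := fun w hw => funext fun i => by
    rw [hA, show τ w = w + N w by simp [hN], map_add, map_add, hkerA w hw, ← Module.End.mul_apply,
      ← pow_succ, hkerA w hw, add_zero]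
    rfl
  have hkerτk : ∀ k w, A w = 0 → A ((τ ^ k) w) = 0 := fun k => by
    induction k with
    | zero => exact fun w hw => hw
    | succ k ih => intro w hw; rw [pow_succ', Module.End.mul_apply]; exact hkerτ _ (ih w hw)
  have hkery : ∀ w, A w = 0 → A (y w) = 0 := fun w hw => funext fun i => by
    obtain ⟨b, hb⟩ : ∃ b : ℕ, τ * y = y * τ ^ b := by
      have hndvd : ¬ p ∣ a := fun h => ha ((CharP.cast_eq_zero_iff K p a).2 h)
      obtain ⟨b, -, hb⟩ := Nat.exists_mul_mod_eq_one_of_coprime
        ((Nat.Coprime.symm (hp.out.coprime_iff_not_dvd.2 hndvd))) hp.out.one_lt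
      refine ⟨b, ?_⟩
      rw [hrelk, ← Nat.div_add_mod (a * b) p, hb, pow_add, pow_mul, hτp, one_pow, one_mul, pow_one]
    have hNy : ∀ k, N ^ k * y = y * (τ ^ b - 1) ^ k := fun k => by
      induction k with
      | zero => simp
      | succ k ih =>
        rw [pow_succ', pow_succ (τ ^ b - 1), mul_assoc, ih, ← mul_assoc N, hN, sub_mul τ 1 y, hb,
          one_mul, ← mul_sub_one, mul_assoc, ← pow_succ', pow_succ]
    have hc : Commute N (∑ i ∈ Finset.range b, τ ^ i) :=
      Commute.sum_right _ _ _ fun i _ =>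
        ((Commute.refl τ).pow_right i).sub_left (Commute.one_left _)
    rw [hA, ← Module.End.mul_apply, hNy, Module.End.mul_apply, hφy, hsum, hc.mul_pow,
      Module.End.mul_apply]
    have hS : ∀ k w, A w = 0 → A (((∑ i ∈ Finset.range b, τ ^ i) ^ k) w) = 0 := fun k => by
      induction k with
      | zero => exact fun w hw => hw
      | succ k ih =>
        intro w hw
        rw [pow_succ', Module.End.mul_apply, LinearMap.sum_apply, map_sum]
        exact Finset.sum_eq_zero fun j _ => hkerτk j _ (ih w hw)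
    rw [hkerA _ (hS _ w hw), mul_zero]
    rfl
  -- the model basis
  set T := PolyModel.tau (K := K) (s + 1) - 1 with hT
  have hTcoe : ∀ (k : ℕ) (f : degreeLT K (s + 1)),
      ((T ^ k) f : K[X]) = ((PolyModel.tauP - 1) ^ k : End K K[X]) (f : K[X]) := by
    intro k
    induction k with
    | zero => intro f; rfl
    | succ k ih =>
      intro f
      rw [pow_succ', pow_succ', Module.End.mul_apply, Module.End.mul_apply, ← ih, hT]
      rfl
  let e₀ : degreeLT K (s + 1) := ⟨X ^ s, by
    rw [mem_degreeLT, degree_X_pow]; exact_mod_cast Nat.lt_succ_self s⟩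
  have hfac : (s.factorial : K) ≠ 0 := by
    rw [Ne, CharP.cast_eq_zero_iff K p, Nat.Prime.dvd_factorial hp.out]
    omega
  obtain ⟨hd1, hd2⟩ := PolyModel.delta_pow s (X ^ s : K[X]) e₀.2
  have he1 : (T ^ s) e₀ ≠ 0 := by
    intro h
    have h' := congrArg Subtype.val h
    rw [hTcoe, show ((e₀ : degreeLT K (s + 1)) : K[X]) = X ^ s from rfl, hd1] at h'
    simp [coeff_X_pow] at h'
    rw [← C_eq_natCast, C_eq_zero] at h'
    exact hfac h'
  have he2 : (T ^ (s + 1)) e₀ = 0 := Subtype.ext (by
    rw [hTcoe]; exact hd2)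
  have hli := linearIndependent_cyclic T e₀ he1 he2
  have hfr : finrank K (degreeLT K (s + 1)) = s + 1 := by
    rw [(degreeLTEquiv K (s + 1)).finrank_eq, Module.finrank_fin_fun]
  let B := basisOfLinearIndependentOfCardEqFinrank hli (by rw [Fintype.card_fin, hfr])
  have hB : ∀ i, B i = (T ^ (i : ℕ)) e₀ := fun i =>
    congrFun (coe_basisOfLinearIndependentOfCardEqFinrank _ _) i
  let θ : degreeLT K (s + 1) →ₗ[K] W := B.constr K fun i => (N ^ (i : ℕ)) v
  have hθB : ∀ i, θ (B i) = (N ^ (i : ℕ)) v := fun i => B.constr_basis K _ i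
  have hθe : θ e₀ = v := by
    have h := hθB 0
    rwa [hB, Fin.val_zero, pow_zero, pow_zero] at h
  have hθT : ∀ f, θ (T f) = N (θ f) := by
    intro f
    have h : θ.comp T = N.comp θ := B.ext fun i => by
      rw [LinearMap.comp_apply, LinearMap.comp_apply, hθB, hB, ← Module.End.mul_apply,
        ← pow_succ', ← Module.End.mul_apply, ← pow_succ']
      rcases (show (i : ℕ) + 1 < s + 1 ∨ (i : ℕ) + 1 = s + 1 by omega) with h | h
      · have := hθB ⟨(i : ℕ) + 1, h⟩
        rwa [hB] at this
      · rw [h, he2, map_zero, hs, LinearMap.zero_apply]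
    exact LinearMap.congr_fun h f
  have hθtau : ∀ f, θ (PolyModel.tau (s + 1) f) = τ (θ f) := fun f => by
    have h := hθT f
    rw [hT, hN, LinearMap.sub_apply, LinearMap.sub_apply, map_sub] at h
    exact sub_left_injective h
  -- scaling
  set b : K := (a : K)⁻¹ with hb
  have hb0 : b ≠ 0 := inv_ne_zero ha
  have hscale : ∀ f, θ (PolyModel.scale (s + 1) b f) = (b ^ s / μ) • y (θ f) := by
    intro f
    have hτa : ∀ (k : ℕ) f, θ (((PolyModel.tau (s + 1) ^ a - 1) ^ k : End K _) f) =
        ((τ ^ a - 1) ^ k : End K W) (θ f) := fun k f => by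
      refine comp_pow_eq θ _ _ (fun f => ?_) k f
      rw [LinearMap.sub_apply, LinearMap.sub_apply, map_sub,
        comp_pow_eq θ _ _ hθtau a f]
      rfl
    have hbase : PolyModel.scale (s + 1) b * T =
        (PolyModel.tau (s + 1) ^ a - 1) * PolyModel.scale (s + 1) b := LinearMap.ext fun f => by
      rw [Module.End.mul_apply, Module.End.mul_apply, hT, LinearMap.sub_apply, LinearMap.sub_apply,
        map_sub, ← Module.End.mul_apply, PolyModel.scale_tau' (s + 1) (inv_mul_cancel₀ ha)]
      rfl
    have hsT : ∀ k : ℕ, PolyModel.scale (s + 1) b * T ^ k =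
        (PolyModel.tau (s + 1) ^ a - 1) ^ k * PolyModel.scale (s + 1) b := fun k => by
      induction k with
      | zero => simp
      | succ k ih =>
        rw [pow_succ, ← mul_assoc, ih, mul_assoc, hbase, ← mul_assoc, ← pow_succ]
    have he : PolyModel.scale (s + 1) b e₀ = (b ^ s) • e₀ := Subtype.ext (by
      rw [PolyModel.coe_scale, PolyModel.scaleP_apply]
      show (X ^ s : K[X]).comp _ = (b ^ s) • (X ^ s : K[X])
      rw [X_pow_comp, mul_pow, ← C_pow, smul_eq_C_mul])
    have h : θ.comp (PolyModel.scale (s + 1) b) = (b ^ s / μ) • y.comp θ := B.ext fun i => by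
      rw [LinearMap.comp_apply, LinearMap.smul_apply, LinearMap.comp_apply, hθB, hB,
        ← Module.End.mul_apply, hsT, Module.End.mul_apply, hτa, he, map_smul, hθe,
        ← Module.End.mul_apply, hyN, Module.End.mul_apply, hvμ, map_smul, map_smul, smul_smul,
        div_mul_cancel₀ _ hμ0]
    exact LinearMap.congr_fun h f
  -- the projection
  have hAθ : Function.Injective (A.comp θ) := by
    rw [injective_iff_map_eq_zero]
    intro f hf
    rw [← B.sum_repr f] at hf ⊢
    suffices h : ∀ k : ℕ, ∀ i : Fin (s + 1), (i : ℕ) = k → B.repr f i = 0 from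
      Finset.sum_eq_zero fun i _ => by rw [h _ i rfl, zero_smul]
    intro k
    induction k using Nat.strong_induction_on with
    | _ k ih =>
      intro i hi
      have hk : k < s + 1 := hi ▸ i.isLt
      have h := congrFun hf ⟨s - k, by omega⟩
      simp only [LinearMap.comp_apply, map_sum, map_smul, hθB, Finset.sum_apply, Pi.smul_apply,
        hA, smul_eq_mul, Pi.zero_apply, ← Module.End.mul_apply, ← pow_add] at h
      rw [Finset.sum_eq_single i] at h
      · rw [show s - k + (i : ℕ) = s by omega, ← hu, hφu] at h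
        exact (mul_eq_zero.1 h).resolve_right hm
      · intro j _ hj
        rcases lt_or_gt_of_ne (fun e => hj (Fin.ext e) : (j : ℕ) ≠ i) with hlt | hgt
        · rw [ih j (hi ▸ hlt) j rfl, zero_mul]
        · rw [show s - k + (j : ℕ) = (s + 1) + ((j : ℕ) - k - 1) by omega, pow_add, hs, zero_mul,
            LinearMap.zero_apply, map_zero, mul_zero]
      · exact fun h => absurd (Finset.mem_univ i) h
  let E : degreeLT K (s + 1) ≃ₗ[K] (Fin (s + 1) → K) :=
    LinearEquiv.ofBijective (A.comp θ) ⟨hAθ,
      (LinearMap.injective_iff_surjective_of_finrank_eq_finrank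
        (by rw [hfr, Module.finrank_fin_fun])).1 hAθ⟩
  let Φ : W →ₗ[K] degreeLT K (s + 1) := E.symm.toLinearMap.comp A
  have hΦθ : ∀ f, Φ (θ f) = f := fun f => E.symm_apply_apply f
  have hΦker : ∀ w, A w = 0 → Φ w = 0 := fun w hw => by
    show E.symm (A w) = 0
    rw [hw, map_zero]
  have hAker : ∀ w, A (w - θ (Φ w)) = 0 := fun w => by
    rw [map_sub, show A (θ (Φ w)) = E (E.symm (A w)) from rfl, LinearEquiv.apply_symm_apply,
      sub_self]
  have hinter : ∀ (Bm : End K (degreeLT K (s + 1))) (B' : End K W) (c : K),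
      (∀ f, θ (Bm f) = c • B' (θ f)) → (∀ w, A w = 0 → A (B' w) = 0) →
      Bm.comp Φ = c • Φ.comp B' := by
    intro Bm B' c h1 h2
    refine LinearMap.ext fun w => ?_
    show Bm (Φ w) = c • Φ (B' w)
    have h3 : Φ (B' w) = Φ (B' (θ (Φ w))) := by
      rw [← sub_eq_zero, ← map_sub, ← map_sub]
      exact hΦker _ (h2 _ (hAker w))
    rw [h3, ← map_smul, ← h1, hΦθ]
  refine ⟨b, θ, Φ, b ^ s / μ, hb0, div_ne_zero (pow_ne_zero _ hb0) hμ0, LinearMap.ext hΦθ,
    LinearMap.ext fun f => (hθtau f).symm, ?_, LinearMap.ext hscale, hinter _ _ _ hscale hkery⟩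
  have h := hinter (PolyModel.tau (s + 1)) τ 1 (fun f => by rw [one_smul]; exact hθtau f) hkerτ
  rw [one_smul] at h
  exact h.symm

/-- Conjugation of endomorphisms. -/
noncomputable def conjEnd (g g' : End K W) : End K (End K W) :=
  (LinearMap.mulLeft K g).comp (LinearMap.mulRight K g')

theorem conjEnd_apply (g g' A : End K W) : conjEnd g g' A = g * A * g' := by
  simp [conjEnd, mul_assoc]

/-- The trace pairing is invariant. -/
theorem trace_conjEnd {g g' : End K W} (h : g * g' = 1) (A B : End K W) :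
    LinearMap.trace K W (conjEnd g g' A * conjEnd g g' B) = LinearMap.trace K W (A * B) := by
  have h' : g' * g = 1 := mul_eq_one_comm.1 h
  rw [conjEnd_apply, conjEnd_apply,
    show g * A * g' * (g * B * g') = g * (A * B * g') by simp [mul_assoc, ← mul_assoc g' g, h'],
    LinearMap.trace_mul_comm, mul_assoc, h', mul_one]

/-- The summand. -/
theorem exists_piece (τ y τ' y' : End K W) (hττ' : τ * τ' = 1) (hyy' : y * y' = 1)
    {s a m : ℕ} (hs : (τ - 1) ^ (s + 1) = 0)
    (hs' : (τ - 1) ^ s ≠ 0) (hs1 : 1 ≤ s) (hτp : τ ^ p = 1) (hrel : y * τ = τ ^ a * y)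
    (hym : y ^ m = 1) (hm : (m : K) ≠ 0) (ha : (a : K) ≠ 0) (hsp : s + 2 < p) :
    ∃ f : End K (End K W), f * f = f ∧
      (∀ A B, LinearMap.trace K W (f A * B) = LinearMap.trace K W (A * f B)) ∧
      finrank K (LinearMap.range f) = 3 ∧
      Commute (conjEnd τ τ') f ∧ Commute (conjEnd y y') f ∧
      ∃ u ∈ LinearMap.range f, ((conjEnd τ τ' - 1) ^ 2 : End K (End K W)) u ≠ 0 := by
  set r := s + 1 with hr
  obtain ⟨b, θ, Φ, ν, hb, hν, hΦθ, hτθ, hΦτ, hyθ, hyΦ⟩ :=
    exists_transport τ y hs hs' hτp hrel hym hm ha (by omega)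
  have h20 : (2 : K) ≠ 0 := by exact_mod_cast PolyModel.cast_ne_zero (K := K) (p := p) two_pos (by omega)
  have h30 : (3 : K) ≠ 0 := by exact_mod_cast PolyModel.cast_ne_zero (K := K) (p := p) three_pos (by omega)
  have h60 : (6 : K) ≠ 0 := by
    rw [show (6 : K) = 2 * 3 by norm_num]; exact mul_ne_zero h20 h30
  have hprod := PolyModel.prod_ne_zero (K := K) r (p := p) (by omega) (by omega)
  let L : End K (degreeLT K r) →ₗ[K] End K W :=
    { toFun := fun A => θ.comp (A.comp Φ)
      map_add' := fun A B => by simp [LinearMap.add_comp, LinearMap.comp_add]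
      map_smul' := fun c A => by simp [LinearMap.smul_comp, LinearMap.comp_smul] }
  have hLapp : ∀ A w, L A w = θ (A (Φ w)) := fun _ _ => rfl
  have hLmul : ∀ A B, L A * L B = L (A * B) := fun A B => LinearMap.ext fun w => by
    rw [Module.End.mul_apply, hLapp, hLapp, hLapp, Module.End.mul_apply]
    rw [show Φ (θ (B (Φ w))) = B (Φ w) from LinearMap.congr_fun hΦθ _]
  have hLtr : ∀ A B, LinearMap.trace K W (L A * L B) =
      LinearMap.trace K _ (A * B) := fun A B => by
    rw [hLmul]
    show LinearMap.trace K W (θ.comp ((A * B).comp Φ)) = _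
    rw [LinearMap.trace_comp_comm', LinearMap.comp_assoc, hΦθ, LinearMap.comp_id]
  set D := L (PolyModel.opD r) with hD
  set H := L (PolyModel.opH r) with hH
  set Y := L (PolyModel.opY r) with hY
  set α := LinearMap.trace K W (D * Y) with hα
  set γ := LinearMap.trace K W (H * H) with hγ
  have hα0 : α ≠ 0 := fun h => by
    rw [hα, hD, hY, hLtr] at h
    have h6 := PolyModel.trace_DY (K := K) r
    rw [h, mul_zero] at h6
    exact neg_ne_zero.2 hprod h6.symm
  have hγ0 : γ ≠ 0 := fun h => by
    rw [hγ, hH, hLtr] at h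
    have h6 := PolyModel.trace_HH (K := K) r
    rw [h, mul_zero] at h6
    exact hprod h6.symm
  have hDD : LinearMap.trace K W (D * D) = 0 := by rw [hLtr]; exact PolyModel.trace_DD r
  have hYY : LinearMap.trace K W (Y * Y) = 0 := by rw [hLtr]; exact PolyModel.trace_YY r
  have hDH : LinearMap.trace K W (D * H) = 0 := by rw [hLtr]; exact PolyModel.trace_DH r
  have hHY : LinearMap.trace K W (H * Y) = 0 := by rw [hLtr]; exact PolyModel.trace_HY r
  have hHD : LinearMap.trace K W (H * D) = 0 := by rw [LinearMap.trace_mul_comm]; exact hDH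
  have hYH : LinearMap.trace K W (Y * H) = 0 := by rw [LinearMap.trace_mul_comm]; exact hHY
  have hYD : LinearMap.trace K W (Y * D) = α := by rw [LinearMap.trace_mul_comm]
  let pr : End K W → End K W →ₗ[K] K := fun u =>
    (LinearMap.trace K W).comp (LinearMap.mulRight K u)
  have hpr : ∀ u A, pr u A = LinearMap.trace K W (A * u) := fun _ _ => rfl
  let f : End K (End K W) :=
    α⁻¹ • (pr Y).smulRight D + α⁻¹ • (pr D).smulRight Y + γ⁻¹ • (pr H).smulRight H
  have hfapp : ∀ A, f A = (α⁻¹ * pr Y A) • D + (α⁻¹ * pr D A) • Y + (γ⁻¹ * pr H A) • H := by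
    intro A
    simp [f, smul_smul]
  have hfD : f D = D := by
    rw [hfapp, hpr, hpr, hpr, hDD, hDH, ← hα]
    simp [hα0]
  have hfY : f Y = Y := by
    rw [hfapp, hpr, hpr, hpr, hYY, hYD, hYH]
    simp [hα0]
  have hfH : f H = H := by
    rw [hfapp, hpr, hpr, hpr, hHY, hHD, ← hγ]
    simp [hγ0]
  have hrange : LinearMap.range f = Submodule.span K (Set.range ![D, H, Y]) := by
    apply le_antisymm
    · rintro _ ⟨A, rfl⟩
      rw [hfapp]
      refine Submodule.add_mem _ (Submodule.add_mem _ ?_ ?_) ?_ <;>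
        refine Submodule.smul_mem _ _ (Submodule.subset_span ?_)
      · exact ⟨0, rfl⟩
      · exact ⟨2, rfl⟩
      · exact ⟨1, rfl⟩
    · rw [Submodule.span_le]
      rintro _ ⟨i, rfl⟩
      fin_cases i
      · exact ⟨D, hfD⟩
      · exact ⟨H, hfH⟩
      · exact ⟨Y, hfY⟩
  have hff : ∀ A, f (f A) = f A := fun A => by
    conv_lhs => rw [hfapp A, map_add, map_add, map_smul, map_smul, map_smul, hfD, hfY, hfH]
    rw [hfapp A]
  have hli : LinearIndependent K ![D, H, Y] := by
    rw [Fintype.linearIndependent_iff]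
    intro c hc
    simp only [Fin.sum_univ_three, Matrix.cons_val_zero, Matrix.cons_val_one,
      Matrix.cons_val_two, Matrix.head_cons, Matrix.tail_cons] at hc
    have key : ∀ u, LinearMap.trace K W ((c 0 • D + c 1 • H + c 2 • Y) * u) = 0 := fun u => by
      simp [hc]
    have h1 := key Y
    have h2 := key H
    have h3 := key D
    simp only [add_mul, smul_mul_assoc, map_add, map_smul, hDD, hDH, hYY, hYH, hHY, hHD, hYD,
      ← hα, ← hγ, smul_eq_mul, mul_zero, add_zero, zero_add] at h1 h2 h3
    intro i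
    fin_cases i
    · exact (mul_eq_zero.1 h1).resolve_right hα0
    · exact (mul_eq_zero.1 h2).resolve_right hγ0
    · exact (mul_eq_zero.1 h3).resolve_right hα0
  -- the projection commutes with isometries preserving its range
  have hcomm : ∀ g g' : End K W, g * g' = 1 → conjEnd g g' D ∈ LinearMap.range f →
      conjEnd g g' H ∈ LinearMap.range f → conjEnd g g' Y ∈ LinearMap.range f →
      Commute (conjEnd g g') f := by
    intro g g' hgg hD' hH' hY'
    set c := conjEnd g g' with hc
    have hcU : ∀ u ∈ LinearMap.range f, c u ∈ LinearMap.range f := by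
      intro u hu
      rw [hrange] at hu
      induction hu using Submodule.span_induction with
      | mem z hz =>
        obtain ⟨i, rfl⟩ := hz
        fin_cases i
        · exact hD'
        · exact hH'
        · exact hY'
      | zero => rw [map_zero]; exact Submodule.zero_mem _
      | add a b _ _ ha hb => rw [map_add]; exact Submodule.add_mem _ ha hb
      | smul k a _ ha => rw [map_smul]; exact Submodule.smul_mem _ k ha
    have hadj : ∀ A B, LinearMap.trace K W (f A * B) = LinearMap.trace K W (A * f B) := by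
      intro A B
      simp only [hfapp, hpr, add_mul, mul_add, smul_mul_assoc, mul_smul_comm, map_add, map_smul,
        smul_eq_mul]
      rw [LinearMap.trace_mul_comm K D B, LinearMap.trace_mul_comm K Y B,
        LinearMap.trace_mul_comm K H B]
      ring
    have hcinj : Function.Injective c := by
      refine Function.LeftInverse.injective (g := conjEnd g' g) fun A => ?_
      simp only [hc, conjEnd_apply]
      have hgg' : g' * g = 1 := mul_eq_one_comm.1 hgg
      simp [mul_assoc, ← mul_assoc g' g, hgg']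
    have hsurj : ∀ u ∈ LinearMap.range f, ∃ w ∈ LinearMap.range f, c w = u := by
      intro u hu
      let c' : End K (LinearMap.range f) := c.restrict hcU
      have hinj : Function.Injective c' := fun a b h =>
        Subtype.ext (hcinj (congrArg Subtype.val h))
      obtain ⟨w, hw⟩ := (LinearMap.injective_iff_surjective.1 hinj) ⟨u, hu⟩
      exact ⟨w, w.2, congrArg Subtype.val hw⟩
    refine LinearMap.ext fun A => ?_
    rw [Module.End.mul_apply, Module.End.mul_apply]
    set d := c (f A) - f (c A) with hd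
    have hdU : d ∈ LinearMap.range f := Submodule.sub_mem _ (hcU _ ⟨A, rfl⟩) ⟨_, rfl⟩
    obtain ⟨d₀, hd₀⟩ := hdU
    have hdd : f d = d := by rw [← hd₀, hff]
    have hperp : ∀ B, LinearMap.trace K W (d * B) = 0 := by
      intro B
      rw [← hdd, hadj]
      obtain ⟨w, ⟨w₀, hw₀⟩, hw⟩ := hsurj (f B) ⟨B, rfl⟩
      rw [hd, sub_mul, map_sub, sub_eq_zero, hadj (c A), hff, ← hw, hc, trace_conjEnd hgg,
        trace_conjEnd hgg, hadj, ← hw₀, hff]
    have h0 : d = 0 := by
      rw [← hdd, hfapp, hpr, hpr, hpr, hperp, hperp, hperp]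
      simp
    exact sub_eq_zero.1 h0
  -- the relations
  have hτ'L : ∀ A B, PolyModel.tau r * A = B * PolyModel.tau r →
      conjEnd τ τ' (L A) = L B := by
    intro A B h
    have hcomm' : τ * L A = L B * τ := LinearMap.ext fun w => by
      rw [Module.End.mul_apply, Module.End.mul_apply, hLapp, hLapp,
        ← LinearMap.comp_apply τ θ, hτθ, LinearMap.comp_apply,
        ← LinearMap.comp_apply Φ τ, hΦτ, LinearMap.comp_apply, ← Module.End.mul_apply, h,
        Module.End.mul_apply]
    rw [conjEnd_apply, hcomm', mul_assoc, hττ', mul_one]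
  have hyL : ∀ (A : End K (degreeLT K r)) (c : K),
      PolyModel.scale r b * A = c • (A * PolyModel.scale r b) →
      conjEnd y y' (L A) = c • L A := by
    intro A c h
    have hcomm' : y * L A = c • (L A * y) := LinearMap.ext fun w => by
      have e1 : ∀ q, θ (PolyModel.scale r b q) = ν • y (θ q) := LinearMap.congr_fun hyθ
      have e2 : ∀ q, PolyModel.scale r b (Φ q) = ν • Φ (y q) := LinearMap.congr_fun hyΦ
      apply smul_right_injective W hν
      show ν • y (θ (A (Φ w))) = ν • (c • θ (A (Φ (y w))))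
      rw [← e1, ← Module.End.mul_apply, h, LinearMap.smul_apply, Module.End.mul_apply, e2,
        map_smul A, map_smul θ, map_smul θ, smul_comm]
    rw [conjEnd_apply, hcomm', smul_mul_assoc, mul_assoc, hyy', mul_one]
  have hmemD : D ∈ LinearMap.range f := ⟨D, hfD⟩
  have hmemH : H ∈ LinearMap.range f := ⟨H, hfH⟩
  have hmemY : Y ∈ LinearMap.range f := ⟨Y, hfY⟩
  have hcD : conjEnd τ τ' D = D := hτ'L _ _ (PolyModel.tau_opD r)
  have hcH : conjEnd τ τ' H = H + (2 : K) • D := by
    rw [hH, hτ'L _ _ (PolyModel.tau_opH r), map_add, map_smul]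
  have hcY : conjEnd τ τ' Y = Y + H + D := by
    rw [hY, hτ'L _ _ (PolyModel.tau_opY r), map_add, map_add]
  refine ⟨f, LinearMap.ext hff, fun A B => ?_, ?_, ?_, ?_, Y, hmemY, ?_⟩
  · simp only [hfapp, hpr, add_mul, mul_add, smul_mul_assoc, mul_smul_comm, map_add, map_smul,
      smul_eq_mul]
    rw [LinearMap.trace_mul_comm K D B, LinearMap.trace_mul_comm K Y B,
      LinearMap.trace_mul_comm K H B]
    ring
  · rw [hrange, finrank_span_eq_card hli, Fintype.card_fin]
  · refine hcomm τ τ' hττ' ?_ ?_ ?_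
    · rw [hcD]; exact hmemD
    · rw [hcH]; exact Submodule.add_mem _ hmemH (Submodule.smul_mem _ _ hmemD)
    · rw [hcY]; exact Submodule.add_mem _ (Submodule.add_mem _ hmemY hmemH) hmemD
  · refine hcomm y y' hyy' ?_ ?_ ?_
    · rw [hD, hyL _ _ (PolyModel.scale_opD r hb)]; exact Submodule.smul_mem _ _ hmemD
    · rw [hH, hyL _ _ (PolyModel.scale_opH r b)]; exact Submodule.smul_mem _ _ hmemH
    · rw [hY, hyL _ _ (PolyModel.scale_opY r b)]; exact Submodule.smul_mem _ _ hmemY
  · intro h
    have h2 : ((conjEnd τ τ' - 1) ^ 2 : End K (End K W)) Y = (2 : K) • D := by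
      have e : ((conjEnd τ τ' - 1) ^ 2 : End K (End K W)) Y =
          conjEnd τ τ' (conjEnd τ τ' Y) - conjEnd τ τ' Y - (conjEnd τ τ' Y - Y) := by
        rw [pow_two, Module.End.mul_apply]
        simp
      rw [e, hcY, map_add, map_add, hcY, hcH, hcD]
      abel
    rw [h2] at h
    have hD0 : D = 0 := (smul_eq_zero.1 h).resolve_left h20
    exact hα0 (by rw [hα, hD0, zero_mul, map_zero])

end Cfsg.Agent.H86.HalfDeg
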