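import Mathlib.RingTheory.Polynomial.DegreeLT
import Mathlib.Algebra.Polynomial.Taylor
import Mathlib.LinearAlgebra.Trace
import Mathlib.Algebra.CharP.Basic
import Mathlib.Data.Nat.Prime.Basic
import Mathlib.Tactic.Ring
import Mathlib.Tactic.LinearCombination

/-!
# The translation module of polynomials of degree less than `r`

With the three operators `D = d/dT`, `H = 2 T D - (r - 1)`, `Y = T ^ 2 D - (r - 1) T`.
-/

set_option autoImplicit false
set_option linter.unusedSectionVars false

namespace Cfsg.Agent.H86.HalfDeg.PolyModel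

open Module Polynomial

variable {K : Type*} [Field K]

/-- Translation by one. -/
noncomputable def tauP : End K K[X] := taylor (1 : K)

/-- Scaling by `b`. -/
noncomputable def scaleP (b : K) : End K K[X] := (aeval (C b * X : K[X])).toLinearMap

/-- The derivative. -/
noncomputable def dP : End K K[X] := derivative

/-- `2 T D - c`. -/
noncomputable def hP (c : K) : End K K[X] :=
  (2 : K) • (LinearMap.mulLeft K (X : K[X])).comp derivative - c • 1

/-- `T ^ 2 D - c T`. -/
noncomputable def yP (c : K) : End K K[X] :=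
  (LinearMap.mulLeft K (X ^ 2 : K[X])).comp derivative - c • LinearMap.mulLeft K (X : K[X])

theorem tauP_apply (f : K[X]) : tauP f = f.comp (X + 1) := by
  rw [tauP, taylor_apply, map_one]

theorem scaleP_apply (b : K) (f : K[X]) : scaleP b f = f.comp (C b * X) := rfl

theorem hP_apply (c : K) (f : K[X]) :
    hP c f = C 2 * (X * derivative f) - C c * f := by
  simp [hP, smul_eq_C_mul]

theorem yP_apply (c : K) (f : K[X]) :
    yP c f = X ^ 2 * derivative f - C c * (X * f) := by
  simp [yP, smul_eq_C_mul]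

theorem derivative_tau (f : K[X]) :
    derivative (f.comp (X + 1)) = (derivative f).comp (X + 1) := by
  rw [derivative_comp, derivative_add, derivative_X, derivative_one, add_zero, one_mul]

theorem tau_dP (f : K[X]) : tauP (dP f) = dP (tauP f) := by
  simp only [tauP_apply, dP, derivative_tau]

theorem tau_hP (c : K) (f : K[X]) :
    tauP (hP c f) = hP c (tauP f) + (2 : K) • dP (tauP f) := by
  simp only [tauP_apply, hP_apply, dP, derivative_tau, mul_comp, sub_comp, C_comp, X_comp,
    smul_eq_C_mul]
  ring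

theorem tau_yP (c : K) (f : K[X]) :
    tauP (yP c f) = yP c (tauP f) + hP c (tauP f) + dP (tauP f) := by
  simp only [tauP_apply, yP_apply, hP_apply, dP, derivative_tau, mul_comp, sub_comp, C_comp,
    X_comp, pow_comp]
  rw [show (C (2 : K) : K[X]) = 2 by rw [map_ofNat]]
  ring

theorem tauP_pow (n : ℕ) (f : K[X]) : (tauP ^ n) f = f.comp (X + C (n : K)) := by
  induction n with
  | zero => simp
  | succ n ih =>
    rw [pow_succ', Module.End.mul_apply, ih, tauP_apply, comp_assoc]
    congr 1
    simp only [add_comp, X_comp, C_comp, Nat.cast_succ, map_add, map_one]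
    ring

theorem scale_tau {b : K} {a : ℕ} (hab : b * a = 1) (f : K[X]) :
    scaleP b (tauP f) = (tauP ^ a) (scaleP b f) := by
  rw [tauP_pow, scaleP_apply, scaleP_apply, tauP_apply, comp_assoc, comp_assoc]
  congr 1
  simp only [add_comp, X_comp, one_comp, mul_comp, C_comp, mul_add, ← C_mul, hab, map_one]

theorem derivative_scale (b : K) (f : K[X]) :
    derivative (f.comp (C b * X)) = C b * (derivative f).comp (C b * X) := by
  rw [derivative_comp, derivative_mul, derivative_C, derivative_X, zero_mul, zero_add, mul_one]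

theorem scale_dP {b : K} (hb : b ≠ 0) (f : K[X]) :
    scaleP b (dP f) = b⁻¹ • dP (scaleP b f) := by
  simp only [scaleP_apply, dP, derivative_scale, smul_eq_C_mul, ← mul_assoc, ← C_mul,
    inv_mul_cancel₀ hb, map_one, one_mul]

theorem scale_hP (b c : K) (f : K[X]) : scaleP b (hP c f) = hP c (scaleP b f) := by
  simp only [scaleP_apply, hP_apply, derivative_scale, mul_comp, sub_comp, C_comp, X_comp]
  ring

theorem scale_yP (b c : K) (f : K[X]) : scaleP b (yP c f) = b • yP c (scaleP b f) := by
  simp only [scaleP_apply, yP_apply, derivative_scale, mul_comp, sub_comp, C_comp, X_comp,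
    pow_comp, smul_eq_C_mul]
  ring

/-- Degree bounded by `m` in terms of coefficients. -/
theorem mem_iff (m : ℕ) (f : K[X]) : f ∈ degreeLT K m ↔ ∀ i, m ≤ i → f.coeff i = 0 := by
  rw [mem_degreeLT, degree_lt_iff_coeff_zero]

theorem coeff_dP (f : K[X]) (i : ℕ) : (dP f).coeff i = f.coeff (i + 1) * ((i : K) + 1) := by
  rw [dP, coeff_derivative]

theorem coeff_X_mul_derivative (f : K[X]) (i : ℕ) :
    (X * derivative f).coeff i = (i : K) * f.coeff i := by
  rcases i with _ | i
  · simp
  · rw [coeff_X_mul, coeff_derivative, Nat.cast_succ, mul_comm]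

theorem coeff_hP (c : K) (f : K[X]) (i : ℕ) :
    (hP c f).coeff i = (2 * (i : K) - c) * f.coeff i := by
  rw [hP_apply, coeff_sub, coeff_C_mul, coeff_C_mul, coeff_X_mul_derivative]
  ring

theorem coeff_yP_succ (c : K) (f : K[X]) (i : ℕ) :
    (yP c f).coeff (i + 1) = ((i : K) - c) * f.coeff i := by
  rw [yP_apply, coeff_sub, coeff_C_mul, pow_two, mul_assoc, coeff_X_mul, coeff_X_mul,
    coeff_X_mul_derivative]
  ring

theorem coeff_yP_zero (c : K) (f : K[X]) : (yP c f).coeff 0 = 0 := by
  simp [yP_apply]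

variable (r : ℕ)

theorem tau_mem {f : K[X]} (hf : f ∈ degreeLT K r) : tauP f ∈ degreeLT K r := by
  rw [mem_degreeLT, tauP, degree_taylor] at *
  exact hf

theorem scale_mem (b : K) {f : K[X]} (hf : f ∈ degreeLT K r) : scaleP b f ∈ degreeLT K r := by
  rw [mem_iff] at *
  intro i hi
  rw [scaleP_apply, comp_C_mul_X_coeff, hf i hi, zero_mul]

theorem dP_mem {f : K[X]} (hf : f ∈ degreeLT K r) : dP f ∈ degreeLT K r := by
  rw [mem_iff] at *
  intro i hi
  rw [coeff_dP, hf _ (by omega), zero_mul]

theorem hP_mem (c : K) {f : K[X]} (hf : f ∈ degreeLT K r) : hP c f ∈ degreeLT K r := by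
  rw [mem_iff] at *
  intro i hi
  rw [coeff_hP, hf i hi, mul_zero]

theorem yP_mem {f : K[X]} (hf : f ∈ degreeLT K r) :
    yP ((r : K) - 1) f ∈ degreeLT K r := by
  rw [mem_iff] at *
  intro i hi
  rcases i with _ | i
  · exact coeff_yP_zero _ _
  · rw [coeff_yP_succ]
    rcases (show i + 1 = r ∨ r ≤ i by omega) with h | h
    · rw [← h, Nat.cast_succ]; ring
    · rw [hf i h, mul_zero]

/-- Translation on the model. -/
noncomputable def tau : End K (degreeLT K r) := tauP.restrict fun _ h => tau_mem r h

/-- Scaling on the model. -/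
noncomputable def scale (b : K) : End K (degreeLT K r) :=
  (scaleP b).restrict fun _ h => scale_mem r b h

/-- Derivative on the model. -/
noncomputable def opD : End K (degreeLT K r) := dP.restrict fun _ h => dP_mem r h

/-- The diagonal operator on the model. -/
noncomputable def opH : End K (degreeLT K r) :=
  (hP ((r : K) - 1)).restrict fun _ h => hP_mem r _ h

/-- The raising operator on the model. -/
noncomputable def opY : End K (degreeLT K r) :=
  (yP ((r : K) - 1)).restrict fun _ h => yP_mem r h

theorem coe_tau (f : degreeLT K r) : (tau r f : K[X]) = tauP (f : K[X]) := rfl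
theorem coe_scale (b : K) (f : degreeLT K r) : (scale r b f : K[X]) = scaleP b (f : K[X]) := rfl
theorem coe_opD (f : degreeLT K r) : (opD r f : K[X]) = dP (f : K[X]) := rfl
theorem coe_opH (f : degreeLT K r) : (opH r f : K[X]) = hP ((r : K) - 1) (f : K[X]) := rfl
theorem coe_opY (f : degreeLT K r) : (opY r f : K[X]) = yP ((r : K) - 1) (f : K[X]) := rfl

theorem coe_tau_pow (n : ℕ) (f : degreeLT K r) :
    ((tau r ^ n) f : K[X]) = (tauP ^ n) (f : K[X]) := by
  induction n with
  | zero => rfl
  | succ n ih => rw [pow_succ', pow_succ', Module.End.mul_apply, Module.End.mul_apply, coe_tau, ih]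

theorem tau_opD : tau (K := K) r * opD r = opD r * tau r :=
  LinearMap.ext fun f => Subtype.ext (tau_dP _)

theorem tau_opH : tau (K := K) r * opH r = (opH r + (2 : K) • opD r) * tau r :=
  LinearMap.ext fun f => Subtype.ext (tau_hP _ _)

theorem tau_opY : tau (K := K) r * opY r = (opY r + opH r + opD r) * tau r :=
  LinearMap.ext fun f => Subtype.ext (tau_yP _ _)

theorem scale_tau' {b : K} {a : ℕ} (hab : b * a = 1) :
    scale r b * tau r = tau r ^ a * scale r b :=
  LinearMap.ext fun f => Subtype.ext (by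
    rw [Module.End.mul_apply, Module.End.mul_apply, coe_tau_pow]
    exact scale_tau hab _)

theorem scale_opD {b : K} (hb : b ≠ 0) : scale r b * opD r = b⁻¹ • (opD r * scale r b) :=
  LinearMap.ext fun f => Subtype.ext (scale_dP hb _)

theorem scale_opH (b : K) : scale r b * opH r = (1 : K) • (opH r * scale r b) := by
  rw [one_smul]
  exact LinearMap.ext fun f => Subtype.ext (scale_hP b _ _)

theorem scale_opY (b : K) : scale r b * opY r = b • (opY r * scale r b) :=
  LinearMap.ext fun f => Subtype.ext (scale_yP b _ _)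

/-! ### Traces -/

theorem trace_eq_sum (A : End K (degreeLT K r)) :
    LinearMap.trace K _ A =
      ∑ i : Fin r, (A (degreeLT.basis K r i) : K[X]).coeff i := by
  rw [LinearMap.trace_eq_matrix_trace K (degreeLT.basis K r), Matrix.trace]
  simp [LinearMap.toMatrix_apply]

theorem basis_coeff (i : Fin r) (j : ℕ) :
    ((degreeLT.basis K r i : degreeLT K r) : K[X]).coeff j = if j = i then 1 else 0 := by
  rw [degreeLT.basis_val, coeff_X_pow]

theorem trace_DD : LinearMap.trace K _ (opD (K := K) r * opD r) = 0 := by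
  rw [trace_eq_sum]
  refine Finset.sum_eq_zero fun i _ => ?_
  rw [Module.End.mul_apply, coe_opD, coe_opD, coeff_dP, coeff_dP, basis_coeff,
    if_neg (by omega)]
  simp

theorem trace_YY : LinearMap.trace K _ (opY (K := K) r * opY r) = 0 := by
  rw [trace_eq_sum]
  refine Finset.sum_eq_zero fun i _ => ?_
  rw [Module.End.mul_apply, coe_opY, coe_opY]
  rcases hi : (i : ℕ) with _ | j
  · exact coeff_yP_zero _ _
  · rw [coeff_yP_succ]
    rcases j with _ | k
    · rw [coeff_yP_zero, mul_zero]
    · rw [coeff_yP_succ, basis_coeff, if_neg (by omega)]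
      simp

theorem trace_DH : LinearMap.trace K _ (opD (K := K) r * opH r) = 0 := by
  rw [trace_eq_sum]
  refine Finset.sum_eq_zero fun i _ => ?_
  rw [Module.End.mul_apply, coe_opD, coe_opH, coeff_dP, coeff_hP, basis_coeff,
    if_neg (by omega)]
  simp

theorem trace_HY : LinearMap.trace K _ (opH (K := K) r * opY r) = 0 := by
  rw [trace_eq_sum]
  refine Finset.sum_eq_zero fun i _ => ?_
  rw [Module.End.mul_apply, coe_opH, coe_opY, coeff_hP]
  rcases hi : (i : ℕ) with _ | j
  · rw [coeff_yP_zero, mul_zero]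
  · rw [coeff_yP_succ, basis_coeff, if_neg (by omega)]
    simp

theorem sum_cast_dy (c : K) (m : ℕ) :
    6 * ∑ i ∈ Finset.range m, ((i : K) - c) * ((i : K) + 1) =
      2 * ((m : K) - 1) * m * (m + 1) - 3 * c * m * (m + 1) := by
  induction m with
  | zero => simp
  | succ m ih =>
    rw [Finset.sum_range_succ, mul_add, ih]
    push_cast
    ring

theorem sum_cast_hh (c : K) (m : ℕ) :
    3 * ∑ i ∈ Finset.range m, (2 * (i : K) - c) * (2 * (i : K) - c) =
      2 * ((m : K) - 1) * m * (2 * m - 1) - 6 * c * m * ((m : K) - 1) + 3 * c ^ 2 * m := by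
  induction m with
  | zero => simp
  | succ m ih =>
    rw [Finset.sum_range_succ, mul_add, ih]
    push_cast
    ring

theorem trace_DY : 6 * LinearMap.trace K _ (opD (K := K) r * opY r) =
    -(((r : K) - 1) * r * (r + 1)) := by
  rw [trace_eq_sum]
  have h : ∀ i : Fin r, ((opD r * opY r : End K (degreeLT K r)) (degreeLT.basis K r i) : K[X]).coeff i =
      (((i : ℕ) : K) - ((r : K) - 1)) * (((i : ℕ) : K) + 1) := fun i => by
    rw [Module.End.mul_apply, coe_opD, coe_opY, coeff_dP, coeff_yP_succ, basis_coeff, if_pos rfl,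
      mul_one]
  simp only [h]
  rw [Fin.sum_univ_eq_sum_range (fun i => ((i : K) - ((r : K) - 1)) * ((i : K) + 1)), sum_cast_dy]
  ring

theorem trace_HH : 3 * LinearMap.trace K _ (opH (K := K) r * opH r) =
    ((r : K) - 1) * r * (r + 1) := by
  rw [trace_eq_sum]
  have h : ∀ i : Fin r, ((opH r * opH r : End K (degreeLT K r)) (degreeLT.basis K r i) : K[X]).coeff i =
      (2 * ((i : ℕ) : K) - ((r : K) - 1)) * (2 * ((i : ℕ) : K) - ((r : K) - 1)) := fun i => by
    rw [Module.End.mul_apply, coe_opH, coe_opH, coeff_hP, coeff_hP, basis_coeff, if_pos rfl,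
      mul_one]
  simp only [h]
  rw [Fin.sum_univ_eq_sum_range
    (fun i => (2 * (i : K) - ((r : K) - 1)) * (2 * (i : K) - ((r : K) - 1))), sum_cast_hh]
  ring

theorem cast_ne_zero {p : ℕ} [hp : Fact p.Prime] [CharP K p] {m : ℕ} (h1 : 0 < m) (h2 : m < p) :
    (m : K) ≠ 0 := by
  rw [Ne, CharP.cast_eq_zero_iff K p]
  exact fun h => absurd (Nat.le_of_dvd h1 h) (by omega)

/-- `6 * tr (D Y) ≠ 0` when `2 ≤ r` and `r + 1 < p`. -/
theorem prod_ne_zero {p : ℕ} [hp : Fact p.Prime] [CharP K p] (h2 : 2 ≤ r) (hr : r + 1 < p) :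
    ((r : K) - 1) * r * (r + 1) ≠ 0 := by
  obtain ⟨s, rfl⟩ : ∃ s, r = s + 1 := ⟨r - 1, by omega⟩
  refine mul_ne_zero (mul_ne_zero ?_ ?_) ?_
  · push_cast
    rw [add_sub_cancel_right]
    exact cast_ne_zero (p := p) (by omega) (by omega)
  · exact cast_ne_zero (p := p) (by omega) (by omega)
  · rw [← Nat.cast_add_one]
    exact cast_ne_zero (p := p) (by omega) hr

/-! ### The cyclic vector -/

theorem coeff_tauP {m : ℕ} {f : K[X]} (hf : f ∈ degreeLT K m) (k : ℕ) :
    (tauP f).coeff k = ∑ i ∈ Finset.range m, f.coeff i * (i.choose k : K) := by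
  have hf' : f = ∑ i ∈ Finset.range m, C (f.coeff i) * X ^ i := by
    ext j
    rw [finsetSum_coeff]
    simp only [coeff_C_mul, coeff_X_pow, mul_ite, mul_one, mul_zero, Finset.sum_ite_eq,
      Finset.mem_range]
    split_ifs with h
    · rfl
    · exact (mem_iff m f).1 hf j (by omega)
  conv_lhs => rw [hf']
  rw [map_sum, finsetSum_coeff]
  refine Finset.sum_congr rfl fun i _ => ?_
  rw [tauP_apply, mul_comp, C_comp, X_pow_comp, coeff_C_mul, coeff_X_add_one_pow]

theorem delta_mem {m : ℕ} {f : K[X]} (hf : f ∈ degreeLT K (m + 1)) :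
    (tauP - 1) f ∈ degreeLT K m := by
  rw [mem_iff]
  intro k hk
  rw [LinearMap.sub_apply, Module.End.one_apply, coeff_sub, coeff_tauP hf]
  rcases (show k = m ∨ m + 1 ≤ k by omega) with rfl | hk'
  · rw [Finset.sum_range_succ, Finset.sum_eq_zero fun i hi => by
      rw [Nat.choose_eq_zero_of_lt (Finset.mem_range.1 hi), Nat.cast_zero, mul_zero]]
    simp
  · rw [(mem_iff _ _).1 hf k hk', Finset.sum_eq_zero fun i hi => by
      rw [Nat.choose_eq_zero_of_lt (by have := Finset.mem_range.1 hi; omega), Nat.cast_zero,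
        mul_zero]]
    simp

theorem coeff_delta {m : ℕ} {f : K[X]} (hf : f ∈ degreeLT K (m + 2)) :
    ((tauP - 1) f).coeff m = ((m : K) + 1) * f.coeff (m + 1) := by
  rw [LinearMap.sub_apply, Module.End.one_apply, coeff_sub, coeff_tauP hf, Finset.sum_range_succ,
    Finset.sum_range_succ, Finset.sum_eq_zero fun i hi => by
      rw [Nat.choose_eq_zero_of_lt (Finset.mem_range.1 hi), Nat.cast_zero, mul_zero]]
  rw [Nat.choose_self, Nat.choose_succ_self_right]
  push_cast
  ring

theorem delta_pow (m : ℕ) (f : K[X]) (hf : f ∈ degreeLT K (m + 1)) :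
    ((tauP - 1) ^ m : End K K[X]) f = C ((m.factorial : K) * f.coeff m) ∧
      ((tauP - 1) ^ (m + 1) : End K K[X]) f = 0 := by
  induction m generalizing f with
  | zero =>
    have hf0 : f = C (f.coeff 0) := by
      ext j
      rcases j with _ | j
      · simp
      · rw [(mem_iff _ _).1 hf _ (by omega), coeff_C, if_neg (by omega)]
    refine ⟨by simpa using hf0, ?_⟩
    rw [pow_one, hf0, LinearMap.sub_apply, Module.End.one_apply, tauP_apply, C_comp, sub_self]
  | succ m ih =>
    obtain ⟨h1, h2⟩ := ih _ (delta_mem hf)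
    refine ⟨?_, ?_⟩
    · rw [pow_succ, Module.End.mul_apply, h1, coeff_delta hf, Nat.factorial_succ]
      push_cast
      congr 1
      ring
    · rw [pow_succ, Module.End.mul_apply, h2]

end Cfsg.Agent.H86.HalfDeg.PolyModel
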