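import Cfsg.Agent.H86.HalfDeg.Kernels
import Cfsg.Agent.H86.HalfDeg.Kills
import Cfsg.Agent.H86.HalfDeg.Piece
import Cfsg.Agent.H86.HalfDeg.Conic
import Cfsg.Agent.H86.FewSylowDegrees
import Mathlib.FieldTheory.IsAlgClosed.AlgebraicClosure
import Mathlib.LinearAlgebra.Matrix.Trace

/-!
# The three-dimensional orthogonal representation in characteristic `p`
-/

set_option autoImplicit false
set_option linter.unusedSectionVars false
set_option linter.style.haveILetI false

namespace Cfsg.Agent.H86.HalfDeg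

open Module H81 CharBasic

universe u

section Conj

variable {H : Type*} [Group H] [Finite H] {p : ℕ} [hp : Fact p.Prime]

/-- Two elements of order `p` in the same cyclic group generate it. -/
theorem zpowers_eq {x y : H} (hy : y ∈ Subgroup.zpowers x) (hx : orderOf x = p)
    (hyo : orderOf y = p) : Subgroup.zpowers y = Subgroup.zpowers x :=
  Subgroup.eq_of_le_of_card_ge (Subgroup.zpowers_le.2 hy)
    (by rw [Nat.card_zpowers, Nat.card_zpowers, hx, hyo])

/-- The Sylow subgroup through an element of order `p`. -/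
theorem sylow_eq_zpowers (hsq : ¬ p ^ 2 ∣ Nat.card H) {Q : Sylow p H} {z : H}
    (hz : orderOf z = p) (hzQ : z ∈ Q) : (Q : Subgroup H) = Subgroup.zpowers z := by
  symm
  refine Subgroup.eq_of_le_of_card_ge (Subgroup.zpowers_le.2 hzQ) ?_
  rw [Nat.card_zpowers, hz, Q.card_eq_multiplicity]
  have : (Nat.card H).factorization p ≤ 1 := by
    by_contra hc
    exact hsq ((hp.out.pow_dvd_iff_le_factorization Nat.card_pos.ne').2 (by omega))
  exact (Nat.pow_le_pow_right hp.out.pos this).trans (pow_one p).le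

/-- All elements of order `p` are conjugate into `⟨x⟩`. -/
theorem exists_conj_pow (hsq : ¬ p ^ 2 ∣ Nat.card H) {x y : H} (hx : orderOf x = p)
    (hy : orderOf y = p) : ∃ k : H, k * y * k⁻¹ ∈ Subgroup.zpowers x := by
  have hP : ∀ z : H, orderOf z = p → IsPGroup p (Subgroup.zpowers z) := fun z hz =>
    IsPGroup.of_card (n := 1) (by rw [Nat.card_zpowers, hz, pow_one])
  obtain ⟨Q₁, hQ₁⟩ := (hP x hx).exists_le_sylow
  obtain ⟨Q₂, hQ₂⟩ := (hP y hy).exists_le_sylow
  obtain ⟨k, hk⟩ := MulAction.exists_smul_eq H Q₂ Q₁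
  refine ⟨k, ?_⟩
  rw [← sylow_eq_zpowers hsq hx (hQ₁ (Subgroup.mem_zpowers x))]
  exact hk ▸ ⟨y, hQ₂ (Subgroup.mem_zpowers y), rfl⟩

/-- A normal subgroup of order divisible by `p` contains every element of order `p`. -/
theorem mem_of_dvd_card (hsq : ¬ p ^ 2 ∣ Nat.card H) {x : H} (hx : orderOf x = p) (M : Subgroup H)
    [M.Normal] (hd : p ∣ Nat.card M) : x ∈ M := by
  obtain ⟨y, hy⟩ := exists_prime_orderOf_dvd_card' p hd
  have hyo : orderOf (y : H) = p := by rw [Subgroup.orderOf_coe, hy]
  obtain ⟨k, hk⟩ := exists_conj_pow hsq hx hyo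
  have h1 : k * (y : H) * k⁻¹ ∈ M := (inferInstance : M.Normal).conj_mem _ y.2 k
  have h2 := zpowers_eq hk hx (((MulAut.conj k).orderOf_eq (y : H)).trans hyo)
  exact (Subgroup.zpowers_le.2 h1) (h2 ▸ Subgroup.mem_zpowers x)

end Conj

section Kernel

/-- An integral matrix of order prime to `p` reducing to `1` is `1`. -/
theorem eq_one_of_reduce {R K : Type*} [CommRing R] [Field K] (q : R →+* K)
    (hunit : ∀ a, q a ≠ 0 → IsUnit a) {n m : ℕ} (M : Matrix (Fin n) (Fin n) R) (hm : (m : K) ≠ 0)
    (hM : M ^ m = 1) (hq : q.mapMatrix M = 1) : M = 1 := by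
  set S := ∑ i ∈ Finset.range m, M ^ i with hS
  have hmul : S * (M - 1) = 0 := by rw [hS, geom_sum_mul, hM, sub_self]
  have hqS : q.mapMatrix S = (m : K) • 1 := by
    rw [hS, map_sum]
    simp only [map_pow, hq, one_pow, Finset.sum_const, Finset.card_range, Nat.cast_smul_eq_nsmul]
  have hdet : IsUnit S.det := hunit _ (by
    rw [RingHom.map_det, hqS, Matrix.det_smul, Matrix.det_one, mul_one]
    exact pow_ne_zero _ hm)
  exact sub_eq_zero.1 (((Matrix.isUnit_iff_isUnit_det S).2 hdet).mul_right_eq_zero.1 hmul)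

/-- A unipotent of order `p` on a space of dimension three. -/
theorem cube_eq_zero {K R : Type*} [Field K] [AddCommGroup R] [Module K R] {p : ℕ}
    [Fact p.Prime] [CharP K p] (hdim : finrank K R = 3) {u : End K R} (hu : u ^ p = 1) :
    (u - 1) ^ 3 = 0 := by
  haveI : FiniteDimensional K R := Module.finite_of_finrank_eq_succ hdim
  let b := Module.finBasisOfFinrankEq K R hdim
  apply (LinearMap.toMatrixAlgEquiv b).injective
  rw [map_pow, map_sub, map_one, map_zero]
  exact sub_one_pow_card_eq_zero (p := p) _ (by rw [← map_pow, hu, map_one])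

/-- The square of `u - 1`. -/
theorem sq_sub_one_apply {K R : Type*} [Field K] [AddCommGroup R] [Module K R] (u : End K R)
    (v : R) : ((u - 1) ^ 2 : End K R) v = u (u v) - u v - (u v - v) := by
  rw [pow_two]
  show u (u v - v) - (u v - v) = _
  rw [map_sub]

/-- Transfer of the square of `u - 1` through an equivariant isomorphism. -/
theorem sq_transfer {K A B : Type*} [Field K] [AddCommGroup A] [Module K A] [AddCommGroup B]
    [Module K B] (j : A ≃ₗ[K] B) (S : A → A) (u : End K B) (hS : ∀ v, j (S v) = u (j v))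
    (h : (u - 1) ^ 2 = 0) (v : A) : S (S v) - S v - (S v - v) = 0 := by
  apply j.injective
  rw [map_sub, map_sub, map_sub, hS, hS, map_zero, ← sq_sub_one_apply, h, LinearMap.zero_apply]

end Kernel

/-- Conjugation on endomorphisms. -/
noncomputable def conjRep {G K W : Type*} [Group G] [Field K] [IsAlgClosed K]
    [AddCommGroup W] [Module K W] [FiniteDimensional K W]
    (r : G →* End K W) : Representation K G (End K W) where
  toFun g := conjEnd (r g) (r g⁻¹)
  map_one' := LinearMap.ext fun A => by simp [conjEnd_apply]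
  map_mul' g h := LinearMap.ext fun A => by
    simp only [conjEnd_apply, Module.End.mul_apply, map_mul, _root_.mul_inv_rev, mul_assoc]

theorem conjRep_apply {G K W : Type*} [Group G] [Field K] [IsAlgClosed K]
    [AddCommGroup W] [Module K W] [FiniteDimensional K W]
    (r : G →* End K W) (g : G) (A : End K W) : conjRep r g A = r g * A * r g⁻¹ :=
  conjEnd_apply _ _ _

/-- The orthogonal model. -/
structure Model (G : Type u) [Group G] (p : ℕ) (x : G) where
  /-- the field -/
  K : Type
  [field : Field K]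
  [closed : IsAlgClosed K]
  [char : CharP K p]
  /-- the space -/
  R : Type
  [grp : AddCommGroup R]
  [mod : Module K R]
  /-- the form -/
  β : R →ₗ[K] R →ₗ[K] K
  /-- the action -/
  π : G →* End K R
  symm : ∀ a b, β a b = β b a
  nd : ∀ a, (∀ b, β a b = 0) → a = 0
  dim : finrank K R = 3
  iso : ∀ g a b, β (π g a) (π g b) = β a b
  det : ∀ g, LinearMap.det (π g) = 1
  regular : (π x - 1) ^ 2 ≠ 0

attribute [instance] Model.field Model.closed Model.char Model.grp Model.mod

variable {G : Type u} [Group G] [Finite G] {p : ℕ} [hp : Fact p.Prime] {n : ℕ}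
variable {ρ : Representation ℂ G (Fin n → ℂ)} {x : G}

/-- Reduction of the representation. -/
theorem exists_reduction (h : Hyp ρ p x) :
    ∃ (K : Type) (_ : Field K) (_ : IsAlgClosed K) (_ : CharP K p)
      (r : G →* End K (Fin n → K)), r x ≠ 1 ∧
      (∀ g, g ^ p = 1 → (r g - 1) ^ n = 0) ∧
      ∀ z ∈ Subgroup.center G, ∃ c : K, r z = c • 1 := by
  classical
  haveI := h.irr
  obtain ⟨A, hA⟩ := H84.exists_valuationSubring p
  haveI := charP_residue A hp.out hA
  obtain ⟨φ, E, hE⟩ := exists_integral_form A ρ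
  let k := IsLocalRing.ResidueField A
  let K := AlgebraicClosure k
  haveI : CharP K p := charP_of_injective_algebraMap (algebraMap k K).injective p
  let q : A →+* K := (algebraMap k K).comp (IsLocalRing.residue A)
  have hunit : ∀ a, q a ≠ 0 → IsUnit a := fun a ha => by
    by_contra hu
    refine ha ?_
    show algebraMap k K (IsLocalRing.residue A a) = 0
    rw [(IsLocalRing.residue_eq_zero_iff a).2 ((IsLocalRing.mem_maximalIdeal a).2 hu), map_zero]
  let r₀ : G →* Matrix (Fin n) (Fin n) K := q.mapMatrix.toMonoidHom.comp φ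
  let T : Matrix (Fin n) (Fin n) K ≃ₐ[K] End K (Fin n → K) := Matrix.toLinAlgEquiv'
  let r : G →* End K (Fin n → K) := T.toMulEquiv.toMonoidHom.comp r₀
  have hr : ∀ g, r g = T (r₀ g) := fun g => rfl
  have hφinj : ∀ g, φ g = 1 → g = 1 := fun g hg => h.inj (by
    rw [map_one]
    refine LinearMap.ext fun v => E.injective ?_
    rw [← hE, hg]
    simp)
  -- the kernel is a `p`-group
  have hker : ∀ g, r₀ g = 1 → ¬ p ∣ orderOf g → g = 1 := fun g hg ho => hφinj g <|
    eq_one_of_reduce q hunit (φ g) (m := orderOf g)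
      (by rwa [Ne, CharP.cast_eq_zero_iff K p])
      (by rw [← map_pow, pow_orderOf_eq_one, map_one]) hg
  refine ⟨K, inferInstance, inferInstance, inferInstance, r, ?_, fun g hg => ?_, fun z hz => ?_⟩
  · intro hx
    have hxM : x ∈ r₀.ker := T.injective (by rw [← hr, hx, map_one])
    have htop := h.gen r₀.ker inferInstance hxM
    have hpG : IsPGroup p G := by
      intro g
      obtain ⟨a, b, hb, hab⟩ := Nat.exists_eq_pow_mul_and_not_dvd (orderOf_pos g).ne' p hp.out.ne_one
      refine ⟨a, hker _ (MonoidHom.mem_ker.1 (htop ▸ Subgroup.mem_top _)) ?_⟩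
      rw [orderOf_pow_of_dvd (pow_ne_zero _ hp.out.ne_zero) (hab ▸ dvd_mul_right _ _), hab,
        Nat.mul_div_cancel_left _ (pow_pos hp.out.pos a)]
      exact hb
    obtain ⟨a, ha⟩ := IsPGroup.iff_card.1 hpG
    have hle : a ≤ 1 := by
      by_contra hc
      exact h.sq (ha ▸ pow_dvd_pow p (by omega))
    have hxG : Subgroup.zpowers x = ⊤ := Subgroup.eq_top_of_le_card _ (by
      rw [Nat.card_zpowers, h.order, ha]
      exact (Nat.pow_le_pow_right hp.out.pos hle).trans (pow_one p).le)
    refine not_mem_center ρ h.two_le h.gen (Subgroup.mem_center_iff.2 fun g => ?_)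
    obtain ⟨i, rfl⟩ := Subgroup.mem_zpowers_iff.1 (hxG ▸ Subgroup.mem_top g)
    exact ((Commute.refl x).zpow_left i).eq
  · rw [hr, ← map_one T, ← map_sub, ← map_pow,
      sub_one_pow_card_eq_zero (p := p) _ (by rw [← map_pow, hg, map_one]), map_zero]
  · obtain ⟨c, hc⟩ := CharBasic.schur_scalar ρ (ρ z) fun g => by
      rw [← map_mul, ← map_mul, Subgroup.mem_center_iff.1 hz g]
    have hn : 0 < n := by have := h.two_le; omega
    have hmat : ∀ i j, ((φ z i j : A) : ℂ) = if i = j then c else 0 := by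
      have hM : (φ z).map (fun a => (a : ℂ)) = c • (1 : Matrix (Fin n) (Fin n) ℂ) := by
        refine Matrix.toLin'.injective (LinearMap.ext fun v => ?_)
        obtain ⟨w, rfl⟩ := E.surjective v
        rw [Matrix.toLin'_apply, hE, hc, Matrix.toLin'_apply, Matrix.smul_mulVec,
          Matrix.one_mulVec, LinearMap.smul_apply, LinearMap.id_apply, map_smul]
      intro i j
      have := congrFun (congrFun hM i) j
      simpa [Matrix.one_apply] using this
    set c₀ : A := φ z ⟨0, hn⟩ ⟨0, hn⟩
    refine ⟨q c₀, ?_⟩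
    have h0 : φ z = c₀ • 1 := by
      ext i j
      have h00 : (c₀ : ℂ) = c := by rw [hmat]; simp
      rw [hmat]
      rcases eq_or_ne i j with rfl | hij
      · simp [h00]
      · simp [hij]
    rw [hr, show r₀ z = q c₀ • 1 from ?_, map_smul, map_one]
    show q.mapMatrix (φ z) = _
    rw [h0]
    ext i j
    rcases eq_or_ne i j with rfl | hij
    · simp
    · simp [hij]

/-- The model exists. -/
theorem exists_model (h : Hyp ρ p x) :
    ∃ M : Model G p x, ∀ z ∈ Subgroup.center G, M.π z = 1 := by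
  classical
  cases nonempty_fintype G
  haveI := h.irr
  obtain ⟨K, _, _, _, r, hτ1, hnil, hscal⟩ := exists_reduction h
  have hrinv : ∀ g, r g * r g⁻¹ = 1 := fun g => by rw [← map_mul, mul_inv_cancel, map_one]
  have hn2 := h.two_le
  have hpn := h.hpn
  set σ := conjRep r with hσ
  have hσZ : ∀ z ∈ Subgroup.center G, σ z = 1 := fun z hz => LinearMap.ext fun A => by
    obtain ⟨c, hc⟩ := hscal z hz
    rw [hσ, conjRep_apply, hc, smul_one_mul, smul_mul_assoc, ← mul_smul_comm, ← smul_one_mul c,
      ← hc, hrinv, mul_one]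
    rfl
  -- nilpotency index
  have hxp : x ^ p = 1 := by rw [← h.order, pow_orderOf_eq_one]
  set τ := r x with hτdef
  have hex : ∃ k, (τ - 1) ^ k = 0 := ⟨n, hnil x hxp⟩
  obtain ⟨s, hs⟩ : ∃ s, Nat.find hex = s + 1 := by
    rcases Nat.eq_zero_or_pos (Nat.find hex) with h0 | h0
    · exfalso
      have h1 := Nat.find_spec hex
      rw [h0, pow_zero] at h1
      exact hτ1 (sub_eq_zero.1 (by rw [← mul_one (τ - 1), h1, mul_zero]))
    · exact ⟨Nat.find hex - 1, by omega⟩
  have hs0 : (τ - 1) ^ (s + 1) = 0 := hs ▸ Nat.find_spec hex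
  have hs' : (τ - 1) ^ s ≠ 0 := Nat.find_min hex (by omega)
  have hs1 : 1 ≤ s := by
    by_contra hc
    rw [show s = 0 by omega, zero_add, pow_one, sub_eq_zero] at hs0
    exact hτ1 hs0
  have hsn : s + 1 ≤ n := hs ▸ Nat.find_min' hex (hnil x hxp)
  -- the normalizer
  obtain ⟨O, t, e, D, hfull⟩ := exists_data_full h.sq x h.order
  have hO : ∀ o ∈ O, o ∈ Subgroup.center G := fun o ho => by
    obtain ⟨c, hc⟩ := scalar_O ρ h.two_le h.hpn h.inj D h.gen ho
    exact mem_center_of_scalar ρ h.inj hc
  obtain ⟨a, ha⟩ := mem_powers_iff_mem_zpowers.2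
    ((Subgroup.mem_normalizer_iff.1 D.t_mem x).1 (Subgroup.mem_zpowers x))
  have ha' : x ^ a = t * x * t⁻¹ := ha
  have hpa : ¬ p ∣ a := by
    rintro ⟨b, rfl⟩
    rw [pow_mul, hxp, one_pow, eq_comm, conj_eq_one_iff] at ha'
    rw [← h.order, ha', orderOf_one] at hp
    exact Nat.not_prime_one hp.out
  have hrel : r t * τ = τ ^ a * r t := by
    rw [hτdef, ← map_pow, ← map_mul, ← map_mul, ha', inv_mul_cancel_right]
  have hym : r t ^ (e * Nat.card O) = 1 := by
    rw [← map_pow, pow_mul, orderOf_dvd_iff_pow_eq_one.1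
      ((Subgroup.orderOf_coe (⟨_, D.t_pow⟩ : O)).dvd.trans (orderOf_dvd_natCard _)), map_one]
  have hm : ((e * Nat.card O : ℕ) : K) ≠ 0 := by
    rw [Ne, CharP.cast_eq_zero_iff K p]
    exact fun hd => (hp.out.dvd_mul.1 hd).elim D.e_coprime D.coprime
  obtain ⟨f, hf, hfadj, hf3, hfx, hft, u, hu, hu2⟩ :=
    exists_piece (p := p) τ (r t) (r x⁻¹) (r t⁻¹) (hrinv x) (hrinv t) hs0 hs' hs1
      (by rw [hτdef, ← map_pow, hxp, map_one]) hrel hym hm
      (by rwa [Ne, CharP.cast_eq_zero_iff K p]) (by omega)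
  set N := Subgroup.normalizer ((Subgroup.zpowers x : Subgroup G) : Set G) with hN
  have hfN : ∀ g ∈ N, Commute (σ g) f := by
    intro g hg
    obtain ⟨i, j, o, ho, rfl⟩ := D.normalizer_eq g hg
    rw [map_mul, map_mul, map_pow, map_pow, hσZ o (hO o ho), mul_one]
    exact (Commute.pow_left hfx i).mul_left (Commute.pow_left hft j)
  have hT : (σ x - 1) ^ (p - 1) = 0 := by
    have hcomm : Commute (LinearMap.mulLeft K (τ - 1)) (LinearMap.mulRight K (r x⁻¹)) :=
      LinearMap.commute_mulLeft_right _ _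
    have hdec : σ x - 1 = LinearMap.mulLeft K (τ - 1) * LinearMap.mulRight K (r x⁻¹) +
        LinearMap.mulRight K (r x⁻¹ - 1) := LinearMap.ext fun A => by
      simp only [LinearMap.sub_apply, Module.End.one_apply, LinearMap.add_apply,
        Module.End.mul_apply, LinearMap.mulLeft_apply, LinearMap.mulRight_apply, hσ,
        conjRep_apply, sub_mul, mul_sub, mul_one, one_mul, hτdef, mul_assoc]
      abel
    rw [hdec]
    refine Commute.add_pow_eq_zero_of_add_le_succ_of_pow_eq_zero ?_ (m := n) (n := n) ?_ ?_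
      (by omega)
    · refine ((LinearMap.commute_mulLeft_right _ _).mul_left ?_)
      exact LinearMap.ext fun A => by
        simp [mul_assoc, mul_sub, sub_mul]
    · rw [hcomm.mul_pow, LinearMap.pow_mulLeft, hnil x hxp, LinearMap.mulLeft_zero_eq_zero,
        zero_mul]
    · rw [LinearMap.pow_mulRight, hnil x⁻¹ (by rw [inv_pow, hxp, inv_one]),
        LinearMap.mulRight_zero_eq_zero]
  let β₀ : End K (Fin n → K) → End K (Fin n → K) → K := fun A B =>
    LinearMap.trace K (Fin n → K) (A * B)
  have hinv : ∀ g A B, β₀ (σ g A) (σ g B) = β₀ A B := fun g A B => trace_conjEnd (hrinv g) A B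
  have hnd : ∀ A, (∀ B, β₀ A B = 0) → A = 0 := fun A hA => by
    let T : Matrix (Fin n) (Fin n) K ≃ₐ[K] End K (Fin n → K) := Matrix.toLinAlgEquiv'
    obtain ⟨M, rfl⟩ := T.surjective A
    rw [show M = 0 from Matrix.ext_iff_trace_mul_right.2 fun B => ?_, map_zero]
    rw [zero_mul, Matrix.trace_zero, ← hA (T B)]
    show _ = LinearMap.trace K _ (T M * T B)
    rw [← map_mul]
    exact (Matrix.trace_toLin'_eq _).symm
  obtain ⟨R, j, hRG, hRnd, hequiv⟩ := exists_transfer σ h.order hN.symm
    (fun g hg ho => D.unique g hg ho) hT β₀ (fun A => by simp [β₀])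
    (fun A B C => by simp [β₀, add_mul]) (fun A B C => by simp [β₀, mul_add]) hinv hnd f hf hfadj
    hfN
  let π : G →* End K R :=
    { toFun := fun g => (σ g).restrict (hRG g)
      map_one' := LinearMap.ext fun v => Subtype.ext (by simp)
      map_mul' := fun g g' => LinearMap.ext fun v => Subtype.ext (by simp) }
  let β : R →ₗ[K] R →ₗ[K] K := LinearMap.mk₂ K (fun A B => β₀ (A : End K _) (B : End K _))
    (fun A B C => by simp [β₀, add_mul]) (fun c A B => by simp [β₀])
    (fun A B C => by simp [β₀, mul_add]) (fun c A B => by simp [β₀])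
  refine ⟨⟨K, R, β, π, fun A B => LinearMap.trace_mul_comm K _ _,
    fun A hA => Subtype.ext (hRnd _ A.2 fun B hB => hA ⟨B, hB⟩),
    j.finrank_eq.symm.trans hf3, fun g A B => hinv g _ _, fun g => ?_, ?_⟩,
    fun z hz => LinearMap.ext fun v => Subtype.ext (by
      show σ z (v : End K _) = _
      rw [hσZ z hz]
      rfl)⟩
  · exact FewSylow.hom_eq_one_of_perfect (commutator_eq_top h) ((LinearMap.det (M := R) (A := K)).comp π)
      (A := K) (fun _ _ => mul_comm (G := K) _ _) g
  · have hxN : x ∈ N := Subgroup.le_normalizer (Subgroup.mem_zpowers x)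
    have hmem : ∀ v : LinearMap.range f, σ x (v : End K _) ∈ LinearMap.range f := fun v => by
      obtain ⟨w, hw⟩ := v.2
      refine ⟨σ x w, ?_⟩
      rw [← Module.End.mul_apply, ← (hfN x hxN).eq, Module.End.mul_apply, hw]
    let S : LinearMap.range f → LinearMap.range f := fun v => ⟨_, hmem v⟩
    have hS : ∀ v, j (S v) = π x (j v) := fun v => Subtype.ext (hequiv x hxN v (S v) rfl)
    intro h0
    refine hu2 ?_
    have h1 := sq_transfer (A := LinearMap.range f) (B := R) j S (π x) hS h0 ⟨u, hu⟩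
    have h2 := congrArg Subtype.val h1
    show ((σ x - 1) ^ 2 : End K (End K (Fin n → K))) u = 0
    rw [sq_sub_one_apply]
    simpa [S] using h2

end Cfsg.Agent.H86.HalfDeg
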