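import Cfsg.Agent.H81.SmallDegree
import Cfsg.Agent.H81.PrimeSylowData
import Cfsg.Agent.CharBasic.Integral
import Cfsg.Agent.CharInduce.Ops
import Cfsg.Agent.H83.StarResidue

/-!
# Irreducible groups of degree `(p - 1) / 2`: the centralizer and the kernels

For a faithful irreducible representation of degree `n = (p - 1) / 2` of a group generated by the
conjugates of an element `x` of order `p`: the centralizer of `x` is `⟨x⟩` times scalars and every
normal subgroup of order prime to `p` consists of scalars.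
-/

set_option autoImplicit false
set_option linter.unusedSectionVars false
set_option linter.style.haveILetI false

open scoped ComplexConjugate

namespace Cfsg.Agent.H86.HalfDeg

open Module Matrix H81

variable {G : Type*} [Group G] [Finite G] {p : ℕ} [hp : Fact p.Prime] {n : ℕ}

/-- Sylow data where the kernel is the full part of `⟨t⟩` commuting with `x`. -/
theorem exists_data_full (hsq : ¬ p ^ 2 ∣ Nat.card G) (x : G) (hx : orderOf x = p) :
    ∃ (O : Subgroup G) (t : G) (e : ℕ), PrimeSylowData p x O t e ∧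
      ∀ i : ℕ, Commute x (t ^ i) → t ^ i ∈ O := by
  classical
  set P := Subgroup.zpowers x
  set N := Subgroup.normalizer (P : Set G) with hN
  have hPN : P ≤ N := Subgroup.le_normalizer
  have hcardP : Nat.card P = p := by rw [Nat.card_zpowers, hx]
  haveI hnorm : (P.subgroupOf N).Normal := Subgroup.normal_in_normalizer
  have hcardP' : Nat.card (P.subgroupOf N) = p := by
    rw [Nat.card_congr (Subgroup.subgroupOfEquivOfLe hPN).toEquiv, hcardP]
  have hndvd : ¬ p ∣ (P.subgroupOf N).index := by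
    intro h
    apply hsq
    refine dvd_trans ?_ (Subgroup.card_subgroup_dvd_card N)
    rw [← Subgroup.card_mul_index (P.subgroupOf N), hcardP', sq]
    exact mul_dvd_mul_left p h
  have hco : Nat.Coprime (Nat.card (P.subgroupOf N)) (P.subgroupOf N).index := by
    rw [hcardP']; exact hp.out.coprime_iff_not_dvd.2 hndvd
  obtain ⟨E', hE'⟩ := Subgroup.exists_right_complement'_of_coprime hco
  set E := E'.map N.subtype
  have hEN : E ≤ N := Subgroup.map_subtype_le E'
  have hEcard : ¬ p ∣ Nat.card E := by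
    rw [show Nat.card E = Nat.card E' from (Subgroup.card_map_of_injective N.subtype_injective),
      ← hE'.symm.index_eq_card]
    exact hndvd
  let c : E →* MulAut P :=
    { toFun := fun y =>
        { toFun := fun u => ⟨(y : G) * u * (y : G)⁻¹,
            (Subgroup.mem_normalizer_iff.1 (hEN y.2) u).1 u.2⟩
          invFun := fun u => ⟨(y : G)⁻¹ * u * y, (Subgroup.mem_normalizer_iff.1 (hEN y.2) _).2 (by
            simp [mul_assoc])⟩
          left_inv := fun u => Subtype.ext (by simp [mul_assoc])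
          right_inv := fun u => Subtype.ext (by simp [mul_assoc])
          map_mul' := fun u v => Subtype.ext (by simp [mul_assoc]) }
      map_one' := MulEquiv.ext fun u => Subtype.ext (by simp)
      map_mul' := fun a b => MulEquiv.ext fun u => Subtype.ext (by simp [mul_assoc]) }
  haveI : IsCyclic P := Subgroup.isCyclic_zpowers x
  haveI : IsCyclic (ZMod (Nat.card P))ˣ := by
    haveI : Fact (Nat.card P).Prime := ⟨hcardP.symm ▸ hp.out⟩
    infer_instance
  haveI : IsCyclic (MulAut P) := (IsCyclic.mulAutMulEquiv P).isCyclic.2 inferInstance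
  obtain ⟨⟨γ, t, rfl⟩, hγ⟩ := IsCyclic.exists_generator (α := c.range)
  set O := c.ker.map E.subtype with hO
  have hOcomm : ∀ o ∈ O, x * o = o * x := by
    rintro _ ⟨o, ho, rfl⟩
    have h := congrArg Subtype.val (DFunLike.congr_fun (MonoidHom.mem_ker.1 ho)
      ⟨x, Subgroup.mem_zpowers x⟩)
    have h' : (o : G) * x * (o : G)⁻¹ = x := h
    exact (mul_inv_eq_iff_eq_mul.1 h').symm
  refine ⟨O, (t : G), orderOf (c t), ⟨hx, hOcomm, ?_, hEN t.2, ?_, orderOf_pos _, ?_, ?_, ?_, ?_⟩,
    fun i hi => ?_⟩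
  · intro h
    refine hEcard (h.trans ?_)
    rw [hO, Subgroup.card_map_of_injective E.subtype_injective]
    exact Subgroup.card_subgroup_dvd_card c.ker
  · intro o
    constructor
    · rintro ⟨o', ho', rfl⟩
      exact ⟨t * o' * t⁻¹, MonoidHom.normal_ker c |>.conj_mem o' ho' t, by simp⟩
    · rintro ⟨o', ho', ho''⟩
      refine ⟨t⁻¹ * o' * t, ?_, ?_⟩
      · simpa using (MonoidHom.normal_ker c).conj_mem o' ho' t⁻¹
      · simp only [Subgroup.coe_subtype, Subgroup.coe_mul, Subgroup.coe_inv] at ho'' ⊢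
        rw [ho'']
        simp [mul_assoc]
  · exact fun h => hEcard (h.trans ((orderOf_map_dvd c t).trans
      (orderOf_dvd_natCard t)))
  · exact ⟨t ^ orderOf (c t), by
      rw [SetLike.mem_coe, MonoidHom.mem_ker, map_pow, pow_orderOf_eq_one], by simp⟩
  · intro g hg
    obtain ⟨⟨u, y⟩, huy, -⟩ := Subgroup.isComplement_iff_existsUnique.1 hE' ⟨g, hg⟩
    have hg' : g = ((u : N) : G) * ((y : N) : G) := congrArg Subtype.val huy.symm
    obtain ⟨a, ha⟩ := mem_powers_iff_mem_zpowers.2 (Subgroup.mem_subgroupOf.1 u.2)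
    let y' : E := ⟨((y : N) : G), ⟨(y : N), y.2, rfl⟩⟩
    obtain ⟨i, hi⟩ := mem_powers_iff_mem_zpowers.2 (hγ ⟨c y', y', rfl⟩)
    have hi' : c t ^ i = c y' := congrArg Subtype.val hi
    refine ⟨a, i, ((t ^ i)⁻¹ * y' : E), ⟨(t ^ i)⁻¹ * y', ?_, rfl⟩, ?_⟩
    · rw [SetLike.mem_coe, MonoidHom.mem_ker, map_mul, map_inv, map_pow, hi', inv_mul_cancel]
    · rw [hg', show x ^ a = ((u : N) : G) from ha]
      simp [y']
  · intro g hg hgo
    by_contra hgP
    apply hndvd
    have hord : orderOf ((⟨g, hg⟩ : N) : N ⧸ P.subgroupOf N) = p := by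
      have h := orderOf_map_dvd (QuotientGroup.mk' (P.subgroupOf N)) (⟨g, hg⟩ : N)
      rw [Subgroup.orderOf_mk, hgo] at h
      refine (hp.out.eq_one_or_self_of_dvd _ h).resolve_left ?_
      rw [orderOf_eq_one_iff, QuotientGroup.mk'_apply, QuotientGroup.eq_one_iff]
      simpa [Subgroup.mem_subgroupOf] using hgP
    rw [Subgroup.index_eq_card, ← hord]
    exact orderOf_dvd_natCard _
  · refine ⟨t ^ i, ?_, by simp⟩
    rw [SetLike.mem_coe, MonoidHom.mem_ker]
    refine MulEquiv.ext fun u => ?_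
    obtain ⟨j, hj⟩ := Subgroup.mem_zpowers_iff.1 u.2
    refine Subtype.ext ?_
    show ((t ^ i : E) : G) * u * ((t ^ i : E) : G)⁻¹ = u
    rw [← hj, SubgroupClass.coe_pow, ← (hi.zpow_left j).eq, mul_inv_cancel_right]

/-- Scalar action and centrality agree. -/
theorem mem_center_of_scalar (ρ : Representation ℂ G (Fin n → ℂ))
    (hinj : Function.Injective ρ) {g : G} {c : ℂ} (h : ρ g = c • LinearMap.id) :
    g ∈ Subgroup.center G := by
  refine Subgroup.mem_center_iff.2 fun a => hinj ?_
  rw [map_mul, map_mul, h]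
  ext v
  simp

/-- The element `x` is not central. -/
theorem not_mem_center (ρ : Representation ℂ G (Fin n → ℂ)) [ρ.IsIrreducible] (hn : 2 ≤ n) {x : G}
    (hgen : ∀ K : Subgroup G, K.Normal → x ∈ K → K = ⊤) : x ∉ Subgroup.center G := by
  intro hxZ
  have htop := hgen (Subgroup.center G) inferInstance hxZ
  have h := CharBasic.finrank_dvd_index_center ρ
  rw [htop, Subgroup.index_top, Module.finrank_fin_fun, Nat.dvd_one] at h
  omega

/-- The part of the normalizer commuting with `x` and prime to `p` acts by scalars. -/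
theorem scalar_O (ρ : Representation ℂ G (Fin n → ℂ)) [ρ.IsIrreducible] (hn : 2 ≤ n)
    (hpn : 2 * n + 1 = p) (hinj : Function.Injective ρ) {x t : G} {O : Subgroup G} {e : ℕ}
    (D : PrimeSylowData p x O t e)
    (hgen : ∀ K : Subgroup G, K.Normal → x ∈ K → K = ⊤) {o : G} (ho : o ∈ O) :
    ∃ c : ℂ, ρ o = c • LinearMap.id := by
  classical
  cases nonempty_fintype G
  obtain ⟨A, hA⟩ := H84.exists_valuationSubring p
  haveI := charP_residue A hp.out hA
  obtain ⟨φ, E, hE⟩ := exists_integral_form A ρ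
  set ψ := (upMat A (Fin n)).toMonoidHom.comp φ with hψ
  have hE' : ∀ g v, ψ g *ᵥ E v = E (ρ g v) := hE
  let R : Representation ℂ G (Fin n → ℂ) :=
    ((Matrix.toLinAlgEquiv' : Matrix (Fin n) (Fin n) ℂ ≃ₐ[ℂ] _).toMulEquiv.toMonoidHom).comp ψ
  have hconj : ∀ g, (ψ g⁻¹).trace = (starRingEnd ℂ) (ψ g).trace := fun g => by
    have h := CharBasic.character_inv R g
    have hR : ∀ h, R.character h = (ψ h).trace := fun h => Matrix.trace_toLin'_eq (ψ h)
    rwa [hR, hR] at h
  haveI : Nonempty (Fin n) := ⟨⟨0, by omega⟩⟩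
  have hschur : ∀ M : Matrix (Fin n) (Fin n) ℂ, (∀ g, Commute (ψ g) M) → ∃ c : ℂ, M = c • 1 := by
    intro M hM
    have hcomm : ∀ g, Commute (ρ g) ((E.symm.toLinearMap.comp (Matrix.toLin' M)).comp
        E.toLinearMap) := fun g => LinearMap.ext fun v => by
      simp only [Module.End.mul_apply, LinearMap.comp_apply, LinearEquiv.coe_coe,
        Matrix.toLin'_apply]
      apply E.injective
      rw [← hE', E.apply_symm_apply, E.apply_symm_apply, ← hE', mulVec_mulVec, mulVec_mulVec,
        (hM g).eq]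
    obtain ⟨c, hc⟩ := CharBasic.schur_scalar ρ _ fun g => (hcomm g).symm.eq
    refine ⟨c, Matrix.toLin'.injective (LinearMap.ext fun v => ?_)⟩
    have h := congrArg E (LinearMap.congr_fun hc (E.symm v))
    simp only [LinearMap.comp_apply, LinearEquiv.coe_coe, E.apply_symm_apply,
      LinearMap.smul_apply, LinearMap.id_apply, map_smul] at h
    simpa using h
  haveI : Fintype O := Fintype.ofFinite O
  obtain ⟨r, hrn, hD0, hD1, hr1⟩ := adjoint_fixed_dims ψ hconj hp.out.pos x
    (by rw [← D.order, pow_orderOf_eq_one]) O D.comm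
  rw [Fintype.card_fin] at hrn
  have hr2 : 2 ≤ r := by
    by_contra h
    obtain ⟨c, hc⟩ := hr1 (by omega)
    refine not_mem_center ρ hn hgen (mem_center_of_scalar ρ hinj (c := c) ?_)
    exact LinearMap.ext fun v => E.injective (by
      rw [← hE', hc, LinearMap.smul_apply, LinearMap.id_apply, map_smul, Matrix.smul_mulVec,
        Matrix.one_mulVec])
  -- nilpotency
  set Φ := adMat φ with hΦ
  have hpow : ∀ g : G, g ^ p = 1 → (redMat A (Fin n) (φ g) - 1) ^ n = 0 := fun g hg =>
    sub_one_pow_card_eq_zero (p := p) _ (by rw [← map_pow, ← map_pow, hg, map_one, map_one])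
  have hxp : x ^ p = 1 := by rw [← D.order, pow_orderOf_eq_one]
  have hnil : (redMat A (Fin n × Fin n) (Φ x) - 1) ^ (p - 1) = 0 := by
    have h1 : redMat A (Fin n × Fin n) (Φ x) =
        adMat ((redMat A (Fin n)).toMonoidHom.comp φ) x := adMat_map φ (IsLocalRing.residue A) x
    rw [h1]
    exact sub_one_pow_adMat _ x n (p - 1) (hpow x hxp) (hpow x⁻¹ (by rw [inv_pow, hxp, inv_one]))
      (by omega)
  have hΦψ : (upMat A (Fin n × Fin n)).toMonoidHom.comp Φ = adMat ψ :=
    MonoidHom.ext fun g => adMat_map φ A.subtype g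
  -- the trace zero subspace
  let τ : (Fin n × Fin n → ℂ) →ₗ[ℂ] ℂ := ∑ i : Fin n, LinearMap.proj (i, i)
  have hτ : ∀ M : Matrix (Fin n) (Fin n) ℂ, τ (vec M) = M.trace := fun M => by
    simp [τ, vec, Matrix.trace]
  have hstab : ∀ g, ∀ v ∈ LinearMap.ker τ,
      upMat A (Fin n × Fin n) (Φ g) *ᵥ v ∈ LinearMap.ker τ := by
    intro g v hv
    obtain ⟨M, rfl⟩ := vec_bijective.surjective v
    rw [LinearMap.mem_ker, hτ] at hv
    rw [LinearMap.mem_ker, show upMat A (Fin n × Fin n) (Φ g) = adMat ψ g from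
      DFunLike.congr_fun hΦψ g, adMat_mulVec, hτ, Matrix.trace_mul_cycle, ← map_mul,
      inv_mul_cancel, map_one, Matrix.one_mul, hv]
  have hcommfix : ∀ (g : G) (M : Matrix (Fin n) (Fin n) ℂ),
      adMat ψ g *ᵥ vec M = vec M → Commute (ψ g) M := by
    intro g M h
    rw [adMat_mulVec, vec_inj] at h
    calc ψ g * M = ψ g * M * (ψ g⁻¹ * ψ g) := by
          rw [← map_mul, inv_mul_cancel, map_one, mul_one]
      _ = M * ψ g := by rw [← mul_assoc, h]
  have hfix : fixVec ((upMat A (Fin n × Fin n)).toMonoidHom.comp Φ) Set.univ ⊓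
      LinearMap.ker τ = ⊥ := by
    rw [hΦψ, eq_bot_iff]
    rintro v ⟨hv, hv0⟩
    obtain ⟨M, rfl⟩ := vec_bijective.surjective v
    obtain ⟨c, rfl⟩ := hschur M fun g => hcommfix g M (hv g (Set.mem_univ g))
    have h0 : (c • (1 : Matrix (Fin n) (Fin n) ℂ)).trace = 0 := (hτ _).symm.trans hv0
    rw [Matrix.trace_smul, Matrix.trace_one, Fintype.card_fin, smul_eq_mul, mul_eq_zero,
      Nat.cast_eq_zero] at h0
    rcases h0 with h0 | h0
    · simp [h0]
    · omega
  have key := stable_bound hA Φ D hgen hnil _ hstab hfix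
  rw [hΦψ] at key
  have hdim : ∀ s : Set G,
      finrank ℂ ↥(fixVec (adMat ψ) s ⊓ LinearMap.ker τ) + 1 = finrank ℂ (fixVec (adMat ψ) s) := by
    intro s
    let f : fixVec (adMat ψ) s →ₗ[ℂ] ℂ := τ.comp (fixVec (adMat ψ) s).subtype
    have hone : vec (1 : Matrix (Fin n) (Fin n) ℂ) ∈ fixVec (adMat ψ) s := fun g _ => by
      rw [adMat_mulVec, mul_one, ← map_mul, mul_inv_cancel, map_one]
    have hr : LinearMap.range f = ⊤ := by
      rw [eq_top_iff]
      intro c _
      refine ⟨(c / n) • ⟨_, hone⟩, ?_⟩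
      have hn0 : (n : ℂ) ≠ 0 := by exact_mod_cast (by omega : n ≠ 0)
      simp [f, hτ, hn0]
    have h := LinearMap.finrank_range_add_finrank_ker f
    have hk : LinearMap.ker f =
        (fixVec (adMat ψ) s ⊓ LinearMap.ker τ).comap (fixVec (adMat ψ) s).subtype := by
      ext v; simp [f]
    have hk' : finrank ℂ (LinearMap.ker f) = finrank ℂ ↥(fixVec (adMat ψ) s ⊓ LinearMap.ker τ) := by
      rw [hk]; exact (Submodule.comapSubtypeEquivOfLe inf_le_left).finrank_eq
    rw [hr, finrank_top, finrank_self, hk'] at h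
    omega
  rw [← hdim, ← hdim] at hD0
  rw [← hdim] at hD1
  set a := finrank ℂ ↥(fixVec (adMat ψ) (insert x (O : Set G)) ⊓ LinearMap.ker τ)
  set c := finrank ℂ ↥(fixVec (adMat ψ) (O : Set G) ⊓ LinearMap.ker τ) with hc
  have hfull : finrank ℂ (fixVec (adMat ψ) (O : Set G)) = n * n := by
    refine le_antisymm ((Submodule.finrank_le _).trans (by simp)) ?_
    have hr : r = n := by
      by_contra hne
      have h1 : (p + 1) * a + 2 ≤ 2 * (r * (a + 1)) := by omega
      have h2 : 2 * r + 3 ≤ p + 1 := by omega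
      have h3 := (Nat.add_le_add_right (Nat.mul_le_mul_right a h2) 2).trans h1
      ring_nf at h3
      omega
    subst hr
    rw [← hdim, ← hc]
    subst hpn
    obtain ⟨q, rfl⟩ : ∃ q, r = q + 1 := ⟨r - 1, by omega⟩
    have ha : q ≤ a := by omega
    have h5 := Nat.mul_le_mul_left (q + 2) ha
    ring_nf at key h5 ⊢
    omega
  have htop : fixVec (adMat ψ) (O : Set G) = ⊤ :=
    Submodule.eq_top_of_finrank_eq (by simpa using hfull)
  obtain ⟨d, hd⟩ : ∃ d : ℂ, ψ o = d • 1 := by
    have hall : ∀ M : Matrix (Fin n) (Fin n) ℂ, Commute (ψ o) M := fun M => by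
      refine hcommfix o M ?_
      exact (htop ▸ Submodule.mem_top : vec M ∈ fixVec (adMat ψ) (O : Set G)) o ho
    obtain ⟨d, hd⟩ := Matrix.mem_range_scalar_of_commute_single
      (M := ψ o) fun i j _ => (hall _).symm
    exact ⟨d, by rw [← hd, Matrix.scalar_apply, Matrix.smul_one_eq_diagonal]⟩
  exact ⟨d, LinearMap.ext fun v => E.injective (by
    rw [← hE', hd, LinearMap.smul_apply, LinearMap.id_apply, map_smul, Matrix.smul_mulVec,
      Matrix.one_mulVec])⟩

end Cfsg.Agent.H86.HalfDeg
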